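import Cfsg.Agent.Mrg.Omega.NO3S.Pt.Path
import Cfsg.Agent.Mrg.Omega.NO3S.TypeN.Joined
import Cfsg.Agent.Mrg.Omega.NO3S.Dual.Basic
import Cfsg.Agent.Mrg.Omega.NO3S.Far.Flag
import Cfsg.Agent.Lib.NormalAbelian

-- merged: Cfsg.Agent.Mrg.Omega.NO3S.TwoMid.PartA
section

section


/-!
# NO-3S, `|V| = 4`, critical distance 2 (TwoMid): the K-free part of helper986's text

`outputs/live/blueprints/OMEGA-NO3S-n2-helper986.md`, section 5 (A).

* `fstar` (F2*) : `u ∈ I_l - V_l`, `l = {b, r, br}`: some `g ∈ K_{br} ∩ C(u)` interchanges `b` and `r`;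
* `lone` (L1) : a `T`-invariant `N`, `z ∈ N ≤ W_z`, `V ≰ N`, has `N ∩ I_l ≤ ⟨z⟩`;
* `fix_le`, `three0` (3.0) : `C_{W_x}(f) ≤ W_x ∩ W_{x^f}`; if this is `≤ W_b`, then `2 |W_x : I_bx| ≤ |W_x : C_{W_x}(f)|`;
* `rr_le_of_D` (3.1) : then `[W_x, W_r] ≤ W_b`;
* `mem_of_fstar` (3.1, F2*-trick) : `d ∈ [W_x, W_r] ∩ W_b`, `d ∉ V_br`, implies `d ∈ [U_r, W_b]`;
* `beta` (4.1) : `[W_x, W_r] = 1`, no over-offender: `W_x` is exact on `M_a`, with centraliser `I_ra`, regular on `f`.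
-/

set_option autoImplicit false
set_option linter.unusedSectionVars false

namespace Cfsg.Agent.Omega.NO3S.TwoMid

open Subgroup Cfsg Cfsg.Agent.ZN Cfsg.Agent.MinSimple.Geo Cfsg.Agent.Omega.CaseL Cfsg.Agent.Omega.NO3S.TwoOne
  Cfsg.Agent.Omega.NO3S.Pt
open Cfsg.Agent.Omega.NO3S.TypeN (exists_conj_flag)
open Cfsg.Agent.ZN.Block (conj_mem_of_normalizer conj_mem_of_normalizer' le_normalizer_of_forall
  mem_normalizer_of)

universe u

variable {G : Type u} [Group G] {T V : Subgroup G} {z : G} {a b c d f p r x y : G}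

/-! ### lines -/

/-- `V_br` -/
def vl (b r : G) : Subgroup G := closure {b, r}

theorem vl_le {g : G} (hb : b ∈ cj g V) (hr : r ∈ cj g V) : vl b r ≤ cj g V := by
  rw [vl, closure_le]
  rintro x (rfl | rfl)
  · exact hb
  · exact hr

theorem vl_eq (h : Fr T V z) {g : G} (hb : b ∈ cj g V) (hr : r ∈ cj g V) (hb1 : b ≠ 1) (hr1 : r ≠ 1)
    (hbr : b ≠ r) : vl b r = cj g V := by
  refine le_antisymm (vl_le hb hr) fun v hv => ?_
  obtain ⟨k, -, -, hf⟩ := h.flag hb hb1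
  have h1 : b ∈ vl b r := subset_closure (Or.inl rfl)
  have h2 : r ∈ vl b r := subset_closure (Or.inr rfl)
  rcases hf.ln.four hb hr hb1 hr1 hbr hv with e | e | e | e
  · rw [e]; exact one_mem _
  · rw [e]; exact h1
  · rw [e]; exact h2
  · rw [e]; exact mul_mem h1 h2

theorem col_mul (h : Fr T V z) (hbr : Col V b r) (hne : b ≠ r) : Col V b (b * r) := by
  obtain ⟨g, hb, hr, hb1, hr1⟩ := hbr
  obtain ⟨k, -, -, hf⟩ := h.flag hb hb1
  exact ⟨g, hb, mul_mem hb hr, hb1, hf.mul_ne_one hr hne⟩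

/-- `W_b ∩ W_r = I_l` -/
theorem mem_ii_iff (h : Fr T V z) {g : G} (hb : b ∈ cj g V) (hr : r ∈ cj g V) (hb1 : b ≠ 1) (hr1 : r ≠ 1)
    (hbr : b ≠ r) {u : G} : u ∈ ws V b ⊓ ws V r ↔ u ∈ ii (cj g V) :=
  ⟨fun hu => h.mem_ii_cj hb hb1 hr hr1 (Ne.symm hbr) hu.1 hu.2,
    fun hu => ⟨h.ii_cj_le hb hb1 hu, h.ii_cj_le hr hr1 hu⟩⟩

/-- **(F2*)** -/
theorem fstar [Finite G] (h : Fr T V z) (hbr : Col V b r) (hne : b ≠ r) (hd : d ∈ ws V b ⊓ ws V r) (hdl : d ∉ vl b r) :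
    ∃ g ∈ kq V (b * r), g * d = d * g ∧ g * b * g⁻¹ = r ∧ g * r * g⁻¹ = b := by
  obtain ⟨g, hb, hr, hb1, hr1⟩ := hbr
  obtain ⟨_, -, -, hf⟩ := h.flag hb hb1
  have hV := vl_eq h hb hr hb1 hr1 hne
  have hbr' : b * r ∈ cj g V := mul_mem hb hr
  have hbr1 : b * r ≠ 1 := hf.mul_ne_one hr hne
  have hbb : b * b = 1 := hf.ln.sq b hb
  have hrr : r * r = 1 := hf.ln.sq r hr
  have hcomm : b * r = r * b := hf.ln.comm hb hr
  have hu : d ∈ ii (cj g V) := (mem_ii_iff h hb hr hb1 hr1 hne).mp hd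
  obtain ⟨k, hk, -, hkm⟩ := h.mover_cj hbr' hbr1
  have hb2 : b ≠ b * r := fun e => hr1 (by simpa using e.symm)
  have hr2 : r ≠ b * r := fun e => hb1 (by simpa using e.symm)
  have e1 : k * b * k⁻¹ = r := by
    rw [hkm b hb hb1 hb2, hcomm, mul_assoc, hbb, mul_one]
  have e2 : k * r * k⁻¹ = b := by
    rw [hkm r hr hr1 hr2, mul_assoc, hrr, mul_one]
  have hdb : d ∈ ws V (b * r) := h.ii_cj_le hbr' hbr1 hu
  rcases h.kq_cases' ⟨g, hbr', hbr', hbr1, hbr1⟩ hk hdb with e3 | e3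
  · exact ⟨k, hk, comm_of_conj_eq e3, e1, e2⟩
  · obtain ⟨m, hm, hmV, hmd⟩ := h.fu_cj hu (by rw [← hV]; exact hdl) hbr' hbr1
    have hmb : m * b = b * m := (mem_centralizer_iff.mp hmV b hb).symm
    have hmr : m * r = r * m := (mem_centralizer_iff.mp hmV r hr).symm
    have hmbr : m * (b * r) * m⁻¹ = b * r := by
      rw [mem_centralizer_iff.mp hmV (b * r) hbr' |>.symm, mul_inv_cancel_right]
    refine ⟨m * k, mul_mem hm hk, ?_, ?_, ?_⟩
    · apply comm_of_conj_eq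
      calc m * k * d * (m * k)⁻¹ = m * (k * d * k⁻¹) * m⁻¹ := by group
        _ = (m * (b * r) * m⁻¹) * (m * d * m⁻¹) := by rw [e3]; group
        _ = (b * r) * (b * r) * d := by rw [hmbr, hmd]; group
        _ = d := by rw [hf.ln.sq _ hbr', one_mul]
    · calc m * k * b * (m * k)⁻¹ = m * (k * b * k⁻¹) * m⁻¹ := by group
        _ = r := by rw [e1, hmr, mul_inv_cancel_right]
    · calc m * k * r * (m * k)⁻¹ = m * (k * r * k⁻¹) * m⁻¹ := by group
        _ = b := by rw [e2, hmb, mul_inv_cancel_right]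

/-! ### (L1) -/

/-- a nontrivial section `B / A` has a nontrivial fixed point under a 2-group -/
theorem exists_fixed_mod [Finite G] {T B A : Subgroup G} (hT : IsPGroup 2 T) (hBT : B ≤ T)
    (hB : T ≤ normalizer (B : Set G)) (hA : T ≤ normalizer (A : Set G)) (hne : ¬ B ≤ A) :
    ∃ m ∈ B, m ∉ A ∧ ∀ t ∈ T, t * m * t⁻¹ * m⁻¹ ∈ A := by
  have : Fact (Nat.Prime 2) := ⟨Nat.prime_two⟩
  have hnA : (A.subgroupOf T).Normal := normal_subgroupOf_of_le_normalizer hA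
  have hnB : (B.subgroupOf T).Normal := normal_subgroupOf_of_le_normalizer hB
  have hp : IsPGroup 2 (T ⧸ A.subgroupOf T) := hT.to_quotient _
  have : Group.IsNilpotent (T ⧸ A.subgroupOf T) := hp.isNilpotent
  let N : Subgroup (T ⧸ A.subgroupOf T) := (B.subgroupOf T).map (QuotientGroup.mk' (A.subgroupOf T))
  have hN : N.Normal := hnB.map _ (QuotientGroup.mk'_surjective _)
  have hN1 : N ≠ ⊥ := by
    intro h
    apply hne
    intro x hx
    have h1 : QuotientGroup.mk' (A.subgroupOf T) ⟨x, hBT hx⟩ ∈ N := ⟨⟨x, hBT hx⟩, hx, rfl⟩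
    rw [h, mem_bot] at h1
    exact (QuotientGroup.eq_one_iff (⟨x, hBT hx⟩ : T)).1 h1
  have h2 := Lib.NormalAbelian.normal_inf_center_ne_bot N hN1
  obtain ⟨⟨y, hy⟩, hy1⟩ := Subgroup.ne_bot_iff_exists_ne_one.1 h2
  obtain ⟨⟨m, hm, rfl⟩, hyc⟩ := mem_inf.1 hy
  refine ⟨m, hm, fun h => hy1 ?_, fun t ht => ?_⟩
  · apply Subtype.ext
    exact (QuotientGroup.eq_one_iff m).2 h
  · have h3 := mem_center_iff.1 hyc (QuotientGroup.mk' (A.subgroupOf T) ⟨t, ht⟩)
    rw [← map_mul, ← map_mul] at h3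
    have h4 : QuotientGroup.mk' (A.subgroupOf T) (⟨t, ht⟩ * m * (⟨t, ht⟩ : T)⁻¹ * m⁻¹) = 1 := by
      rw [mul_assoc, map_mul, h3, ← map_mul]
      rw [show m * ⟨t, ht⟩ * ((⟨t, ht⟩ : T)⁻¹ * m⁻¹) = 1 by group, map_one]
    have h5 := (QuotientGroup.eq_one_iff ((⟨t, ht⟩ : T) * m * (⟨t, ht⟩ : T)⁻¹ * m⁻¹)).1 h4
    exact h5

theorem toAb (h : Fr T V z) : Far.Ab T V z := ⟨h.ln, h.ab, h.f1⟩

/-- **(L1)** -/
theorem lone [Finite G] (h : Fr T V z) {N : Subgroup G} (hz : z ∈ N) (hTN : T ≤ normalizer (N : Set G))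
    (hV : ¬ V ≤ N) : N ⊓ ii V ≤ zpowers z := by
  by_contra hne
  have hiT : ii V ≤ T := (ii_le h.ln.z_mem h.ln.z_ne).trans h.ln.ws_le_T
  have h1 : T ≤ normalizer ((N ⊓ ii V : Subgroup G) : Set G) := by
    refine le_normalizer_of_forall fun t ht u hu => ?_
    exact mem_inf.mpr ⟨conj_mem_of_normalizer hTN ht hu.1,
      conj_mem_of_normalizer (h.ln.T_norm.trans (normalizer_le_normalizer_ii V)) ht hu.2⟩
  have h2 : T ≤ normalizer ((zpowers z : Subgroup G) : Set G) := by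
    refine le_normalizer_of_forall fun t ht u hu => ?_
    obtain ⟨n, rfl⟩ := mem_zpowers_iff.mp hu
    have : Commute t z := mem_centralizer_singleton_iff.mp (h.ln.T_le ht)
    rw [(this.zpow_right n).eq, mul_inv_cancel_right]
    exact hu
  obtain ⟨u, hu, huz, hut⟩ := exists_fixed_mod h.ln.two (inf_le_right.trans hiT) h1 h2 hne
  have huV : u ∈ V := by
    refine (toAb h).mem_V_of_T hu.2 fun t ht => ?_
    rcases (mem_zpowers_iff_of_mul_self h.ln.zz).mp (hut t ht) with e | e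
    · left
      calc t * u * t⁻¹ = (t * u * t⁻¹ * u⁻¹) * u := by group
        _ = u := by rw [e, one_mul]
    · right
      calc t * u * t⁻¹ = (t * u * t⁻¹ * u⁻¹) * u := by group
        _ = z * u := by rw [e]
  apply hV
  intro v hv
  have hu1 : u ≠ 1 := fun e => huz (e ▸ one_mem _)
  have huz' : z ≠ u := fun e => huz (e ▸ mem_zpowers z)
  rcases h.ln.four h.ln.z_mem huV h.ln.z_ne hu1 huz' hv with e | e | e | e
  · rw [e]; exact one_mem _
  · rw [e]; exact hz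
  · rw [e]; exact hu.1
  · rw [e]; exact mul_mem hz hu.1

/-! ### (3.0), (3.1) -/

/-- `C_{W_x}(f) ≤ W_{x^f}` -/
theorem fix_le (V : Subgroup G) (x f : G) : ws V x ⊓ centralizer ({f} : Set G) ≤ ws V x ⊓ ws V (f * x * f⁻¹) := by
  rintro y ⟨h1, h2⟩
  refine ⟨h1, ?_⟩
  have := conj_mem_ws f h1
  rwa [← mem_centralizer_singleton_iff.mp h2, mul_inv_cancel_right] at this

theorem x_not_mem (hx : f * x * f⁻¹ ≠ x) : x ∉ ws V x ⊓ centralizer ({f} : Set G) := by
  rintro ⟨-, h2⟩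
  apply hx
  rw [← mem_centralizer_singleton_iff.mp h2, mul_inv_cancel_right]

theorem two_mul_relIndex_le [Finite G] {A B C : Subgroup G} (hAB : A < B) (hBC : B ≤ C) :
    2 * B.relIndex C ≤ A.relIndex C := by
  rw [← relIndex_mul_relIndex A B C hAB.le hBC]
  refine Nat.mul_le_mul_right _ ?_
  have h1 : A.relIndex B ≠ 1 := fun e => absurd (relIndex_eq_one.mp e) hAB.not_ge
  have h2 : A.relIndex B ≠ 0 := index_ne_zero_of_finite
  omega

/-- **(3.0)** -/
theorem three0 [Finite G] (h : Fr T V z) (hbx : Col V b x) (hx : f * x * f⁻¹ ≠ x)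
    (hD : ws V x ⊓ ws V (f * x * f⁻¹) ≤ ws V b) :
    ws V x ⊓ centralizer ({f} : Set G) < ws V b ⊓ ws V x ∧
    2 * (ws V b ⊓ ws V x).relIndex (ws V x) ≤ (ws V x ⊓ centralizer ({f} : Set G)).relIndex (ws V x) := by
  have h1 : ws V x ⊓ centralizer ({f} : Set G) < ws V b ⊓ ws V x := by
    refine lt_of_le_of_ne (le_inf ((fix_le V x f).trans hD) inf_le_left) fun e => ?_
    apply x_not_mem (V := V) hx
    rw [e]
    exact ⟨h.mem_ws_of_col hbx, h.mem_ws_self hbx.right⟩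
  exact ⟨h1, two_mul_relIndex_le h1 inf_le_right⟩

/-- **(3.1)** `[W_x, W_r] ≤ W_b` -/
theorem rr_le_of_D (h : Two T V z) (har : Col V a r) (hbr : Col V b r) (hbx : Col V b x) (hf : f ∈ ws V a)
    (hD : ws V x ⊓ ws V (f * x * f⁻¹) ≤ ws V b) : rr V x r ≤ ws V b := by
  have h1 : rr V x r ≤ ws V x ⊓ ws V r := by
    refine (closure_le _).mpr ?_
    rintro _ ⟨u, hu, w, hw, rfl⟩
    exact h.comm_mem hbx.symm hbr hu hw
  intro d hd
  refine hD ⟨(h1 hd).1, ?_⟩
  have h2 := conj_mem_ws f (h1 hd).1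
  have h3 : f * d = d * f := h.com har f hf d (h1 hd).2
  rwa [h3, mul_inv_cancel_right] at h2

theorem rr_le_commutator (V : Subgroup G) (hbx : Col V b x) (r : G) : rr V x r ≤ ⁅uu V b, ws V r⁆ := by
  refine (closure_le _).mpr ?_
  rintro _ ⟨u, hu, w, hw, rfl⟩
  exact commutator_mem_commutator (ws_le_uu hbx hu) hw

theorem cj_commutator (g : G) (A B : Subgroup G) : cj g ⁅A, B⁆ = ⁅cj g A, cj g B⁆ := by
  unfold cj
  exact map_commutator _ _ _

/-- **(3.1), the F2*-trick**: `d ∈ [W_x, W_r] ∩ W_b`, `d ∉ V_br` implies `d ∈ [U_r, W_b]` -/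
theorem mem_of_fstar [Finite G] (h : Two T V z) (hbr : Col V b r) (hne : b ≠ r) (hbx : Col V b x)
    (hd : d ∈ rr V x r) (hdb : d ∈ ws V b) (hdl : d ∉ vl b r) : d ∈ ⁅uu V r, ws V b⁆ := by
  have h1 : d ∈ ws V r := by
    have : rr V x r ≤ ws V x ⊓ ws V r := by
      refine (closure_le _).mpr ?_
      rintro _ ⟨u, hu, w, hw, rfl⟩
      exact h.comm_mem hbx.symm hbr hu hw
    exact (this hd).2
  obtain ⟨g, -, hgd, hgb, hgr⟩ := fstar h.fr hbr hne ⟨hdb, h1⟩ hdl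
  have h2 := conj_mem_cj (g := g) (rr_le_commutator V hbx r hd)
  rw [cj_commutator, cj_uu, cj_ws, hgb, hgr, hgd, mul_inv_cancel_right] at h2
  exact h2

theorem relIndex_const (h : Fr T V z) (hbx : Col V b x) (hne : x ≠ b) (har : Col V a r) (hne' : r ≠ a) :
    (ws V b ⊓ ws V x).relIndex (ws V x) = (ws V a ⊓ ws V r).relIndex (ws V r) := by
  obtain ⟨g, h1, h2⟩ := exists_conj_flag h hbx hne har hne'
  have h3 : cj g (ws V b ⊓ ws V x) = ws V a ⊓ ws V r := by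
    unfold cj
    rw [map_inf _ _ _ (MulAut.conj g).injective]
    change cj g (ws V b) ⊓ cj g (ws V x) = _
    rw [cj_ws, cj_ws, h1, h2]
  have h4 : cj g (ws V x) = ws V r := by rw [cj_ws, h2]
  rw [← h3, ← h4]
  unfold cj
  exact (relIndex_map_map_of_injective _ _ (MulAut.conj g).injective).symm

theorem relIndex_comm (h : Fr T V z) (hbx : Col V b x) (hne : x ≠ b) :
    (ws V b ⊓ ws V x).relIndex (ws V x) = (ws V b ⊓ ws V x).relIndex (ws V b) := by
  have := relIndex_const h hbx hne hbx.symm (Ne.symm hne)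
  rwa [inf_comm (ws V x) (ws V b)] at this

/-! ### (4.1) -/

/-- the elements of `W_a` commuting with `X` modulo `⟨a⟩` (the preimage of `C_{M_a}(X)`) -/
def cmod (V : Subgroup G) (a : G) (X : Subgroup G) : Subgroup G where
  carrier := {w | w ∈ ws V a ∧ w * a = a * w ∧ ∀ y ∈ X, y * w * y⁻¹ * w⁻¹ ∈ zpowers a}
  mul_mem' := by
    rintro w w' ⟨h1, h2, h3⟩ ⟨h1', h2', h3'⟩
    refine ⟨mul_mem h1 h1', mul_comm_of h2 h2', fun y hy => ?_⟩
    have e : y * (w * w') * y⁻¹ * (w * w')⁻¹ = (y * w * y⁻¹ * w⁻¹) * (w * (y * w' * y⁻¹ * w'⁻¹) * w⁻¹) := by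
      group
    rw [e, TyN.zc (mem_centralizer_singleton_iff.mpr h2) (h3' y hy)]
    exact mul_mem (h3 y hy) (h3' y hy)
  one_mem' := ⟨one_mem _, by simp, fun y _ => by simp⟩
  inv_mem' := by
    rintro w ⟨h1, h2, h3⟩
    refine ⟨inv_mem h1, inv_comm_of h2, fun y hy => ?_⟩
    have e : y * w⁻¹ * y⁻¹ * w⁻¹⁻¹ = (w⁻¹ * (y * w * y⁻¹ * w⁻¹) * w⁻¹⁻¹)⁻¹ := by group
    rw [e, TyN.zc (inv_mem (mem_centralizer_singleton_iff.mpr h2)) (h3 y hy)]
    exact inv_mem (h3 y hy)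

theorem mem_cmod (h : Fr T V z) (ha : Col V a a) {X : Subgroup G} {w : G} :
    w ∈ cmod V a X ↔ w ∈ ws V a ∧ ∀ y ∈ X, y * w * y⁻¹ * w⁻¹ ∈ zpowers a :=
  ⟨fun hw => ⟨hw.1, hw.2.2⟩, fun hw => ⟨hw.1, h.ws_comm ha w hw.1 a (h.mem_ws_self ha), hw.2⟩⟩

theorem cmod_le (V : Subgroup G) (a : G) (X : Subgroup G) : cmod V a X ≤ ws V a := fun _ h => h.1

/-- the image of `X` in `H_a` is not an over-offender on `M_a` -/
def NoOv (V : Subgroup G) (a : G) (X : Subgroup G) : Prop :=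
  (X ⊓ kq V a).relIndex X ≤ (cmod V a X).relIndex (ws V a)

/-- the elements of `X` commuting with `f` modulo the central `⟨a⟩` -/
def xmod (a : G) (X : Subgroup G) (f : G) : Subgroup G where
  carrier := {y | y ∈ X ∧ y * a = a * y ∧ y * f * y⁻¹ * f⁻¹ ∈ zpowers a}
  mul_mem' := by
    rintro y y' ⟨h1, h2, h3⟩ ⟨h1', h2', h3'⟩
    refine ⟨mul_mem h1 h1', mul_comm_of h2 h2', ?_⟩
    have e : y * y' * f * (y * y')⁻¹ * f⁻¹ = (y * (y' * f * y'⁻¹ * f⁻¹) * y⁻¹) * (y * f * y⁻¹ * f⁻¹) := by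
      group
    rw [e, TyN.zc (mem_centralizer_singleton_iff.mpr h2) h3']
    exact mul_mem h3' h3
  one_mem' := ⟨one_mem _, by simp, by simp⟩
  inv_mem' := by
    rintro y ⟨h1, h2, h3⟩
    refine ⟨inv_mem h1, inv_comm_of h2, ?_⟩
    have e : y⁻¹ * f * y⁻¹⁻¹ * f⁻¹ = (y⁻¹ * (y * f * y⁻¹ * f⁻¹) * y⁻¹⁻¹)⁻¹ := by group
    rw [e, TyN.zc (inv_mem (mem_centralizer_singleton_iff.mpr h2)) h3]
    exact inv_mem h3

theorem xmod_relIndex_le [Finite G] {X : Subgroup G} (haa : a * a = 1) :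
    (X ⊓ centralizer ({f} : Set G)).relIndex (xmod a X f) ≤ 2 := by
  by_cases hle : xmod a X f ≤ X ⊓ centralizer ({f} : Set G)
  · rw [relIndex_eq_one.mpr hle]
    norm_num
  obtain ⟨u, hu, hun⟩ := SetLike.not_le_iff_exists.mp hle
  refine le_of_eq (relIndex_eq_two_iff.mpr ⟨u, hu, fun y hy => ?_⟩)
  have hcase : ∀ y ∈ xmod a X f, y ∉ X ⊓ centralizer ({f} : Set G) → y * f * y⁻¹ * f⁻¹ = a := by
    intro y hy hyn
    rcases (mem_zpowers_iff_of_mul_self haa).mp hy.2.2 with e | e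
    · exfalso
      apply hyn
      refine mem_inf.mpr ⟨hy.1, mem_centralizer_singleton_iff.mpr ?_⟩
      calc y * f = (y * f * y⁻¹ * f⁻¹) * (f * y) := by group
        _ = f * y := by rw [e, one_mul]
    · exact e
  by_cases hyc : y ∈ X ⊓ centralizer ({f} : Set G)
  · refine Or.inr ⟨hyc, fun h1 => hun ?_⟩
    have := mul_mem (inv_mem hyc) h1
    rwa [inv_mul_cancel_left] at this
  · refine Or.inl ⟨mem_inf.mpr ⟨mul_mem hy.1 hu.1, mem_centralizer_singleton_iff.mpr ?_⟩, hyc⟩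
    have e1 := hcase y hy hyc
    have e2 := hcase u hu hun
    have e3 : y * u * f * (y * u)⁻¹ * f⁻¹ = 1 := by
      calc y * u * f * (y * u)⁻¹ * f⁻¹ = (y * (u * f * u⁻¹ * f⁻¹) * y⁻¹) * (y * f * y⁻¹ * f⁻¹) := by group
        _ = (y * a * y⁻¹) * a := by rw [e1, e2]
        _ = 1 := by rw [hy.2.1, mul_inv_cancel_right, haa]
    calc y * u * f = (y * u * f * (y * u)⁻¹ * f⁻¹) * (f * (y * u)) := by group
      _ = f * (y * u) := by rw [e3, one_mul]

/-- **(4.1)** -/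
theorem beta [Finite G] (h : Mid T V z a r b) (hbx : Col V b x) (hf : f ∈ ws V a) (hxf : f * x * f⁻¹ ≠ x)
    (hD : ws V x ⊓ ws V (f * x * f⁻¹) ≤ ws V b) (hcom : Com V x r) (hNO : NoOv V a (ws V x)) :
    cmod V a (ws V x) = ws V a ⊓ ws V r ∧
    (∀ y ∈ ws V x, y * f * y⁻¹ * f⁻¹ ∈ zpowers a → y ∈ kq V a) ∧
    (ws V x ⊓ kq V a).relIndex (ws V x) = (ws V a ⊓ ws V r).relIndex (ws V a) ∧
    (ws V x ⊓ centralizer ({f} : Set G)).relIndex (ws V x) = 2 * (ws V b ⊓ ws V x).relIndex (ws V x) := by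
  have har := h.pr
  have haa : a * a = 1 := h.fr.pt_sq har.left
  have hxb : x ≠ b := by
    rintro rfl
    apply hxf
    have h1 : f * x = x * f := by
      have := h.symm.cent hf
      rw [mem_centralizer_singleton_iff] at this
      exact this
    rw [h1, mul_inv_cancel_right]
  -- `W_x ≤ C(a)`
  have hxa : ∀ y ∈ ws V x, y * a = a * y := fun y hy => hcom y hy a (h.fr.mem_ws_of_col har.symm)
  obtain ⟨-, h1⟩ := three0 h.fr hbx hxf hD
  have hn : (ws V b ⊓ ws V x).relIndex (ws V x) = (ws V a ⊓ ws V r).relIndex (ws V a) := by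
    have := relIndex_const h.fr hbx hxb har.symm h.ne_pr
    rwa [inf_comm (ws V r) (ws V a)] at this
  -- `C_{W_x}(f) ≤ Y ≤ W_x`
  set Y := xmod a (ws V x) f with hY
  have hYx : Y ≤ ws V x := fun y hy => hy.1
  have hCY : ws V x ⊓ centralizer ({f} : Set G) ≤ Y := by
    rintro y ⟨hy, hyf⟩
    refine ⟨hy, hxa y hy, ?_⟩
    rw [mem_centralizer_singleton_iff.mp hyf, mul_inv_cancel_right, mul_inv_cancel]
    exact one_mem _
  have hKY : ws V x ⊓ kq V a ≤ Y := fun y hy => ⟨hy.1, hxa y hy.1, kq_comm hy.2 hf⟩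
  have h2 := relIndex_mul_relIndex _ _ _ hCY hYx
  have h3 := xmod_relIndex_le (X := ws V x) (f := f) haa
  have h4 := relIndex_mul_relIndex _ _ _ hKY hYx
  have hsub : ws V a ⊓ ws V r ≤ cmod V a (ws V x) := by
    rintro w ⟨hw1, hw2⟩
    rw [mem_cmod h.fr har.left]
    refine ⟨hw1, fun y hy => ?_⟩
    rw [hcom y hy w hw2, mul_inv_cancel_right, mul_inv_cancel]
    exact one_mem _
  have h5 := relIndex_mul_relIndex _ _ _ hsub (cmod_le V a (ws V x))
  have hNO' : (ws V x ⊓ kq V a).relIndex (ws V x) ≤ (cmod V a (ws V x)).relIndex (ws V a) := hNO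
  set n := (ws V b ⊓ ws V x).relIndex (ws V x) with hndef
  rw [← hn] at h5 ⊢
  have p1 : 0 < Y.relIndex (ws V x) := Nat.pos_of_ne_zero index_ne_zero_of_finite
  have p2 : 0 < (ws V x ⊓ kq V a).relIndex Y := Nat.pos_of_ne_zero index_ne_zero_of_finite
  have p3 : 0 < (ws V a ⊓ ws V r).relIndex (cmod V a (ws V x)) := Nat.pos_of_ne_zero index_ne_zero_of_finite
  have p4 : 0 < (cmod V a (ws V x)).relIndex (ws V a) := Nat.pos_of_ne_zero index_ne_zero_of_finite
  -- `n ≤ |W_x : Y|`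
  have q1 : n ≤ Y.relIndex (ws V x) := by
    have : 2 * n ≤ 2 * Y.relIndex (ws V x) := by
      rw [← h2] at h1
      exact h1.trans (Nat.mul_le_mul_right _ h3)
    omega
  have q2 : Y.relIndex (ws V x) ≤ (ws V x ⊓ kq V a).relIndex (ws V x) := by
    rw [← h4]
    exact Nat.le_mul_of_pos_left _ p2
  have q3 : (cmod V a (ws V x)).relIndex (ws V a) ≤ n := by
    rw [← h5]
    exact Nat.le_mul_of_pos_left _ p3
  have r1 : (cmod V a (ws V x)).relIndex (ws V a) = n := le_antisymm q3 (by omega)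
  have r2 : (ws V x ⊓ kq V a).relIndex (ws V x) = n := le_antisymm (by omega) (by omega)
  have r3 : Y.relIndex (ws V x) = n := le_antisymm (by omega) q1
  have hnpos : 0 < n := by rw [← r3]; exact p1
  refine ⟨?_, ?_, r2, ?_⟩
  · rw [r1] at h5
    have h6 : (ws V a ⊓ ws V r).relIndex (cmod V a (ws V x)) = 1 :=
      Nat.eq_of_mul_eq_mul_right hnpos (by rw [h5, one_mul])
    exact le_antisymm (relIndex_eq_one.mp h6) hsub
  · intro y hy hyf
    rw [r2, r3] at h4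
    have h6 : (ws V x ⊓ kq V a).relIndex Y = 1 :=
      Nat.eq_of_mul_eq_mul_right hnpos (by rw [h4, one_mul])
    exact (relIndex_eq_one.mp h6 ⟨hy, hxa y hy, hyf⟩).2
  · refine le_antisymm ?_ h1
    rw [← h2, r3]
    exact Nat.mul_le_mul_right _ h3

end Cfsg.Agent.Omega.NO3S.TwoMid

end

section


/-!
# NO-3S, `|V| = 4`, critical distance 2 (TwoMid): LEMMA N (helper986 #17014), THEOREM N* (helper804 #17001), K-free

* `lemN` : `r ~ b`, `X ≤ W_b` normalised by `C(b) ∩ C(r)`, `b ∉ X`: `X ⊆ {1, r, rb}`;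
* `tyN_or'` : either type N (`[W_a, W_b] ≤ ⟨r⟩` for all `a ~ r ~ b`), or `b ∈ [W_b, U_r]` for all `r ~ b`, `r ≠ b`;
* `tyN_or` : either type N, or `b ∈ [U_r, U_r]` for all `r ~ b`, so `W_r ≤ [U_r, U_r]` (`ws_le_commutator`).
-/

set_option autoImplicit false
set_option linter.unusedSectionVars false

namespace Cfsg.Agent.Omega.NO3S.TwoMid

open Subgroup Cfsg Cfsg.Agent.ZN Cfsg.Agent.MinSimple.Geo Cfsg.Agent.Omega.CaseL Cfsg.Agent.Omega.NO3S.TwoOne
  Cfsg.Agent.Omega.NO3S.Pt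
open Cfsg.Agent.Omega.NO3S.Dual (nn mem_nn DW mem_sup_of_comm)
open Cfsg.Agent.Omega.NO3S.TypeN (exists_conj_flag)
open Cfsg.Agent.ZN.Block (conj_mem_of_normalizer conj_mem_of_normalizer' le_normalizer_of_forall
  mem_normalizer_of)
open scoped commutatorElement

universe u

variable {G : Type u} [Group G] {T V : Subgroup G} {z : G} {a b r : G}

section

variable [Finite G]

/-- `U_r ≤ C(b)` -/
theorem uu_le_centralizer (h : Two T V z) (hrb : Col V r b) : uu V r ≤ centralizer ({b} : Set G) :=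
  (h.uu_le_cent r).trans (h.cent_ws_le hrb)

/-- `⟨r⟩ N_b` -/
def mm (V : Subgroup G) (r b : G) : Subgroup G := zpowers r ⊔ nn (ws V b) (kq V b)

omit [Finite G] in
theorem nn_conj {g y : G} (hg : g ∈ centralizer ({b} : Set G)) (hy : y ∈ nn (ws V b) (kq V b)) :
    g * y * g⁻¹ ∈ nn (ws V b) (kq V b) := by
  have h1 : centralizer ({b} : Set G) ≤ normalizer ((nn (ws V b) (kq V b) : Subgroup G) : Set G) := by
    refine le_trans (le_inf (centralizer_le_normalizer_ws V b)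
      ((centralizer_le_normalizer_kq V b).trans (normalizer_le_normalizer_centralizer _))) ?_
    intro x hx
    refine mem_normalizer_iff.mpr fun y => ?_
    unfold nn
    rw [mem_inf, mem_inf, ← mem_normalizer_iff.mp hx.1 y, ← mem_normalizer_iff.mp hx.2 y]
  exact conj_mem_of_normalizer h1 hg hy

theorem mem_mm (h : Fr T V z) (hrb : Col V r b) {v : G} (hv : v ∈ mm V r b) :
    v ∈ nn (ws V b) (kq V b) ∨ ∃ y ∈ nn (ws V b) (kq V b), v = r * y := by
  have hrW : r ∈ ws V b := h.mem_ws_of_col hrb.symm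
  obtain ⟨c, hc, y, hy, rfl⟩ := mem_sup_of_comm (h.ws_comm hrb.right) (by rwa [zpowers_le])
    inf_le_left hv
  rcases (mem_zpowers_iff_of_mul_self (h.pt_sq hrb.left)).mp hc with e | e
  · left; rw [e, one_mul]; exact hy
  · right; exact ⟨y, hy, by rw [e]⟩

/-- **LEMMA N** (helper986) -/
theorem lemN (h : Fr T V z) (hrb : Col V r b) (hne : r ≠ b) {D : Subgroup G} (hDW : D ≤ ws V b)
    (hDg : ∀ g : G, g * b = b * g → g * r = r * g → ∀ d ∈ D, g * d * g⁻¹ ∈ D) (hbD : b ∉ D) :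
    ∀ v ∈ D, v = 1 ∨ v = r ∨ v = r * b := by
  have hrW : r ∈ ws V b := h.mem_ws_of_col hrb.symm
  -- `D ≤ ⟨r⟩ N_b`
  have hDm : D ≤ mm V r b := by
    intro d hd
    refine (h.dw hrb.right).dual (U := zpowers r) (by rwa [zpowers_le]) (hDW hd) fun k hk hkr => ?_
    have hkb : k * b = b * k := mem_centralizer_singleton_iff.mp (kq_le_centralizer V b hk)
    rcases h.kq_cases' hrb.right hk (hDW hd) with e | e
    · exact comm_of_conj_eq e
    · exfalso
      apply hbD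
      have h1 := hDg k hkb (hkr r (mem_zpowers r)) d hd
      rw [e] at h1
      have h2 := mul_mem h1 (inv_mem hd)
      rwa [mul_inv_cancel_right] at h2
  obtain ⟨g, hr, hbl, hr1, hb1⟩ := hrb
  obtain ⟨k₀, -, -, hf⟩ := h.flag hbl hb1
  set T' := cj k₀ T with hT'
  obtain ⟨m, hm, -, hmm⟩ := h.mover_cj hbl hb1
  have hmr : m * r * m⁻¹ = b * r := hmm r hr hr1 hne
  have hrb : Col V r b := ⟨g, hr, hbl, hr1, hb1⟩
  -- `T_b ≤ K_b (G_b ∩ G_r)`
  have hT : ∀ t ∈ T', ∃ k ∈ kq V b, ∃ s : G, s * b = b * s ∧ s * r = r * s ∧ t = k * s := by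
    intro t ht
    have htb : t * b = b * t := mem_centralizer_singleton_iff.mp (hf.ln.T_le ht)
    rcases hf.ln.conj_cases hbl hr hb1 htb (hf.ln.T_norm ht) with e | e
    · exact ⟨1, one_mem _, t, htb, comm_of_conj_eq e, by rw [one_mul]⟩
    · refine ⟨m, hm, m⁻¹ * t, ?_, ?_, by group⟩
      · exact mul_comm_of (inv_comm_of (mem_centralizer_singleton_iff.mp (kq_le_centralizer V b hm))) htb
      · apply comm_of_conj_eq
        calc m⁻¹ * t * r * (m⁻¹ * t)⁻¹ = m⁻¹ * (t * r * t⁻¹) * m := by group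
          _ = m⁻¹ * (m * r * m⁻¹) * m := by rw [e, hmr]
          _ = r := by group
  have hWT : ws V b ≤ T' := by
    have := hf.ln.ws_le_T
    rwa [ws_cj] at this
  -- `D ∩ N_b = 1`
  have hzero : D ⊓ nn (ws V b) (kq V b) ≤ ⊥ := by
    by_contra hne
    have h1 : T' ≤ normalizer ((D ⊓ nn (ws V b) (kq V b) : Subgroup G) : Set G) := by
      refine le_normalizer_of_forall fun t ht d hd => ?_
      obtain ⟨k, hk, s, hsb, hsr, rfl⟩ := hT t ht
      have h2 : s * d * s⁻¹ ∈ nn (ws V b) (kq V b) := nn_conj (mem_centralizer_singleton_iff.mpr hsb) hd.2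
      have h3 : k * (s * d * s⁻¹) = (s * d * s⁻¹) * k := (mem_nn.mp h2).2 k hk
      have e : k * s * d * (k * s)⁻¹ = s * d * s⁻¹ := by
        calc k * s * d * (k * s)⁻¹ = k * (s * d * s⁻¹) * k⁻¹ := by group
          _ = s * d * s⁻¹ := by rw [h3, mul_inv_cancel_right]
      rw [e]
      exact mem_inf.mpr ⟨hDg s hsb hsr d hd.1, h2⟩
    have h2 : T' ≤ normalizer ((⊥ : Subgroup G) : Set G) := by
      refine le_normalizer_of_forall fun t _ d hd => ?_
      rw [mem_bot] at hd ⊢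
      rw [hd]; group
    obtain ⟨d, hd, hd1, hdt⟩ := exists_fixed_mod hf.ln.two ((inf_le_left.trans hDW).trans hWT) h1 h2 hne
    have hdW : d ∈ ws V b := hDW hd.1
    have h3 : ∀ t ∈ T', t * d = d * t := by
      intro t ht
      have := hdt t ht
      rw [mem_bot] at this
      calc t * d = (t * d * t⁻¹ * d⁻¹) * (d * t) := by group
        _ = d * t := by rw [this, one_mul]
    rcases hf.ln.soc d (hWT hdW) (h.ws_sq hrb.right d hdW) h3 with e | e
    · exact hd1 (by rw [e]; exact one_mem _)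
    · exact hbD (e ▸ hd.1)
  intro v hv
  by_cases hv1 : v = 1
  · exact Or.inl hv1
  right
  rcases mem_mm h hrb (hDm hv) with hvn | ⟨y, hy, rfl⟩
  · exact absurd (hzero ⟨hv, hvn⟩) (by simpa using hv1)
  have hyW : y ∈ ws V b := (mem_nn.mp hy).1
  -- `C(b) ∩ C(r)` centralises `y`
  have h1 : ∀ s : G, s * b = b * s → s * r = r * s → s * y = y * s := by
    intro s hsb hsr
    have h2 : s * (r * y) * s⁻¹ ∈ D := hDg s hsb hsr _ hv
    have h3 : s * (r * y) * s⁻¹ = r * (s * y * s⁻¹) := by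
      calc s * (r * y) * s⁻¹ = (s * r * s⁻¹) * (s * y * s⁻¹) := by group
        _ = r * (s * y * s⁻¹) := by rw [hsr, mul_inv_cancel_right]
    have h4 : (r * y)⁻¹ * (r * (s * y * s⁻¹)) ∈ D ⊓ nn (ws V b) (kq V b) := by
      refine mem_inf.mpr ⟨mul_mem (inv_mem hv) (h3 ▸ h2), ?_⟩
      have e : (r * y)⁻¹ * (r * (s * y * s⁻¹)) = y⁻¹ * (s * y * s⁻¹) := by group
      rw [e]
      exact mul_mem (inv_mem hy) (nn_conj (mem_centralizer_singleton_iff.mpr hsb) hy)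
    have h5 : (r * y)⁻¹ * (r * (s * y * s⁻¹)) = 1 := by
      simpa using hzero h4
    apply comm_of_conj_eq
    calc s * y * s⁻¹ = y * ((r * y)⁻¹ * (r * (s * y * s⁻¹))) := by group
      _ = y := by rw [h5, mul_one]
  rcases hf.ln.soc y (hWT hyW) (h.ws_sq hrb.right y hyW) (by
    intro t ht
    obtain ⟨k, hk, s, hsb, hsr, rfl⟩ := hT t ht
    exact mul_comm_of ((mem_nn.mp hy).2 k hk) (h1 s hsb hsr)) with e | e
  · left; rw [e, mul_one]
  · right; rw [e]

omit [Finite G] in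
/-- `C(b) ∩ C(r)` normalises `[W_b, U_r]` -/
theorem commutator_conj (V : Subgroup G) {g : G} (hgb : g * b = b * g) (hgr : g * r = r * g) {d : G}
    (hd : d ∈ ⁅ws V b, uu V r⁆) : g * d * g⁻¹ ∈ ⁅ws V b, uu V r⁆ := by
  have h1 := conj_mem_cj (g := g) hd
  rwa [cj_commutator, cj_ws, cj_uu, hgb, hgr, mul_inv_cancel_right, mul_inv_cancel_right] at h1

theorem commutator_le_ws (h : Two T V z) (hrb : Col V r b) : ⁅ws V b, uu V r⁆ ≤ ws V b := by
  refine commutator_le.mpr fun w hw u hu => ?_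
  rw [commutatorElement_def]
  have e : w * u * w⁻¹ * u⁻¹ = w * (u * w⁻¹ * u⁻¹) := by group
  rw [e]
  exact mul_mem hw (conj_mem_of_normalizer (h.uu_norm hrb) hu (inv_mem hw))

/-- **THEOREM N***, the main part -/
theorem nstar (h : Mid T V z a r b) (hb : b ∉ ⁅ws V b, uu V r⁆) :
    ∀ x ∈ ws V a, ∀ y ∈ ws V b, x * y * x⁻¹ * y⁻¹ ∈ zpowers r := by
  have hmain := lemN h.fr h.rq h.ne_rq (commutator_le_ws h.toTwo h.rq)
    (fun g hgb hgr d hd => commutator_conj V hgb hgr hd) hb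
  intro x hx y hy
  have h1 : y * x * y⁻¹ * x⁻¹ ∈ ⁅ws V b, uu V r⁆ := by
    rw [← commutatorElement_def]
    exact commutator_mem_commutator hy (ws_le_uu h.pr.symm hx)
  have h2 : x * y * x⁻¹ * y⁻¹ = (y * x * y⁻¹ * x⁻¹)⁻¹ := by group
  rw [h2]
  refine inv_mem ?_
  rcases hmain _ h1 with e | e | e
  · rw [e]; exact one_mem _
  · rw [e]; exact mem_zpowers r
  · exfalso
    have h3 := (mem_inf.mp (h.symm.comm_mem hy hx)).2
    rw [e] at h3
    have h4 := mul_mem (inv_mem (mem_inf.mp h.r_mem).1) h3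
    rw [inv_mul_cancel_left] at h4
    exact h.not_mem' h4

/-- **THEOREM N*** : type N or `b ∈ [W_b, U_r]` for all collinear `r ≠ b` -/
theorem tyN_or' (h : Two T V z) : TyN T V z ∨ ∀ r b, Col V r b → b ≠ r → b ∈ ⁅ws V b, uu V r⁆ := by
  by_cases hall : ∃ r b, Col V r b ∧ b ≠ r ∧ b ∈ ⁅ws V b, uu V r⁆
  · right
    obtain ⟨r₀, b₀, hc₀, hne₀, hb₀⟩ := hall
    intro r b hc hne
    obtain ⟨g, hg1, hg2⟩ := exists_conj_flag h.fr hc₀ hne₀ hc hne
    have := conj_mem_cj (g := g) hb₀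
    rwa [cj_commutator, cj_uu, cj_ws, hg1, hg2] at this
  · left
    push Not at hall
    refine { h with n := ?_ }
    intro a r b har hrb x hx y hy
    by_cases hcom : Com V a b
    · rw [hcom x hx y hy, mul_inv_cancel_right, mul_inv_cancel]
      exact one_mem _
    have hm : Mid T V z a r b := { h with pr := har, rq := hrb, ne := hcom }
    exact nstar hm (hall r b hrb (Ne.symm hm.ne_rq)) x hx y hy

/-- **THEOREM N*** (helper804) -/
theorem tyN_or (h : Two T V z) : TyN T V z ∨ ∀ r b, Col V r b → b ∈ ⁅uu V r, uu V r⁆ := by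
  rcases tyN_or' h with h1 | h1
  · exact Or.inl h1
  right
  have key : ∀ r b, Col V r b → b ≠ r → b ∈ ⁅uu V r, uu V r⁆ := fun r b hc hne =>
    commutator_mono (ws_le_uu hc) le_rfl (h1 r b hc hne)
  intro r b hc
  by_cases hne : b = r
  · subst hne
    obtain ⟨g, hb, -, hb1, -⟩ := hc
    obtain ⟨k, -, -, hf⟩ := h.fr.flag hb hb1
    obtain ⟨q, hq, hq1, hqb⟩ := hf.exists_q hb hb1
    have hbq : b * q ≠ b := fun e => hq1 (by simpa using e)
    have h1 := key b q ⟨g, hb, hq, hb1, hq1⟩ hqb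
    have h2 := key b (b * q) ⟨g, hb, mul_mem hb hq, hb1, hf.mul_ne_one hq (Ne.symm hqb)⟩ hbq
    have h3 := mul_mem h2 (inv_mem h1)
    rwa [mul_inv_cancel_right] at h3
  · exact key r b hc hne

omit [Finite G] in
/-- in the second case `W_r ≤ [U_r, U_r]` -/
theorem ws_le_commutator (hall : ∀ r b, Col V r b → b ∈ ⁅uu V r, uu V r⁆) {r : G} (hr1 : r ≠ 1) :
    ws V r ≤ ⁅uu V r, uu V r⁆ := by
  refine ws_le fun L hL x hx => ?_
  by_cases hx1 : x = 1
  · rw [hx1]; exact one_mem _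
  obtain ⟨⟨g, rfl⟩, hr⟩ := hL
  exact hall r x ⟨g, hr, hx, hr1, hx1⟩

end

end Cfsg.Agent.Omega.NO3S.TwoMid

end

section


/-!
# NO-3S TwoMid: inner pairs, geometry (helper144, bb #18799)

* `col_all` : a point `u ∈ I_l - l` collinear with one point of `l` is collinear with all points of `l`;
* `In T V z a r b` : `(a, b)` critical, middle `r`, `[W_a, W_b] ≤ W_r` (an inner pair); `In.symm`, `In.conj'`;
* `In.col` : a point `e ∼ b`, `e ∈ W_a ∩ W_r ∩ W_b`, is collinear with `r`, `a` and every point of the line `ar`;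
* `JG V b r = K_r ∩ C(b)`; `In.jg` : for `k ∈ JG` the pair `(a^k, b)` is inner, `[W_{a^k}, W_b] ≤ [W_a, W_b]⟨r⟩`.
-/

set_option autoImplicit false
set_option linter.unusedSectionVars false

namespace Cfsg.Agent.Omega.NO3S.TwoMid.Inn.Geo

open Subgroup Cfsg Cfsg.Agent.ZN Cfsg.Agent.MinSimple.Geo Cfsg.Agent.Omega.CaseL Cfsg.Agent.Omega.NO3S.TwoOne
  Cfsg.Agent.Omega.NO3S.Pt
open Cfsg.Agent.ZN.Block (conj_mem_of_normalizer conj_mem_of_normalizer' le_normalizer_of_forall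
  mem_normalizer_of)

universe u

variable {G : Type u} [Group G] {T V : Subgroup G} {z : G} {a b r x y e k g : G}

/-- a point `u ∈ I_l - l` collinear with one point of `l` is collinear with all points of `l` -/
theorem col_all [Finite G] (h : Fr T V z) {g u p q : G} (hu : u ∈ ii (cj g V)) (huV : u ∉ cj g V)
    (hp : p ∈ cj g V) (hp1 : p ≠ 1) (hq : q ∈ cj g V) (hq1 : q ≠ 1) (hup : Col V u p) : Col V u q := by
  obtain ⟨c, -, hcu, hcp⟩ := h.ftwo_cj hu huV hp hp1 hq hq1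
  have h1 := hup.conj c
  rwa [hcp, conj_eq_of_comm hcu] at h1

/-- an inner pair -/
structure In (T V : Subgroup G) (z a r b : G) : Prop extends Mid T V z a r b where
  inn : rr V a b ≤ ws V r

/-- the points of a line -/
theorem four (h : Fr T V z) {p x u : G} (hp : p ∈ cj g V) (hp1 : p ≠ 1) (hx : x ∈ cj g V) (hx1 : x ≠ 1)
    (hne : x ≠ p) (hu : u ∈ cj g V) : u = 1 ∨ u = p ∨ u = x ∨ u = p * x := by
  obtain ⟨k, -, -, hf⟩ := h.flag hp hp1
  exact hf.ln.four hp hx hp1 hx1 (Ne.symm hne) hu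

namespace In

theorem symm (h : In T V z a r b) : In T V z b r a :=
  { h.toMid.symm with inn := by rw [rr_comm]; exact h.inn }

theorem conj' (h : In T V z a r b) (g : G) : In T V z (g * a * g⁻¹) (g * r * g⁻¹) (g * b * g⁻¹) :=
  { h.toMid.conj g with
    inn := by
      rw [← cj_rr, ← cj_ws]
      exact Subgroup.map_mono h.inn }

/-- `[W_a, W_b]⟨r⟩ ≤ W_a ∩ W_r ∩ W_b` -/
theorem dr_le (h : In T V z a r b) : rr V a b ⊔ zpowers r ≤ ws V a ⊓ ws V r ⊓ ws V b := by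
  refine sup_le (le_inf (le_inf (h.rr_le.trans inf_le_left) h.inn) (h.rr_le.trans inf_le_right)) ?_
  rw [zpowers_le]
  exact ⟨⟨h.r_mem.1, h.fr.mem_ws_self h.rq.left⟩, h.r_mem.2⟩

variable [Finite G]

/-- a point `e ∼ b` in `W_a ∩ W_r ∩ W_b` is `∼ r` and `∼` all points of the line `ar` -/
theorem col (h : In T V z a r b) (he : e ∈ ws V a ⊓ ws V r ⊓ ws V b) (hbe : Col V b e) :
    Col V e r ∧ ∀ g q : G, a ∈ cj g V → r ∈ cj g V → q ∈ cj g V → q ≠ 1 → Col V e q := by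
  obtain ⟨⟨hea, her⟩, heb⟩ := he
  have haW : a ∉ ws V b := h.not_mem
  have hbW : b ∉ ws V a := h.not_mem'
  have hra : r ∈ ws V a := h.r_mem.1
  have hrb : r ∈ ws V b := h.r_mem.2
  have h1 : Col V e r := by
    obtain ⟨g, hr, hb, hr1, hb1⟩ := h.rq
    have hii : e ∈ ii (cj g V) := h.fr.mem_ii_cj hr hr1 hb hb1 h.ne_rq.symm her heb
    by_cases heV : e ∈ cj g V
    · rcases four h.fr hr hr1 hb hb1 h.ne_rq.symm heV with e1 | e1 | e1 | e1
      · exact absurd e1 hbe.right.ne_one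
      · rw [e1]; exact h.rq.left
      · exact absurd (e1 ▸ hea) hbW
      · exfalso
        apply hbW
        have e2 : b = r⁻¹ * e := by rw [e1]; group
        rw [e2]
        exact mul_mem (inv_mem hra) hea
    · exact col_all h.fr hii heV hb hb1 hr hr1 hbe.symm
  refine ⟨h1, fun g q ha hr hq hq1 => ?_⟩
  have ha1 : a ≠ 1 := h.pr.ne_one
  have hr1 : r ≠ 1 := h.rq.ne_one
  have hii : e ∈ ii (cj g V) := h.fr.mem_ii_cj hr hr1 ha ha1 h.ne_pr her hea
  by_cases heV : e ∈ cj g V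
  · exact ⟨g, heV, hq, h1.ne_one, hq1⟩
  · exact col_all h.fr hii heV hr hr1 hq hq1 h1

theorem col_a (h : In T V z a r b) (he : e ∈ ws V a ⊓ ws V r ⊓ ws V b) (hbe : Col V b e) : Col V e a := by
  obtain ⟨g, ha, hr, ha1, -⟩ := h.pr
  exact (h.col he hbe).2 g a ha hr ha ha1

end In

/-- `K_r ∩ C(b)` -/
def JG (V : Subgroup G) (b r : G) : Subgroup G := kq V r ⊓ centralizer ({b} : Set G)

theorem mem_JG : k ∈ JG V b r ↔ k ∈ kq V r ∧ k * b = b * k := by
  unfold JG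
  rw [mem_inf, mem_centralizer_singleton_iff]

theorem JG_b (hk : k ∈ JG V b r) : k * b * k⁻¹ = b := conj_eq_of_comm (mem_JG.1 hk).2

theorem JG_r (hk : k ∈ JG V b r) : k * r * k⁻¹ = r :=
  conj_eq_of_comm (mem_centralizer_singleton_iff.1 (kq_le_centralizer V r (mem_JG.1 hk).1))

namespace In

variable [Finite G]

theorem jg (h : In T V z a r b) (hk : k ∈ JG V b r) : In T V z (k * a * k⁻¹) r b := by
  have := h.conj' k
  rwa [JG_b hk, JG_r hk] at this

theorem jg_cases (h : In T V z a r b) (hk : k ∈ JG V b r) : k * a * k⁻¹ = a ∨ k * a * k⁻¹ = r * a :=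
  h.fr.kq_cases' h.rq.left (mem_JG.1 hk).1 (h.fr.mem_ws_of_col h.pr.symm)

/-- `[W_{a^k}, W_b] ≤ [W_a, W_b]⟨r⟩` -/
theorem jg_rr (h : In T V z a r b) (hk : k ∈ JG V b r) : rr V (k * a * k⁻¹) b ≤ rr V a b ⊔ zpowers r := by
  have e1 : rr V (k * a * k⁻¹) b = cj k (rr V a b) := by rw [cj_rr, JG_b hk]
  rw [e1]
  intro d hd
  rw [mem_cj] at hd
  have h1 := h.inn hd
  have h2 := h.fr.kq_cases' h.rq.left (mem_JG.1 hk).1 h1
  have h3 : k * (k⁻¹ * d * k) * k⁻¹ = d := by group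
  rw [h3] at h2
  rcases h2 with e2 | e2
  · rw [e2]; exact mem_sup_left hd
  · rw [e2]; exact mul_mem (mem_sup_right (mem_zpowers r)) (mem_sup_left hd)

/-- `W_{a^k}` centralises `W_e`, `e` as in `col` -/
theorem jg_com (h : In T V z a r b) (hk : k ∈ JG V b r) (he : e ∈ ws V a ⊓ ws V r ⊓ ws V b) (hbe : Col V b e) :
    Com V (k * a * k⁻¹) e := by
  obtain ⟨g, ha, hr, ha1, hr1⟩ := h.pr
  have h1 : k * a * k⁻¹ ∈ cj g V := by
    rcases h.jg_cases hk with e1 | e1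
    · rw [e1]; exact ha
    · rw [e1]; exact mul_mem hr ha
  have h2 : k * a * k⁻¹ ≠ 1 := fun e1 => ha1 (conj_eq_one_iff.1 e1)
  exact h.toTwo.com ((h.col he hbe).2 g _ ha hr h1 h2).symm

end In

end Cfsg.Agent.Omega.NO3S.TwoMid.Inn.Geo

end

end

-- merged: Cfsg.Agent.Mrg.Omega.NO3S.TwoMid.CubU
section

/-!
# NO-3S, `|V| = 4`, critical distance 2 (TwoMid): `[W_b, U_r, C_G(W_r)] ≤ ⟨r⟩ N_b` (helper511 #18245 (1)-(6)), K-free

`C_r = C_G(W_r)` (`≥ U_r`), `E_br = [W_b, U_r] = ⁅ws V b, uu V r⁆`, `D_ab = rr V a b`, `N_b = nn (ws V b) (kq V b)`.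

* `Mid.cent_rr` (1): `C_r ∩ K_b` centralises `D_ab`; `cent_comm` : it centralises `E_br`;
* `comm_mem_mm` (2): `[E_br, C_r] ≤ ⟨r⟩ N_b`;
* `NB` : the hypothesis `N_b = ⟨b⟩` (for all points), `comm_mem_r` (3): `[E_br, C_r] ≤ ⟨r⟩`, `gam` :
  `[[U_r, U_r], C_r] ≤ ⟨r⟩`, `Mid.cent_of_not_mem` : `r ∉ D_ab` implies `[D_ab, C_r] = 1`;
* `co V b r = C1_br = {m ∈ W_b : [m, U_r] ≤ ⟨r⟩}`, `co_of_mod` (4), `mem_co_iff` : `C_{W_b}(U_r ∩ K_b) = C1_br`;
* `Mid.five` (5): `b ∈ D_xr` or `D_xr ∩ W_b = 1` for a critical `(x, r)` with middle `b`;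
* `inner_of_not_mem` (6): `x ~ b ~ r`, `x ∉ C1_br`: `[W_x, W_r] = 1` or `D_xr ≤ W_b`.
-/

set_option autoImplicit false
set_option linter.unusedSectionVars false

namespace Cfsg.Agent.Omega.NO3S.TwoMid

open Subgroup Cfsg Cfsg.Agent.ZN Cfsg.Agent.MinSimple.Geo Cfsg.Agent.Omega.CaseL Cfsg.Agent.Omega.NO3S.TwoOne
  Cfsg.Agent.Omega.NO3S.Pt
open Cfsg.Agent.Omega.NO3S.Dual (nn mem_nn DW mem_sup_of_comm)
open Cfsg.Agent.Omega.NO3S.TypeN (exists_conj_flag)
open Cfsg.Agent.ZN.Block (conj_mem_of_normalizer conj_mem_of_normalizer' le_normalizer_of_forall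
  mem_normalizer_of)
open scoped commutatorElement

universe u

variable {G : Type u} [Group G] {T V : Subgroup G} {z : G} {a b r x : G}

/-! ### generic lemmas -/

/-- `{u ∈ H : [w, u] ∈ F for all w ∈ W}` is a subgroup if `H` normalises `F`. -/
theorem closure_comm {W : Set G} {F H : Subgroup G} (hF : H ≤ normalizer (F : Set G)) {s : Set G} (hs : ∀ u ∈ s, u ∈ H)
    (h : ∀ w ∈ W, ∀ u ∈ s, w * u * w⁻¹ * u⁻¹ ∈ F) : ∀ w ∈ W, ∀ u ∈ closure s, w * u * w⁻¹ * u⁻¹ ∈ F := by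
  let D : Subgroup G :=
    { carrier := {u | u ∈ H ∧ ∀ w ∈ W, w * u * w⁻¹ * u⁻¹ ∈ F}
      mul_mem' := by
        rintro u v ⟨hu, hu1⟩ ⟨hv, hv1⟩
        refine ⟨mul_mem hu hv, fun w hw => ?_⟩
        have e : w * (u * v) * w⁻¹ * (u * v)⁻¹ = (w * u * w⁻¹ * u⁻¹) * (u * (w * v * w⁻¹ * v⁻¹) * u⁻¹) := by
          group
        rw [e]
        exact mul_mem (hu1 w hw) (conj_mem_of_normalizer hF hu (hv1 w hw))
      one_mem' := ⟨one_mem _, fun w _ => by simp⟩
      inv_mem' := by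
        rintro u ⟨hu, hu1⟩
        refine ⟨inv_mem hu, fun w hw => ?_⟩
        have e : w * u⁻¹ * w⁻¹ * u⁻¹⁻¹ = u⁻¹ * (w * u * w⁻¹ * u⁻¹)⁻¹ * u := by group
        rw [e]
        exact conj_mem_of_normalizer' hF hu (inv_mem (hu1 w hw)) }
  have : closure s ≤ D := (closure_le D).mpr fun u hu => ⟨hs u hu, fun w hw => h w hw u hu⟩
  exact fun w hw u hu => (this hu).2 w hw

theorem uu_eq_closure (V : Subgroup G) (r : G) : uu V r = closure {u | ∃ y, Col V r y ∧ u ∈ ws V y} := by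
  refine le_antisymm (uu_le fun y hy u hu => subset_closure ⟨y, hy, hu⟩) ((closure_le _).mpr ?_)
  rintro u ⟨y, hy, hu⟩
  exact ws_le_uu hy hu

/-- `[W, U_r] ≤ F` if `[w, x] ∈ F` for all `x ∈ W_a`, `a ~ r` and `F` is normalised by `U_r` -/
theorem comm_uu_le {W : Set G} {F : Subgroup G} (hF : uu V r ≤ normalizer (F : Set G))
    (h : ∀ w ∈ W, ∀ y, Col V r y → ∀ u ∈ ws V y, w * u * w⁻¹ * u⁻¹ ∈ F) :
    ∀ w ∈ W, ∀ u ∈ uu V r, w * u * w⁻¹ * u⁻¹ ∈ F := by
  intro w hw u hu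
  rw [uu_eq_closure] at hu
  refine closure_comm (H := uu V r) hF ?_ ?_ w hw u hu
  · rintro u ⟨y, hy, hu⟩
    exact ws_le_uu hy hu
  · rintro w hw u ⟨y, hy, hu⟩
    exact h w hw y hy u hu

theorem commutator_uu_le {W F : Subgroup G} (hF : uu V r ≤ normalizer (F : Set G))
    (h : ∀ w ∈ W, ∀ y, Col V r y → ∀ u ∈ ws V y, w * u * w⁻¹ * u⁻¹ ∈ F) : ⁅W, uu V r⁆ ≤ F := by
  refine commutator_le.mpr fun w hw u hu => ?_
  rw [commutatorElement_def]
  exact comm_uu_le (W := (W : Set G)) hF h w hw u hu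

section

theorem conj_zpowers_of_comm {g c : G} (h : g * r = r * g) (hc : c ∈ zpowers r) : g * c * g⁻¹ = c := by
  obtain ⟨n, rfl⟩ := mem_zpowers_iff.mp hc
  have h3 : Commute g r := h
  rw [(h3.zpow_right n).eq, mul_inv_cancel_right]

/-- `C_G(W_r) ≤ C(r)` -/
theorem cent_ws_le_self (h : Fr T V z) (hr : Col V r r) :
    centralizer (ws V r : Set G) ≤ centralizer ({r} : Set G) := by
  intro c hc
  rw [mem_centralizer_singleton_iff]
  exact (mem_centralizer_iff.mp hc r (h.mem_ws_self hr)).symm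

variable [Finite G]

/-- (1) `C_G(W_r) ∩ K_b` centralises `D_ab` -/
theorem Mid.cent_rr (h : Mid T V z a r b) {c : G} (hc : c ∈ centralizer (ws V r : Set G)) (hk : c ∈ kq V b) :
    ∀ d ∈ rr V a b, c * d = d * c := by
  intro d hd
  have hca : c * a * c⁻¹ = a := by
    have := mem_centralizer_singleton_iff.mp (h.toTwo.cent_ws_le h.pr.symm hc)
    rw [this, mul_inv_cancel_right]
  have hcb : c * b * c⁻¹ = b := by
    have := mem_centralizer_singleton_iff.mp (h.toTwo.cent_ws_le h.rq hc)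
    rw [this, mul_inv_cancel_right]
  have h1 : c * d * c⁻¹ ∈ rr V a b := by
    have := conj_mem_cj (g := c) hd
    rwa [cj_rr, hca, hcb] at this
  rcases h.fr.kq_cases' h.rq.right hk (h.rr_le hd).2 with e | e
  · exact comm_of_conj_eq e
  · exfalso
    rw [e] at h1
    have h2 := mul_mem h1 (inv_mem hd)
    rw [mul_inv_cancel_right] at h2
    exact h.not_mem_rr' h2

/-- `C_G(W_r)` normalises `W_b`, `K_b`, `C_G(W_r) ∩ K_b` -/
theorem cent_norm_inf (h : Two T V z) (hrb : Col V r b) :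
    centralizer (ws V r : Set G) ≤
      normalizer ((centralizer (ws V r : Set G) ⊓ kq V b : Subgroup G) : Set G) := by
  refine le_normalizer_of_forall fun c hc k hk => ?_
  exact ⟨conj_mem_cent hc hk.1, conj_mem_of_normalizer (centralizer_le_normalizer_kq V b)
    (h.cent_ws_le hrb hc) hk.2⟩

/-- (1) `C_G(W_r) ∩ K_b` centralises `E_br` -/
theorem cent_comm (h : Two T V z) (hrb : Col V r b) {c : G} (hc : c ∈ centralizer (ws V r : Set G))
    (hk : c ∈ kq V b) : ∀ e ∈ ⁅ws V b, uu V r⁆, c * e = e * c := by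
  set X := centralizer (ws V r : Set G) ⊓ kq V b with hX
  have hF : uu V r ≤ normalizer ((centralizer (X : Set G) : Subgroup G) : Set G) :=
    (h.uu_le_cent r).trans ((cent_norm_inf h hrb).trans (normalizer_le_normalizer_centralizer _))
  have key : ⁅ws V b, uu V r⁆ ≤ centralizer (X : Set G) := by
    refine commutator_uu_le hF fun w hw y hy u hu => ?_
    rw [mem_centralizer_iff]
    intro k hk
    by_cases hcom : Com V y b
    · have : w * u * w⁻¹ * u⁻¹ = 1 := by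
        rw [← hcom u hu w hw]; group
      rw [this, mul_one, one_mul]
    · have hm : Mid T V z y r b := { h with pr := hy.symm, rq := hrb, ne := hcom }
      refine hm.cent_rr hk.1 hk.2 _ ?_
      rw [rr_comm]
      exact comm_mem_rr hw hu
  intro e he
  exact (mem_centralizer_iff.mp (key he) c ⟨hc, hk⟩)

/-- the calculation of (2): `m ∈ W_b` centralised by `[c, K_b ∩ C(r)]`, then `[m, c] ∈ ⟨r⟩ N_b` -/
theorem comm_mem_mm_aux (h : Two T V z) (hrb : Col V r b) {c m : G} (hc : c ∈ centralizer (ws V r : Set G))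
    (hm : m ∈ ws V b)
    (hcm : ∀ k ∈ kq V b, k * r = r * k → (k⁻¹ * c⁻¹ * k * c) * m = m * (k⁻¹ * c⁻¹ * k * c)) :
    m * c * m⁻¹ * c⁻¹ ∈ mm V r b := by
  have hcb := mem_centralizer_singleton_iff.mp (h.cent_ws_le hrb hc)
  have hcW : ∀ w ∈ ws V b, c * w * c⁻¹ ∈ ws V b := fun w hw =>
    conj_mem_of_normalizer (centralizer_le_normalizer_ws V b) (h.cent_ws_le hrb hc) hw
  have hvW : m * c * m⁻¹ * c⁻¹ ∈ ws V b := by
    have e : m * c * m⁻¹ * c⁻¹ = m * (c * m⁻¹ * c⁻¹) := by group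
    rw [e]
    exact mul_mem hm (hcW _ (inv_mem hm))
  have hrW : r ∈ ws V b := h.fr.mem_ws_of_col hrb.symm
  refine (h.fr.dw hrb.right).dual (U := zpowers r) (by rwa [zpowers_le]) hvW fun k hk hkr => ?_
  have hkr' := hkr r (mem_zpowers r)
  have hkb : k * b = b * k := mem_centralizer_singleton_iff.mp (kq_le_centralizer V b hk)
  set t := k⁻¹ * c⁻¹ * k * c with ht
  have htm := hcm k hk hkr'
  -- `k c = c k t`... : `c⁻¹ k c = k t`
  have e1 : c⁻¹ * k * c = k * t := by rw [ht]; group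
  have e2 : k * (c * m * c⁻¹) * k⁻¹ = c * (k * m * k⁻¹) * c⁻¹ := by
    calc k * (c * m * c⁻¹) * k⁻¹ = c * ((c⁻¹ * k * c) * m * (c⁻¹ * k * c)⁻¹) * c⁻¹ := by group
      _ = c * (k * (t * m * t⁻¹) * k⁻¹) * c⁻¹ := by rw [e1]; group
      _ = c * (k * m * k⁻¹) * c⁻¹ := by rw [conj_eq_of_comm htm]
  have e3 : m * c * m⁻¹ * c⁻¹ = m * (c * m * c⁻¹)⁻¹ := by group
  rw [e3]
  rcases h.fr.kq_cases' hrb.right hk hm with e | e
  · rw [e] at e2
    exact comm_mul_of (comm_of_conj_eq e) (comm_inv_of (comm_of_conj_eq e2))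
  · rw [e] at e2
    have e4 : c * (b * m) * c⁻¹ = b * (c * m * c⁻¹) := by
      calc c * (b * m) * c⁻¹ = (c * b) * m * c⁻¹ := by group
        _ = (b * c) * m * c⁻¹ := by rw [hcb]
        _ = b * (c * m * c⁻¹) := by group
    rw [e4] at e2
    refine comm_of_conj_eq ?_
    have hbb := h.fr.pt_sq hrb.right
    have hbW : b ∈ ws V b := h.fr.mem_ws_self hrb.right
    have hcomm := h.fr.ws_comm hrb.right
    calc k * (m * (c * m * c⁻¹)⁻¹) * k⁻¹ = (k * m * k⁻¹) * (k * (c * m * c⁻¹) * k⁻¹)⁻¹ := by group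
      _ = b * m * (b * (c * m * c⁻¹))⁻¹ := by rw [e, e2]
      _ = b * (m * (c * m * c⁻¹)⁻¹) * b⁻¹ := by group
      _ = m * (c * m * c⁻¹)⁻¹ := by
        rw [hcomm b hbW _ (mul_mem hm (inv_mem (hcW m hm))), mul_inv_cancel_right]

/-- (2) `[E_br, C_G(W_r)] ≤ ⟨r⟩ N_b` -/
theorem comm_mem_mm (h : Two T V z) (hrb : Col V r b) {c e : G} (hc : c ∈ centralizer (ws V r : Set G))
    (he : e ∈ ⁅ws V b, uu V r⁆) : e * c * e⁻¹ * c⁻¹ ∈ mm V r b := by
  refine comm_mem_mm_aux h hrb hc (commutator_le_ws h hrb he) fun k hk hkr => ?_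
  have h1 : k⁻¹ * c⁻¹ * k * c ∈ centralizer (ws V r : Set G) := by
    refine mul_mem ?_ hc
    have h2 := conj_mem_of_normalizer' ((centralizer_le_normalizer_ws V r).trans
      (normalizer_le_normalizer_centralizer _)) (mem_centralizer_singleton_iff.mpr hkr) (inv_mem hc)
    exact h2
  have h2 : k⁻¹ * c⁻¹ * k * c ∈ kq V b := by
    have h3 := conj_mem_of_normalizer' (centralizer_le_normalizer_kq V b) (h.cent_ws_le hrb hc) hk
    have e : k⁻¹ * c⁻¹ * k * c = k⁻¹ * (c⁻¹ * k * c) := by group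
    rw [e]
    exact mul_mem (inv_mem hk) h3
  exact cent_comm h hrb h1 h2 e he

/-! ### (3) -/

/-- `N_b = ⟨b⟩` for all points -/
def NB (V : Subgroup G) : Prop := ∀ b : G, Col V b b → nn (ws V b) (kq V b) ≤ zpowers b

/-- `{v ∈ C_r : [v, C_r] ≤ ⟨r⟩}`, `C_r = C_G(W_r)` -/
def e2 (V : Subgroup G) (r : G) : Subgroup G where
  carrier := {v | v ∈ centralizer (ws V r : Set G) ∧ v ∈ centralizer ({r} : Set G) ∧
    ∀ c ∈ centralizer (ws V r : Set G), v * c * v⁻¹ * c⁻¹ ∈ zpowers r}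
  mul_mem' := by
    rintro u v ⟨hu, hur, hu1⟩ ⟨hv, hvr, hv1⟩
    refine ⟨mul_mem hu hv, mul_mem hur hvr, fun c hc => ?_⟩
    have e : u * v * c * (u * v)⁻¹ * c⁻¹ = u * (v * c * v⁻¹ * c⁻¹) * u⁻¹ * (u * c * u⁻¹ * c⁻¹) := by group
    rw [e]
    refine mul_mem ?_ (hu1 c hc)
    obtain ⟨n, hn⟩ := mem_zpowers_iff.mp (hv1 c hc)
    have h2 : u * r ^ n * u⁻¹ = r ^ n := by
      have h3 : Commute u r := mem_centralizer_singleton_iff.mp hur
      rw [(h3.zpow_right n).eq, mul_inv_cancel_right]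
    rw [← hn, h2]
    exact zpow_mem (mem_zpowers r) n
  one_mem' := ⟨one_mem _, one_mem _, fun c _ => by simp⟩
  inv_mem' := by
    rintro u ⟨hu, hur, hu1⟩
    refine ⟨inv_mem hu, inv_mem hur, fun c hc => ?_⟩
    have e : u⁻¹ * c * u⁻¹⁻¹ * c⁻¹ = u⁻¹ * (u * c * u⁻¹ * c⁻¹)⁻¹ * u := by group
    rw [e]
    obtain ⟨n, hn⟩ := mem_zpowers_iff.mp (hu1 c hc)
    have h2 : u⁻¹ * (r ^ n)⁻¹ * u = (r ^ n)⁻¹ := by
      have h3 : Commute u r := mem_centralizer_singleton_iff.mp hur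
      rw [mul_assoc, ((h3.zpow_right n).inv_right.eq).symm, inv_mul_cancel_left]
    rw [← hn, h2]
    exact inv_mem (zpow_mem (mem_zpowers r) n)

omit [Finite G] in
theorem mem_e2 {v : G} : v ∈ e2 V r ↔ v ∈ centralizer (ws V r : Set G) ∧ v ∈ centralizer ({r} : Set G) ∧
    ∀ c ∈ centralizer (ws V r : Set G), v * c * v⁻¹ * c⁻¹ ∈ zpowers r := Iff.rfl

omit [Finite G] in
theorem norm_e2 (h : Fr T V z) (hr : Col V r r) :
    centralizer (ws V r : Set G) ≤ normalizer ((e2 V r : Subgroup G) : Set G) := by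
  refine le_normalizer_of_forall fun g hg v hv => ?_
  have hgr := cent_ws_le_self h hr hg
  refine ⟨conj_mem_cent hg hv.1, conj_mem_cent hgr hv.2.1, fun c hc => ?_⟩
  have hc' : g⁻¹ * c * g ∈ centralizer (ws V r : Set G) := by
    have := conj_mem_cent (inv_mem hg) hc
    rwa [inv_inv] at this
  have e : g * v * g⁻¹ * c * (g * v * g⁻¹)⁻¹ * c⁻¹ =
      g * (v * (g⁻¹ * c * g) * v⁻¹ * (g⁻¹ * c * g)⁻¹) * g⁻¹ := by group
  rw [e, conj_zpowers_of_comm (mem_centralizer_singleton_iff.mp hgr) (hv.2.2 _ hc')]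
  exact hv.2.2 _ hc'

theorem mem_mm_nb (h : Fr T V z) (nb : NB V) (hrb : Col V r b) {v : G} (hv : v ∈ mm V r b) :
    v = 1 ∨ v = r ∨ v = b ∨ v = r * b := by
  have hbb := h.pt_sq hrb.right
  rcases mem_mm h hrb hv with hvn | ⟨y, hy, rfl⟩
  · rcases (mem_zpowers_iff_of_mul_self hbb).mp (nb b hrb.right hvn) with e | e
    · exact Or.inl e
    · exact Or.inr (Or.inr (Or.inl e))
  · rcases (mem_zpowers_iff_of_mul_self hbb).mp (nb b hrb.right hy) with e | e
    · right; left; rw [e, mul_one]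
    · right; right; right; rw [e]

/-- an element of `W_a ∩ ⟨r⟩ N_b` lies in `⟨r⟩` -/
theorem Mid.mem_zpowers_of (h : Mid T V z a r b) {v : G} (hva : v ∈ ws V a)
    (hv : v = 1 ∨ v = r ∨ v = b ∨ v = r * b) : v ∈ zpowers r := by
  rcases hv with e | e | e | e
  · rw [e]; exact one_mem _
  · rw [e]; exact mem_zpowers r
  · exact absurd (e ▸ hva) h.not_mem'
  · exfalso
    rw [e] at hva
    have := mul_mem (inv_mem (mem_inf.mp h.r_mem).1) hva
    rw [inv_mul_cancel_left] at this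
    exact h.not_mem' this

/-- (3) for `D_ab` -/
theorem Mid.rr_le_e2 (h : Mid T V z a r b) (nb : NB V) : rr V a b ≤ e2 V r := by
  intro d hd
  have hdW := h.rr_le hd
  have h1 : d ∈ centralizer (ws V r : Set G) := h.toTwo.ws_le_cent h.pr hdW.1
  refine ⟨h1, cent_ws_le_self h.fr h.pr.right h1, fun c hc => ?_⟩
  have hd' : d ∈ ⁅ws V b, uu V r⁆ := by
    rw [commutator_comm]
    exact rr_le_commutator V h.pr.symm b hd
  have h2 := comm_mem_mm h.toTwo h.rq hc hd'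
  refine h.mem_zpowers_of ?_ (mem_mm_nb h.fr nb h.rq h2)
  have e : d * c * d⁻¹ * c⁻¹ = d * (c * d⁻¹ * c⁻¹) := by group
  rw [e]
  exact mul_mem hdW.1 (conj_mem_of_normalizer (centralizer_le_normalizer_ws V a)
    (h.toTwo.cent_ws_le h.pr.symm hc) (inv_mem hdW.1))

/-- (3) `[E_br, C_G(W_r)] ≤ ⟨r⟩` -/
theorem commutator_le_e2 (h : Two T V z) (nb : NB V) (hrb : Col V r b) : ⁅ws V b, uu V r⁆ ≤ e2 V r := by
  refine commutator_uu_le ((h.uu_le_cent r).trans (norm_e2 h.fr hrb.left)) fun w hw y hy u hu => ?_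
  by_cases hcom : Com V y b
  · have : w * u * w⁻¹ * u⁻¹ = 1 := by
      rw [← hcom u hu w hw]; group
    rw [this]
    exact one_mem _
  · have hm : Mid T V z y r b := { h with pr := hy.symm, rq := hrb, ne := hcom }
    refine hm.rr_le_e2 nb ?_
    rw [rr_comm]
    exact comm_mem_rr hw hu

theorem comm_mem_r (h : Two T V z) (nb : NB V) (hrb : Col V r b) {c e : G}
    (hc : c ∈ centralizer (ws V r : Set G)) (he : e ∈ ⁅ws V b, uu V r⁆) : e * c * e⁻¹ * c⁻¹ ∈ zpowers r :=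
  (commutator_le_e2 h nb hrb he).2.2 c hc

/-- (3) `γ₃(U_r) ≤ ⟨r⟩`, in the form `[[U_r, U_r], C_G(W_r)] ≤ ⟨r⟩` -/
theorem uu_commutator_le_e2 (h : Two T V z) (nb : NB V) (hr : Col V r r) : ⁅uu V r, uu V r⁆ ≤ e2 V r := by
  refine commutator_uu_le ((h.uu_le_cent r).trans (norm_e2 h.fr hr)) fun w hw y hy u hu => ?_
  have h1 : u * w * u⁻¹ * w⁻¹ ∈ e2 V r := by
    refine commutator_le_e2 h nb hy ?_
    rw [← commutatorElement_def]
    exact commutator_mem_commutator hu hw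
  have e : w * u * w⁻¹ * u⁻¹ = (u * w * u⁻¹ * w⁻¹)⁻¹ := by group
  rw [e]
  exact inv_mem h1

theorem gam (h : Two T V z) (nb : NB V) (hr : Col V r r) :
    ⁅⁅uu V r, uu V r⁆, centralizer (ws V r : Set G)⁆ ≤ zpowers r := by
  refine commutator_le.mpr fun w hw u hu => ?_
  rw [commutatorElement_def]
  exact (uu_commutator_le_e2 h nb hr hw).2.2 u hu

/-- (3) `r ∉ D_ab` implies `[D_ab, C_G(W_r)] = 1` -/
theorem Mid.cent_of_not_mem (h : Mid T V z a r b) (nb : NB V) (hr : r ∉ rr V a b) :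
    rr V a b ≤ centralizer ((centralizer (ws V r : Set G) : Subgroup G) : Set G) := by
  intro d hd
  rw [mem_centralizer_iff]
  intro c hc
  have hca : c * a * c⁻¹ = a := by
    have := mem_centralizer_singleton_iff.mp (h.toTwo.cent_ws_le h.pr.symm hc)
    rw [this, mul_inv_cancel_right]
  have hcb : c * b * c⁻¹ = b := by
    have := mem_centralizer_singleton_iff.mp (h.toTwo.cent_ws_le h.rq hc)
    rw [this, mul_inv_cancel_right]
  have h1 : c * d⁻¹ * c⁻¹ ∈ rr V a b := by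
    have := conj_mem_cj (g := c) (inv_mem hd)
    rwa [cj_rr, hca, hcb] at this
  have h2 : d * c * d⁻¹ * c⁻¹ ∈ rr V a b := by
    have e : d * c * d⁻¹ * c⁻¹ = d * (c * d⁻¹ * c⁻¹) := by group
    rw [e]
    exact mul_mem hd h1
  rcases (mem_zpowers_iff_of_mul_self (h.fr.pt_sq h.pr.right)).mp ((h.rr_le_e2 nb hd).2.2 c hc) with e | e
  · calc c * d = (d * c * d⁻¹ * c⁻¹)⁻¹ * (d * c) := by group
      _ = d * c := by rw [e, inv_one, one_mul]
  · exact absurd (e ▸ h2) hr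

/-! ### (4) -/

/-- `C1_br = {m ∈ W_b : [m, U_r] ≤ ⟨r⟩}` -/
def co (V : Subgroup G) (b r : G) : Subgroup G where
  carrier := {m | m ∈ ws V b ∧ m ∈ centralizer ({r} : Set G) ∧ ∀ u ∈ uu V r, m * u * m⁻¹ * u⁻¹ ∈ zpowers r}
  mul_mem' := by
    rintro u v ⟨hu, hur, hu1⟩ ⟨hv, hvr, hv1⟩
    refine ⟨mul_mem hu hv, mul_mem hur hvr, fun c hc => ?_⟩
    have e : u * v * c * (u * v)⁻¹ * c⁻¹ = u * (v * c * v⁻¹ * c⁻¹) * u⁻¹ * (u * c * u⁻¹ * c⁻¹) := by group
    rw [e, conj_zpowers_of_comm (mem_centralizer_singleton_iff.mp hur) (hv1 c hc)]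
    exact mul_mem (hv1 c hc) (hu1 c hc)
  one_mem' := ⟨one_mem _, one_mem _, fun c _ => by simp⟩
  inv_mem' := by
    rintro u ⟨hu, hur, hu1⟩
    refine ⟨inv_mem hu, inv_mem hur, fun c hc => ?_⟩
    have e : u⁻¹ * c * u⁻¹⁻¹ * c⁻¹ = u⁻¹ * (u * c * u⁻¹ * c⁻¹)⁻¹ * u⁻¹⁻¹ := by group
    rw [e, conj_zpowers_of_comm (mem_centralizer_singleton_iff.mp (inv_mem hur)) (inv_mem (hu1 c hc))]
    exact inv_mem (hu1 c hc)

omit [Finite G] in
theorem mem_co {m : G} : m ∈ co V b r ↔ m ∈ ws V b ∧ m ∈ centralizer ({r} : Set G) ∧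
    ∀ u ∈ uu V r, m * u * m⁻¹ * u⁻¹ ∈ zpowers r := Iff.rfl

omit [Finite G] in
theorem co_le (V : Subgroup G) (b r : G) : co V b r ≤ ws V b := fun _ hm => hm.1

omit [Finite G] in
theorem zpowers_norm {H : Subgroup G} (hH : H ≤ centralizer ({r} : Set G)) :
    H ≤ normalizer ((zpowers r : Subgroup G) : Set G) := by
  refine le_normalizer_of_forall fun g hg v hv => ?_
  rwa [conj_zpowers_of_comm (mem_centralizer_singleton_iff.mp (hH hg)) hv]

/-- (4): `m ∈ W_b`, `[m, U_r] ⊆ {1, r, b, rb}` implies `[m, U_r] ≤ ⟨r⟩` -/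
theorem co_of_mod (h : Two T V z) (hrb : Col V r b) {m : G} (hm : m ∈ ws V b)
    (hmod : ∀ y, Col V r y → ∀ u ∈ ws V y, m * u * m⁻¹ * u⁻¹ = 1 ∨ m * u * m⁻¹ * u⁻¹ = r ∨
      m * u * m⁻¹ * u⁻¹ = b ∨ m * u * m⁻¹ * u⁻¹ = r * b) : m ∈ co V b r := by
  have hmr : m ∈ centralizer ({r} : Set G) :=
    cent_ws_le_self h.fr hrb.left (h.ws_le_cent hrb.symm hm)
  refine ⟨hm, hmr, fun u hu => ?_⟩
  refine comm_uu_le (W := {m}) (F := zpowers r) (zpowers_norm ((h.uu_le_cent r).trans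
    (cent_ws_le_self h.fr hrb.left))) ?_ m rfl u hu
  rintro w rfl y hy u hu
  by_cases hcom : Com V y b
  · have : w * u * w⁻¹ * u⁻¹ = 1 := by
      rw [← hcom u hu w hm]; group
    rw [this]
    exact one_mem _
  · have hM : Mid T V z y r b := { h with pr := hy.symm, rq := hrb, ne := hcom }
    exact hM.mem_zpowers_of (hM.symm.comm_mem hm hu).2 (hmod y hy u hu)

/-- (4): `m ∈ W_b`, `[m, U_r] ≤ ⟨b⟩` implies `[m, U_r] = 1` -/
theorem cent_of_mod (h : Two T V z) (hrb : Col V r b) {m : G} (hm : m ∈ ws V b)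
    (hmod : ∀ y, Col V r y → ∀ u ∈ ws V y, m * u * m⁻¹ * u⁻¹ ∈ zpowers b) :
    m ∈ centralizer (uu V r : Set G) := by
  have key : uu V r ≤ centralizer ({m} : Set G) := by
    refine uu_le fun y hy u hu => ?_
    rw [mem_centralizer_singleton_iff]
    by_cases hcom : Com V y b
    · exact hcom u hu m hm
    · have hM : Mid T V z y r b := { h with pr := hy.symm, rq := hrb, ne := hcom }
      have h1 := mem_centralizer_iff.mp (hM.symm.comm_of_mod hm (fun u hu => hmod y hy u hu)) u hu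
      exact h1
  rw [mem_centralizer_iff]
  exact fun u hu => mem_centralizer_singleton_iff.mp (key hu)

theorem eq_one_of_zpowers (h : Fr T V z) (hrb : Col V r b) (hne : r ≠ b) {c : G} (h1 : c ∈ zpowers r)
    (h2 : c ∈ zpowers b) : c = 1 := by
  rcases (mem_zpowers_iff_of_mul_self (h.pt_sq hrb.left)).mp h1 with e | e
  · exact e
  · rcases (mem_zpowers_iff_of_mul_self (h.pt_sq hrb.right)).mp h2 with e' | e'
    · exact e'
    · exact absurd (e.symm.trans e') hne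

/-- (4) `C_{W_b}(U_r ∩ K_b) = C1_br` -/
theorem mem_co_iff (h : Two T V z) (nb : NB V) (hrb : Col V r b) (hne : r ≠ b) {m : G} (hm : m ∈ ws V b) :
    (∀ c ∈ uu V r, c ∈ kq V b → c * m = m * c) ↔ m ∈ co V b r := by
  constructor
  · intro hc
    refine co_of_mod h hrb hm fun y hy u hu => ?_
    have hu' := ws_le_uu hy hu
    refine mem_mm_nb h.fr nb hrb (comm_mem_mm_aux h hrb (h.uu_le_cent r hu') hm fun k hk hkr => ?_)
    refine hc _ ?_ ?_
    · have h2 := conj_mem_of_normalizer' (centralizer_le_normalizer_uu V r)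
        (mem_centralizer_singleton_iff.mpr hkr) (inv_mem hu')
      exact mul_mem h2 hu'
    · have h3 := conj_mem_of_normalizer' (centralizer_le_normalizer_kq V b)
        (h.cent_ws_le hrb (h.uu_le_cent r hu')) hk
      have e : k⁻¹ * u⁻¹ * k * u = k⁻¹ * (u⁻¹ * k * u) := by group
      rw [e]
      exact mul_mem (inv_mem hk) h3
  · intro hmc c hc hcK
    have h1 := hmc.2.2 c hc
    have h2 : m * c * m⁻¹ * c⁻¹ ∈ zpowers b := by
      have e : m * c * m⁻¹ * c⁻¹ = (c * m * c⁻¹ * m⁻¹)⁻¹ := by group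
      rw [e]
      exact inv_mem (kq_comm hcK hm)
    have h3 := eq_one_of_zpowers h.fr hrb hne h1 h2
    calc c * m = (m * c * m⁻¹ * c⁻¹)⁻¹ * (m * c) := by group
      _ = m * c := by rw [h3, inv_one, one_mul]

/-- (4) movers in `U_r ∩ K_b` for `m ∉ C1_br` -/
theorem exists_mover_uu (h : Two T V z) (nb : NB V) (hrb : Col V r b) (hne : r ≠ b) {m : G}
    (hm : m ∈ ws V b) (hmc : m ∉ co V b r) : ∃ c ∈ uu V r, c ∈ kq V b ∧ c * m * c⁻¹ = b * m := by
  by_contra hcon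
  push Not at hcon
  refine hmc ((mem_co_iff h nb hrb hne hm).mp fun c hc hcK => ?_)
  exact comm_of_conj_eq ((h.fr.kq_cases' hrb.right hcK hm).resolve_right (hcon c hc hcK))

/-- `E_br ≤ C1_br` -/
theorem commutator_le_co (h : Two T V z) (nb : NB V) (hrb : Col V r b) : ⁅ws V b, uu V r⁆ ≤ co V b r := by
  intro e he
  have h1 := commutator_le_e2 h nb hrb he
  exact ⟨commutator_le_ws h hrb he, h1.2.1, fun u hu => h1.2.2 u (h.uu_le_cent r hu)⟩

/-! ### (5), (6) -/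

/-- (5) a critical `(x, r)` with middle `b`: `b ∈ D_xr` or `D_xr ∩ W_b = 1` -/
theorem Mid.five (h : Mid T V z x b r) (nb : NB V) (hb : b ∉ rr V x r) : rr V x r ⊓ ws V b ≤ ⊥ := by
  rintro d ⟨hd, hdb⟩
  have hxW : x ∈ ws V b := h.fr.mem_ws_of_col h.pr.symm
  have hrW : r ∈ ws V b := h.fr.mem_ws_of_col h.rq
  have hbp := h.pr.right
  have h1 : d ∈ closure {x, r} ⊔ nn (ws V b) (kq V b) := by
    refine (h.fr.dw hbp).dual (U := closure {x, r}) ?_ hdb fun k hk hkU => ?_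
    · rw [closure_le]
      rintro y (rfl | rfl)
      · exact hxW
      · exact hrW
    · have hkx := hkU x (subset_closure (Or.inl rfl))
      have hkr := hkU r (subset_closure (Or.inr rfl))
      have h2 : k * d * k⁻¹ ∈ rr V x r := by
        have := conj_mem_cj (g := k) hd
        rwa [cj_rr, hkx, hkr, mul_inv_cancel_right, mul_inv_cancel_right] at this
      rcases h.fr.kq_cases' hbp hk hdb with e | e
      · exact comm_of_conj_eq e
      · exfalso
        rw [e] at h2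
        have := mul_mem h2 (inv_mem hd)
        rw [mul_inv_cancel_right] at this
        exact hb this
  have hcomm := h.fr.ws_comm hbp
  have hle : closure {x, r} ≤ zpowers x ⊔ zpowers r := by
    rw [closure_le]
    rintro y (rfl | rfl)
    · exact mem_sup_left (mem_zpowers _)
    · exact mem_sup_right (mem_zpowers _)
  have hxz : zpowers x ≤ ws V b := by rwa [zpowers_le]
  have hrz : zpowers r ≤ ws V b := by rwa [zpowers_le]
  obtain ⟨s, hs, n, hn, rfl⟩ := mem_sup_of_comm hcomm ((closure_le (ws V b)).mpr (by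
    rintro y (rfl | rfl)
    · exact hxW
    · exact hrW)) inf_le_left h1
  obtain ⟨i, hi, j, hj, rfl⟩ := mem_sup_of_comm hcomm hxz hrz (hle hs)
  have hdW := mem_inf.mp (h.rr_le hd)
  have hbx : b ∈ ws V x := (mem_inf.mp h.r_mem).1
  have hbr : b ∈ ws V r := (mem_inf.mp h.r_mem).2
  have hrr : r ∈ ws V r := h.fr.mem_ws_self h.rq.right
  have hnb := nb b hbp hn
  have hnx : n ∈ ws V x := zpowers_le.mpr hbx hnb
  have hnr : n ∈ ws V r := zpowers_le.mpr hbr hnb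
  have hjr : j ∈ ws V r := zpowers_le.mpr hrr hj
  -- `i = 1`
  have hi1 : i = 1 := by
    have h2 : i ∈ ws V r := by
      have := mul_mem (mul_mem hdW.2 (inv_mem hnr)) (inv_mem hjr)
      rwa [mul_inv_cancel_right, mul_inv_cancel_right] at this
    exact h.eq_one_of_mem hi h2
  subst hi1
  have hj1 : j = 1 := by
    have h2 : j ∈ ws V x := by
      have := mul_mem hdW.1 (inv_mem hnx)
      rwa [mul_inv_cancel_right, one_mul] at this
    exact h.symm.eq_one_of_mem hj h2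
  subst hj1
  rw [one_mul, one_mul] at hd ⊢
  rw [mem_bot]
  rcases (mem_zpowers_iff_of_mul_self (h.fr.pt_sq hbp)).mp hnb with e | e
  · exact e
  · exact absurd (e ▸ hd) hb

/-- (6) `x ~ b ~ r`, `x ∉ C1_br`: `[W_x, W_r] = 1` or `D_xr ≤ W_b` -/
theorem inner_of_not_mem (h : Two T V z) (nb : NB V) (hxb : Col V x b) (hrb : Col V r b) (hne : r ≠ b)
    (hx : x ∉ co V b r) : Com V x r ∨ rr V x r ≤ ws V b := by
  by_cases hcom : Com V x r
  · exact Or.inl hcom
  right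
  have hM : Mid T V z x b r := { h with pr := hxb, rq := hrb.symm, ne := hcom }
  obtain ⟨e, he, heK, hex⟩ := exists_mover_uu h nb hrb hne (h.fr.mem_ws_of_col hxb.symm) hx
  intro d hd
  have hdW := hM.rr_le hd
  have hed : e * d * e⁻¹ = d := by
    have := mem_centralizer_iff.mp (h.uu_le_cent r he) d hdW.2
    rw [← this, mul_inv_cancel_right]
  have h1 : d ∈ ws V (b * x) := by
    have := conj_mem_ws e hdW.1
    rwa [hed, hex] at this
  exact h.fr.inf_mul_le hxb.symm hM.ne_pr ⟨hdW.1, h1⟩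

/-- (6): an inner critical pair `(x, r)` has `b ∈ D_xr` -/
theorem Mid.mem_of_inner (h : Mid T V z x b r) (nb : NB V) (hin : rr V x r ≤ ws V b) : b ∈ rr V x r := by
  by_contra hb
  exact h.rr_ne_bot (le_bot_iff.mp ((le_inf le_rfl hin).trans (h.five nb hb)))

end

end Cfsg.Agent.Omega.NO3S.TwoMid

end
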