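import Cfsg.Agent.Mrg.Omega.NO3S.TwoMid.CubU
import Cfsg.Agent.Mrg.Omega.NO3S.TypeN.Joined
import Cfsg.Agent.Involutions.BaerSuzuki

section


/-!
# NO-3S, `|V| = 4`, critical distance 2 (TwoMid): the hypothesis (NO)

`M_b = W_b / ⟨b⟩`, `H_b = C_G(b) / K_b`.

* `InO V b r X` : `X` lies in a `(G_b ∩ G_r)`-invariant subgroup of `G_b` which fixes `r` modulo `⟨b⟩` and is a 2-group
  modulo `K_b` (so the image of `X` in `H_b` lies in `O₂(C_{H_b}(rbar))`);
* `NOm V` **(NO)** : if moreover the image of `X` in `H_b` is elementary abelian, then it is not an over-offender on `M_b`;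
* `inO_of_le_uu`, `inO_of_le_o2` : subgroups of `U_r`, `O₂(C_G(W_r))`;
* `Mid.exact` : under (NO) `|W_a : C_{W_a}(W_b)| = |W_b : C_{W_b}(W_a)|` for critical `(a, b)`.
-/

set_option autoImplicit false
set_option linter.unusedSectionVars false

namespace Cfsg.Agent.Omega.NO3S.TwoMid

open Subgroup Cfsg Cfsg.Agent.ZN Cfsg.Agent.MinSimple.Geo Cfsg.Agent.Omega.CaseL Cfsg.Agent.Omega.NO3S.TwoOne
  Cfsg.Agent.Omega.NO3S.Pt
open Cfsg.Agent.Omega.NO3S.Dual (nn mem_nn DW mem_sup_of_comm)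
open Cfsg.Agent.ZN.Block (conj_mem_of_normalizer conj_mem_of_normalizer' le_normalizer_of_forall
  mem_normalizer_of)

universe u

variable {G : Type u} [Group G] {T V : Subgroup G} {z : G} {a b r x : G}

/-- the image of `X` in `H_b` lies in `O₂(C_{H_b}(rbar))` -/
def InO (V : Subgroup G) (b r : G) (X : Subgroup G) : Prop :=
  ∃ N : Subgroup G, X ≤ N ∧ N ≤ centralizer ({b} : Set G) ∧
    (∀ g : G, g * b = b * g → g * r = r * g → ∀ n ∈ N, g * n * g⁻¹ ∈ N) ∧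
    (∀ n ∈ N, n * r * n⁻¹ * r⁻¹ ∈ zpowers b) ∧ ∀ n ∈ N, ∃ k : ℕ, n ^ 2 ^ k ∈ kq V b

/-- **(NO)** -/
def NOm (V : Subgroup G) : Prop :=
  ∀ b r : G, Col V b r → b ≠ r → ∀ X : Subgroup G, InO V b r X → (∀ x ∈ X, x * x ∈ kq V b) → NoOv V b X

theorem InO.mono {X Y : Subgroup G} (h : InO V b r X) (hYX : Y ≤ X) : InO V b r Y := by
  obtain ⟨N, h1, h2⟩ := h
  exact ⟨N, hYX.trans h1, h2⟩

section

variable [Finite G]

theorem inO_o2 (h : Two T V z) (hbr : Col V b r) : InO V b r (o2 (centralizer (ws V r : Set G))) := by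
  have h1 := h.cent_ws_le hbr.symm
  refine ⟨_, le_rfl, (o2_le _).trans h1, fun g _ hgr n hn => ?_, fun n hn => ?_, fun n hn => ?_⟩
  · exact conj_mem_of_normalizer ((centralizer_le_normalizer_ws V r).trans
      ((normalizer_le_normalizer_centralizer _).trans (normalizer_le_normalizer_o2 _)))
      (mem_centralizer_singleton_iff.mpr hgr) hn
  · have h2 := mem_centralizer_singleton_iff.mp (cent_ws_le_self h.fr hbr.right (o2_le _ hn))
    rw [h2, mul_inv_cancel_right, mul_inv_cancel]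
    exact one_mem _
  · obtain ⟨k, hk⟩ := isPGroup_o2 (centralizer (ws V r : Set G)) ⟨n, hn⟩
    refine ⟨k, ?_⟩
    have h3 := congrArg Subtype.val hk
    rw [SubmonoidClass.coe_pow, OneMemClass.coe_one] at h3
    rw [h3]
    exact one_mem _

/-- `U_r ≤ O₂(C_G(W_r))` -/
theorem uu_le_o2_cent (h : Two T V z) (hr : Col V r r) : uu V r ≤ o2 (centralizer (ws V r : Set G)) := by
  refine le_o2 (h.uu_le_cent r) (h.isPGroup_uu r) ?_
  exact (cent_ws_le_self h.fr hr).trans (centralizer_le_normalizer_uu V r)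

theorem inO_of_le_uu (h : Two T V z) (hbr : Col V b r) {X : Subgroup G} (hX : X ≤ uu V r) : InO V b r X :=
  (inO_o2 h hbr).mono (hX.trans (uu_le_o2_cent h hbr.right))

/-- `W_a ∩ K_b = C_{W_a}(W_b)` for critical `(a, b)` -/
theorem Mid.inf_kq (h : Mid T V z a r b) :
    ws V a ⊓ kq V b = ws V a ⊓ centralizer (ws V b : Set G) := by
  refine le_antisymm (fun x hx => ⟨hx.1, h.symm.cent_of_kq hx.1 hx.2⟩) fun x hx => ⟨hx.1, ?_⟩
  refine ⟨h.symm.cent hx.1, fun w hw => ?_, fun w hw => ?_⟩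
  · rw [(mem_centralizer_iff.mp hx.2 w hw).symm, mul_inv_cancel_right, mul_inv_cancel]
    exact one_mem _
  · rw [mul_assoc, mul_assoc, ← mul_assoc w x, mem_centralizer_iff.mp hx.2 w hw, mul_assoc,
      inv_mul_cancel_left, mul_inv_cancel]
    exact one_mem _

/-- `{w ∈ W_b : [w, W_a] ≤ ⟨b⟩} = C_{W_b}(W_a)` for critical `(a, b)` -/
theorem Mid.cmod_eq (h : Mid T V z a r b) : cmod V b (ws V a) = ws V b ⊓ centralizer (ws V a : Set G) := by
  ext w
  rw [mem_cmod h.fr h.rq.right, mem_inf]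
  refine and_congr_right fun hw => ⟨fun h1 => ?_, fun h1 y hy => ?_⟩
  · refine h.symm.comm_of_mod hw fun y hy => ?_
    have e : w * y * w⁻¹ * y⁻¹ = (y * w * y⁻¹ * w⁻¹)⁻¹ := by group
    rw [e]
    exact inv_mem (h1 y hy)
  · rw [mem_centralizer_iff.mp h1 y hy, mul_inv_cancel_right, mul_inv_cancel]
    exact one_mem _

theorem Mid.exact_le (h : Mid T V z a r b) (hNO : NOm V) :
    (ws V a ⊓ centralizer (ws V b : Set G)).relIndex (ws V a) ≤
      (ws V b ⊓ centralizer (ws V a : Set G)).relIndex (ws V b) := by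
  have h1 := hNO b r h.rq.symm h.ne_rq.symm (ws V a) (inO_of_le_uu h.toTwo h.rq.symm (ws_le_uu h.pr.symm))
    fun x hx => by rw [h.fr.ws_sq h.pr.left x hx]; exact one_mem _
  unfold NoOv at h1
  rwa [h.inf_kq, h.cmod_eq] at h1

/-- **exactness** of critical pairs -/
theorem Mid.exact (h : Mid T V z a r b) (hNO : NOm V) :
    (ws V a ⊓ centralizer (ws V b : Set G)).relIndex (ws V a) =
      (ws V b ⊓ centralizer (ws V a : Set G)).relIndex (ws V b) :=
  le_antisymm (h.exact_le hNO) (h.symm.exact_le hNO)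

end

end Cfsg.Agent.Omega.NO3S.TwoMid

end

section


/-!
# NO-3S, `|V| = 4`, critical distance 2 (TwoMid): the alpha pair (helper502 #17909, helper986 (B3))

`Iv b f u` : `u ∈ C(b)` has odd order and is inverted by `f`.

* `exists_iv` (Baer-Suzuki) : `f ∈ C(b)`, `f² = 1`, `f ∉ K_b`: there is `h ≠ 1` with `Iv b f h`;
* `Iv.eq_one` (LIFT) : `f ∈ W_a`, `a ~ r ~ b`; `u r u⁻¹ ∈ {r, b r}` implies `u = 1`;
* `Sit T V z a r b f h` : `(a, b)` critical with middle `r`, `f ∈ W_a`, `Iv b f h`, `h ≠ 1`; `x = h r h⁻¹`;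
* `Sit.pow_eq_one` (LIFT), `Sit.zero_one` (0.1) : `h` centralises `W_r ∩ W_x`;
* `Sit.bad` (0.2) : if (D) for `(x, x^f)` fails, then `x x^f = r`, and (S); `Sit.cube` : then `h³ = 1`;
* `Sit.inf_le` : `W_x ∩ W_{x^f} ≤ W_b` implies `W_x ∩ W_r ≤ W_b`;
* `Sit.comm_mem_of_bad` : if (D) for `(x, x^f)` fails, then `[x, W_a] ≤ ⟨r⟩`;
* `relIndex_le_of_pair` : a pairing into `⟨r⟩`;
* `exists_alpha` : under (NO), `N_b = ⟨b⟩`, `[W_a, W_b] ≰ ⟨r⟩`: some `(f, h)` satisfies (D).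
-/

set_option autoImplicit false
set_option linter.unusedSectionVars false

namespace Cfsg.Agent.Omega.NO3S.TwoMid.Alpha

open Subgroup Cfsg Cfsg.Agent.ZN Cfsg.Agent.MinSimple.Geo Cfsg.Agent.Omega.CaseL Cfsg.Agent.Omega.NO3S.TwoOne
  Cfsg.Agent.Omega.NO3S.Pt Cfsg.Agent.Omega.NO3S.TwoMid
open Cfsg.Agent.Omega.NO3S.Dual (nn mem_nn DW mem_sup_of_comm)
open Cfsg.Agent.ZN.Block (conj_mem_of_normalizer conj_mem_of_normalizer' le_normalizer_of_forall
  mem_normalizer_of)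

universe u

variable {G : Type u} [Group G] {T V : Subgroup G} {z : G} {a b r f h : G}

theorem pow_three' (u : G) : u ^ 3 = u * u * u := by rw [pow_succ, pow_two]

theorem pow_four' (u : G) : u ^ 4 = u * u * u * u := by rw [pow_succ, pow_succ, pow_two]

/-- `u ∈ C(b)` of odd order, inverted by `f` -/
structure Iv (b f u : G) : Prop where
  cb : u * b = b * u
  odd : Odd (orderOf u)
  inv : f * u * f⁻¹ = u⁻¹

theorem Iv.pow {u : G} (i : Iv b f u) (k : ℕ) : Iv b f (u ^ k) where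
  cb := (show Commute u b from i.cb).pow_left k
  odd := Odd.of_dvd_nat i.odd (orderOf_pow_dvd k)
  inv := by rw [← conj_pow, i.inv, inv_pow]

theorem Iv.symm {u : G} (i : Iv b f u) : Iv b f u⁻¹ where
  cb := inv_comm_of i.cb
  odd := by rw [orderOf_inv]; exact i.odd
  inv := by
    have := congrArg (fun x => x⁻¹) i.inv
    simpa [mul_assoc] using this

/-- **Baer-Suzuki** -/
theorem exists_iv [Finite G] (hF : Fr T V z) (hb : Col V b b) (hf : f * b = b * f) (hff : f * f = 1)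
    (hfk : f ∉ kq V b) : ∃ h, Iv b f h ∧ h ≠ 1 := by
  have hfC : f ∈ centralizer ({b} : Set G) := mem_centralizer_singleton_iff.mpr hf
  obtain ⟨g, hg1, hgo, hgi⟩ := Involutions.BaerSuzuki.exists_odd_inverted
    (⟨f, hfC⟩ : ↥(centralizer ({b} : Set G))) (Subtype.ext hff) (by
      intro hp
      apply hfk
      let R : Subgroup G := (normalClosure {(⟨f, hfC⟩ : ↥(centralizer ({b} : Set G)))}).map
        (centralizer ({b} : Set G)).subtype
      have hR : R ≤ centralizer ({b} : Set G) := map_subtype_le _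
      have hn : centralizer ({b} : Set G) ≤ normalizer (R : Set G) := by
        refine le_normalizer_of_forall fun g hg x hx => ?_
        obtain ⟨y, hy, rfl⟩ := hx
        exact ⟨⟨g, hg⟩ * y * ⟨g, hg⟩⁻¹, normalClosure_normal.conj_mem y hy _, rfl⟩
      refine TypeN.le_kq_pt hF hb hR hn (fun x hx => ?_) ⟨_, subset_normalClosure rfl, rfl⟩
      obtain ⟨y, hy, rfl⟩ := hx
      obtain ⟨n, hn'⟩ := hp ⟨y, hy⟩
      refine ⟨n, ?_⟩
      have h1 : y ^ 2 ^ n = 1 := congrArg Subtype.val hn'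
      rw [← map_pow, h1, map_one]
      exact one_mem _)
  refine ⟨g, ⟨mem_centralizer_singleton_iff.mp g.2, ?_, congrArg Subtype.val hgi⟩, fun e => hg1 (Subtype.ext e)⟩
  rw [← Subgroup.orderOf_coe] at hgo
  exact hgo

/-- (LIFT) -/
theorem Iv.eq_one [Finite G] {u : G} (i : Iv b f u) (hT : Two T V z) (har : Col V a r) (hbb : b * b = 1)
    (hf : f ∈ ws V a) (hr : u * r * u⁻¹ = r ∨ u * r * u⁻¹ = b * r) : u = 1 := by
  have h2 : u * u * r = r * (u * u) := by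
    rcases hr with e | e
    · have h3 := comm_of_conj_eq e
      rw [mul_assoc, h3, ← mul_assoc, h3, mul_assoc]
    · apply comm_of_conj_eq
      calc u * u * r * (u * u)⁻¹ = u * (u * r * u⁻¹) * u⁻¹ := by group
        _ = u * b * (r * u⁻¹) := by rw [e]; group
        _ = b * (u * r * u⁻¹) := by rw [i.cb]; group
        _ = r := by rw [e, ← mul_assoc, hbb, one_mul]
  have hfo : f ∈ o2 (centralizer ({r} : Set G)) := hT.ws_le_o2 har hf
  have h4 : u * u * f * (u * u)⁻¹ * f⁻¹ ∈ o2 (centralizer ({r} : Set G)) :=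
    mul_mem (conj_mem_of_normalizer (le_normalizer_o2 _) (mem_centralizer_singleton_iff.mpr h2) hfo) (inv_mem hfo)
  have hi := i.symm.inv
  rw [inv_inv] at hi
  have h5 : u * u * f * (u * u)⁻¹ * f⁻¹ = u ^ 4 := by
    calc u * u * f * (u * u)⁻¹ * f⁻¹ = u * u * (f * u⁻¹ * f⁻¹) * (f * u⁻¹ * f⁻¹) := by group
      _ = u ^ 4 := by rw [hi, pow_four']
  rw [h5] at h4
  obtain ⟨n, hn⟩ := isPGroup_o2 (centralizer ({r} : Set G)) ⟨u ^ 4, h4⟩
  have h6 : u ^ (4 * 2 ^ n) = 1 := by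
    rw [pow_mul]
    exact congrArg Subtype.val hn
  have h7 : orderOf u ∣ 4 * 2 ^ n := orderOf_dvd_of_pow_eq_one h6
  have h8 : Nat.Coprime (orderOf u) (4 * 2 ^ n) := by
    have : 4 * 2 ^ n = 2 ^ (n + 2) := by rw [pow_add]; ring
    rw [this]
    exact Nat.Coprime.pow_right _ (Nat.coprime_two_right.2 i.odd)
  exact orderOf_eq_one_iff.mp (Nat.eq_one_of_dvd_coprimes h8 dvd_rfl h7)

/-- the situation: `(a, b)` critical with middle `r`, `f ∈ W_a`, `h ≠ 1` odd inverted by `f` -/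
structure Sit (T V : Subgroup G) (z a r b f h : G) : Prop where
  mid : Mid T V z a r b
  f_mem : f ∈ ws V a
  iv : Iv b f h
  ne : h ≠ 1

namespace Sit

variable [Finite G] (s : Sit T V z a r b f h)
include s

theorem bb : b * b = 1 := s.mid.fr.pt_sq s.mid.rq.right

theorem rr1 : r * r = 1 := s.mid.fr.pt_sq s.mid.rq.left

theorem ff : f * f = 1 := s.mid.fr.ws_sq s.mid.pr.left f s.f_mem

theorem fr : f * r = r * f := s.mid.toTwo.com s.mid.pr f s.f_mem r (s.mid.fr.mem_ws_self s.mid.rq.left)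

theorem fb : f * b = b * f := mem_centralizer_singleton_iff.mp (s.mid.symm.cent s.f_mem)

theorem eq_one' {u : G} (i : Iv b f u) (hr : u * r * u⁻¹ = r ∨ u * r * u⁻¹ = b * r) : u = 1 :=
  i.eq_one s.mid.toTwo s.mid.pr s.bb s.f_mem hr

/-- (LIFT) : the points `r_k` are different modulo `⟨b⟩` -/
theorem pow_eq_one {k : ℕ} (hr : h ^ k * r * (h ^ k)⁻¹ = r ∨ h ^ k * r * (h ^ k)⁻¹ = b * r) : h ^ k = 1 :=
  s.eq_one' (s.iv.pow k) hr

/-- an element commuting with `h²` commutes with `h` -/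
theorem comm_of_sq {u : G} (hu : h * h * u = u * (h * h)) : h * u = u * h := by
  obtain ⟨k, hk⟩ := s.iv.odd
  have h1 : (h * h) ^ (k + 1) = h := by
    rw [← pow_two, ← pow_mul, show 2 * (k + 1) = orderOf h + 1 by omega, pow_succ, pow_orderOf_eq_one, one_mul]
  have h2 : Commute ((h * h) ^ (k + 1)) u := (show Commute (h * h) u from hu).pow_left _
  rw [h1] at h2
  exact h2

/-- `f₁ f = h²` -/
theorem f1f : (h * f * h⁻¹) * f = h * h := by
  have hi := s.iv.symm.inv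
  rw [inv_inv] at hi
  have hfi : f⁻¹ = f := inv_eq_of_mul_eq_one_left s.ff
  rw [hfi] at hi
  calc (h * f * h⁻¹) * f = h * (f * h⁻¹ * f) := by group
    _ = h * h := by rw [hi]

/-- **(0.1)** : `W_r ∩ W_x` is centralised by `h` -/
theorem zero_one {u : G} (hu : u ∈ ws V r) (hu' : u ∈ ws V (h * r * h⁻¹)) : h * u = u * h := by
  apply s.comm_of_sq
  have h1 : f * u = u * f := (mem_centralizer_iff.mp (s.mid.toTwo.ws_le_cent s.mid.pr s.f_mem) u hu).symm
  have h2 : (h * f * h⁻¹) * u = u * (h * f * h⁻¹) :=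
    (mem_centralizer_iff.mp (s.mid.toTwo.ws_le_cent (s.mid.pr.conj h) (conj_mem_ws h s.f_mem)) u hu').symm
  rw [← s.f1f]
  exact mul_comm_of h2 h1

theorem hb : h * b * h⁻¹ = b := by rw [s.iv.cb, mul_inv_cancel_right]

theorem hb' : h⁻¹ * b * h = b := by rw [mul_assoc, ← s.iv.cb, inv_mul_cancel_left]

/-- `x ~ b` -/
theorem bx : Col V b (h * r * h⁻¹) := by
  have := s.mid.rq.symm.conj h
  rwa [s.hb] at this

theorem bx' : Col V b (h⁻¹ * r * h) := by
  have := s.mid.rq.symm.conj h⁻¹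
  rwa [inv_inv, s.hb'] at this

/-- `x^f = h⁻¹ r h` -/
theorem xf : f * (h * r * h⁻¹) * f⁻¹ = h⁻¹ * r * h := by
  have h1 := s.iv.inv
  have h2 := s.iv.symm.inv
  rw [inv_inv] at h2
  have h3 : f * r * f⁻¹ = r := by rw [s.fr, mul_inv_cancel_right]
  calc f * (h * r * h⁻¹) * f⁻¹ = (f * h * f⁻¹) * (f * r * f⁻¹) * (f * h⁻¹ * f⁻¹) := by group
    _ = h⁻¹ * r * h := by rw [h1, h2, h3]

theorem x_ne_b : h * r * h⁻¹ ≠ b := by
  intro e
  apply s.mid.ne_rq
  calc r = h⁻¹ * (h * r * h⁻¹) * h := by group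
    _ = b := by rw [e, s.hb']

theorem x'_ne_b : h⁻¹ * r * h ≠ b := by
  intro e
  apply s.mid.ne_rq
  calc r = h * (h⁻¹ * r * h) * h⁻¹ := by group
    _ = b := by rw [e, s.hb]

/-- `x ∉ {r, b r}` -/
theorem x_ne : h * r * h⁻¹ ≠ r ∧ h * r * h⁻¹ ≠ b * r :=
  ⟨fun e => s.ne (s.eq_one' s.iv (Or.inl e)), fun e => s.ne (s.eq_one' s.iv (Or.inr e))⟩

theorem x'_ne : h⁻¹ * r * h ≠ r ∧ h⁻¹ * r * h ≠ b * r :=
  ⟨fun e => s.ne (inv_eq_one.mp (s.eq_one' s.iv.symm (Or.inl (by rwa [inv_inv])))),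
    fun e => s.ne (inv_eq_one.mp (s.eq_one' s.iv.symm (Or.inr (by rwa [inv_inv]))))⟩

theorem sq_ne : h * h ≠ 1 := by
  intro e
  have h1 : orderOf h ∣ 2 := orderOf_dvd_of_pow_eq_one (by rw [pow_two]; exact e)
  rcases (Nat.dvd_prime Nat.prime_two).mp h1 with h2 | h2
  · exact s.ne (orderOf_eq_one_iff.mp h2)
  · have := s.iv.odd
    rw [h2] at this
    exact absurd this (by decide)

/-- `x' ∉ {x, b x}` -/
theorem x'_ne_x : h⁻¹ * r * h ≠ h * r * h⁻¹ ∧ h⁻¹ * r * h ≠ b * (h * r * h⁻¹) := by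
  have key : ∀ c, h * c = c * h → h⁻¹ * r * h = c * (h * r * h⁻¹) → (h * h) * r * (h * h)⁻¹ = c⁻¹ * r := by
    intro c hc e
    calc (h * h) * r * (h * h)⁻¹ = h * (c⁻¹ * (c * (h * r * h⁻¹))) * h⁻¹ := by group
      _ = h * (c⁻¹ * (h⁻¹ * r * h)) * h⁻¹ := by rw [e]
      _ = (h * c⁻¹) * h⁻¹ * r := by group
      _ = c⁻¹ * r := by rw [(show Commute h c from hc).inv_right.eq, mul_inv_cancel_right]
  have hp : Iv b f (h * h) := by
    have := s.iv.pow 2
    rwa [pow_two] at this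
  have hbi : b⁻¹ = b := inv_eq_of_mul_eq_one_left s.bb
  refine ⟨fun e => s.sq_ne (s.eq_one' hp (Or.inl ?_)), fun e => s.sq_ne (s.eq_one' hp (Or.inr ?_))⟩
  · have := key 1 (by rw [mul_one, one_mul]) (by rw [one_mul]; exact e)
    rwa [inv_one, one_mul] at this
  · have := key b s.iv.cb e
    rwa [hbi] at this

/-- `f x f⁻¹ ≠ x` -/
theorem fx_ne : f * (h * r * h⁻¹) * f⁻¹ ≠ h * r * h⁻¹ := by
  rw [s.xf]
  exact s.x'_ne_x.1

theorem r_b : r ∈ ws V b := s.mid.fr.mem_ws_of_col s.mid.rq.symm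

theorem x_b : h * r * h⁻¹ ∈ ws V b := s.mid.fr.mem_ws_of_col s.bx

theorem x'_b : h⁻¹ * r * h ∈ ws V b := s.mid.fr.mem_ws_of_col s.bx'

theorem b_b : b ∈ ws V b := s.mid.fr.mem_ws_self s.mid.rq.right

theorem comm {u v : G} (hu : u ∈ ws V b) (hv : v ∈ ws V b) : u * v = v * u :=
  s.mid.fr.ws_comm s.mid.rq.right u hu v hv

theorem sq {u : G} (hu : u ∈ ws V b) : u * u = 1 := s.mid.fr.ws_sq s.mid.rq.right u hu

/-- `x x^f ∈ W_a` -/
theorem xx_a : (h * r * h⁻¹) * (h⁻¹ * r * h) ∈ ws V a := by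
  have h1 : (h * r * h⁻¹) * f * (h * r * h⁻¹)⁻¹ ∈ ws V a :=
    conj_mem_of_normalizer s.mid.norm s.x_b s.f_mem
  have h2 := mul_mem h1 (inv_mem s.f_mem)
  have hxi : (h * r * h⁻¹)⁻¹ = h * r * h⁻¹ := inv_eq_of_mul_eq_one_left (s.sq s.x_b)
  have e : (h * r * h⁻¹) * f * (h * r * h⁻¹)⁻¹ * f⁻¹ = (h * r * h⁻¹) * (h⁻¹ * r * h) := by
    rw [hxi, ← s.xf]
    group
  rwa [e] at h2

/-- membership in `⟨x, y⟩ N_b` -/
theorem mem_cases (nb : NB V) {x y v : G} (hx : x ∈ ws V b) (hy : y ∈ ws V b)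
    (hv : v ∈ closure {x, y} ⊔ nn (ws V b) (kq V b)) :
    ∃ c, (c = 1 ∨ c = b) ∧ (v = c ∨ v = c * x ∨ v = c * y ∨ v = c * (x * y)) := by
  have hle : closure ({x, y} : Set G) ≤ ws V b := by
    rw [closure_le]
    rintro w (rfl | rfl)
    · exact hx
    · exact hy
  obtain ⟨w, hw, c, hc, rfl⟩ := mem_sup_of_comm (W := ws V b) (s.mid.fr.ws_comm s.mid.rq.right) hle
    (fun w hw => (mem_nn.mp hw).1) hv
  have hc' := (mem_zpowers_iff_of_mul_self s.bb).mp (nb b s.mid.rq.right hc)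
  have hcW : c ∈ ws V b := (mem_nn.mp hc).1
  refine ⟨c, hc', ?_⟩
  have hwW := hle hw
  rw [s.comm hwW hcW]
  -- the elements of `⟨x, y⟩`
  let D : Subgroup G :=
    { carrier := {w | w ∈ ws V b ∧ (w = 1 ∨ w = x ∨ w = y ∨ w = x * y)}
      one_mem' := ⟨one_mem _, Or.inl rfl⟩
      mul_mem' := by
        have hxx := s.sq hx
        have hyy := s.sq hy
        have hxy := s.comm hx hy
        rintro u v ⟨hu, h1⟩ ⟨hv, h2⟩
        refine ⟨mul_mem hu hv, ?_⟩
        rcases h1 with rfl | rfl | rfl | rfl <;> rcases h2 with rfl | rfl | rfl | rfl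
        · left; rw [one_mul]
        · right; left; rw [one_mul]
        · right; right; left; rw [one_mul]
        · right; right; right; rw [one_mul]
        · right; left; rw [mul_one]
        · left; exact hxx
        · right; right; right; rfl
        · right; right; left; rw [← mul_assoc, hxx, one_mul]
        · right; right; left; rw [mul_one]
        · right; right; right; exact hxy.symm
        · left; exact hyy
        · right; left; rw [hxy, ← mul_assoc, hyy, one_mul]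
        · right; right; right; rw [mul_one]
        · right; right; left; rw [hxy, mul_assoc, hxx, mul_one]
        · right; left; rw [mul_assoc, hyy, mul_one]
        · left
          calc x * y * (x * y) = x * (y * x) * y := by group
            _ = (x * x) * (y * y) := by rw [← hxy]; group
            _ = 1 := by rw [hxx, hyy, one_mul]
      inv_mem' := by
        rintro u ⟨hu, h1⟩
        rw [inv_eq_of_mul_eq_one_left (s.sq hu)]
        exact ⟨hu, h1⟩ }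
  have hD : closure ({x, y} : Set G) ≤ D := by
    rw [closure_le]
    rintro w (rfl | rfl)
    · exact ⟨hx, Or.inr (Or.inl rfl)⟩
    · exact ⟨hy, Or.inr (Or.inr (Or.inl rfl))⟩
  rcases (hD hw).2 with e | e | e | e
  · left; rw [e, mul_one]
  · right; left; rw [e]
  · right; right; left; rw [e]
  · right; right; right; rw [e]

/-- `c ∈ {1, b}`, `c v ∈ W_a`, `v ∈ W_a` : `c = 1` -/
theorem c_one {c v : G} (hc : c = 1 ∨ c = b) (h1 : c * v ∈ ws V a) (h2 : v ∈ ws V a) : c = 1 := by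
  rcases hc with e | e
  · exact e
  · exfalso
    rw [e] at h1
    have := mul_mem h1 (inv_mem h2)
    rw [mul_inv_cancel_right] at this
    exact s.mid.not_mem' this

theorem r_a : r ∈ ws V a := (mem_inf.mp s.mid.r_mem).1

/-- `x x' = r` if `x x' ∈ r ⟨b⟩` -/
theorem xx_eq {c : G} (hc : c = 1 ∨ c = b) (e : (h * r * h⁻¹) * (h⁻¹ * r * h) = c * r) :
    (h * r * h⁻¹) * (h⁻¹ * r * h) = r := by
  have h1 : c = 1 := s.c_one hc (by rw [← e]; exact s.xx_a) s.r_a
  rw [e, h1, one_mul]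

/-- `x x^f = r` implies `h³ = 1` -/
theorem cube (e : (h * r * h⁻¹) * (h⁻¹ * r * h) = r) : h ^ 3 = 1 := by
  -- `r_2 = r_1 r_0 = r_{-1}`
  have hrr := s.rr1
  have hxx := s.sq s.x_b
  have e0 : h⁻¹ * r * h = (h * r * h⁻¹) * r := by
    calc h⁻¹ * r * h = (h * r * h⁻¹) * (h * r * h⁻¹) * (h⁻¹ * r * h) := by rw [hxx, one_mul]
      _ = (h * r * h⁻¹) * ((h * r * h⁻¹) * (h⁻¹ * r * h)) := by group
      _ = (h * r * h⁻¹) * r := by rw [e]
  have e1 : (h * h) * r * (h * h)⁻¹ * r = h * r * h⁻¹ := by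
    have : h * ((h * r * h⁻¹) * (h⁻¹ * r * h)) * h⁻¹ = h * r * h⁻¹ := by rw [e]
    calc (h * h) * r * (h * h)⁻¹ * r = h * ((h * r * h⁻¹) * (h⁻¹ * r * h)) * h⁻¹ := by group
      _ = h * r * h⁻¹ := this
  have e2 : (h * h) * r * (h * h)⁻¹ = (h * r * h⁻¹) * r := by
    calc (h * h) * r * (h * h)⁻¹ = ((h * h) * r * (h * h)⁻¹ * r) * r := by rw [mul_assoc _ r r, hrr, mul_one]
      _ = (h * r * h⁻¹) * r := by rw [e1]
  rw [← e0] at e2
  refine s.eq_one' (s.iv.pow 3) (Or.inl ?_)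
  calc h ^ 3 * r * (h ^ 3)⁻¹ = h * ((h * h) * r * (h * h)⁻¹) * h⁻¹ := by rw [pow_three']; group
    _ = h * (h⁻¹ * r * h) * h⁻¹ := by rw [e2]
    _ = r := by group

/-- `h⁻² r h² = h r h⁻¹` if `h³ = 1` -/
theorem inv_x' (e : h ^ 3 = 1) : h⁻¹ * (h⁻¹ * r * h) * h = h * r * h⁻¹ := by
  have h1 : h * h = h⁻¹ := by
    apply eq_inv_of_mul_eq_one_left
    rw [← pow_three', e]
  have h2 : h⁻¹ * h⁻¹ = h := by
    rw [← mul_inv_rev, h1, inv_inv]
  calc h⁻¹ * (h⁻¹ * r * h) * h = (h⁻¹ * h⁻¹) * r * (h * h) := by group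
    _ = h * r * h⁻¹ := by rw [h1, h2]

/-- (S) for `(x, x^f)` : `h ∈ ⟨C(W_x), C(W_{x^f})⟩` -/
theorem h_mem : h ∈ centralizer (ws V (h * r * h⁻¹) : Set G) ⊔ centralizer (ws V (h⁻¹ * r * h) : Set G) := by
  have h1 : h * f * h⁻¹ ∈ centralizer (ws V (h * r * h⁻¹) : Set G) :=
    s.mid.toTwo.ws_le_cent (s.mid.pr.conj h) (conj_mem_ws h s.f_mem)
  have h2 : h⁻¹ * f * h ∈ centralizer (ws V (h⁻¹ * r * h) : Set G) := by
    have h3 := s.mid.toTwo.ws_le_cent (s.mid.pr.conj h⁻¹) (conj_mem_ws h⁻¹ s.f_mem)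
    rwa [inv_inv] at h3
  have h3 : (h * f * h⁻¹) * (h⁻¹ * f * h) = h ^ 4 := by
    have hi := s.iv.symm.inv
    rw [inv_inv] at hi
    have hfi : f⁻¹ = f := inv_eq_of_mul_eq_one_left s.ff
    rw [hfi] at hi
    calc (h * f * h⁻¹) * (h⁻¹ * f * h) = h * (f * h⁻¹ * f) * (f * f)⁻¹ * (f * h⁻¹ * f) * h := by group
      _ = h ^ 4 := by rw [hi, s.ff, pow_four']; group
  have h4 : (h * f * h⁻¹) * (h⁻¹ * f * h) ∈ centralizer (ws V (h * r * h⁻¹) : Set G) ⊔
      centralizer (ws V (h⁻¹ * r * h) : Set G) := mul_mem (mem_sup_left h1) (mem_sup_right h2)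
  rw [h3] at h4
  -- `h` is a power of `h ^ 4`
  have hc : Nat.Coprime 4 (orderOf h) := by
    have : (4 : ℕ) = 2 ^ 2 := rfl
    rw [this]
    exact Nat.Coprime.pow_left _ (Nat.coprime_two_left.2 s.iv.odd)
  obtain ⟨k, hk⟩ := exists_pow_eq_self_of_coprime hc
  have h5 := pow_mem h4 k
  rw [hk] at h5
  exact h5

/-- **(0.2)** : if (D) fails for `(x, x^f)`, then (S) holds and `x x^f = r` -/
theorem bad (nb : NB V) (hD : ¬ ws V (h * r * h⁻¹) ⊓ ws V (h⁻¹ * r * h) ≤ ws V b) :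
    (h * r * h⁻¹) * (h⁻¹ * r * h) = r ∧ ∀ g ∈ centralizer (ws V (h * r * h⁻¹) : Set G),
      g * (h⁻¹ * r * h) * g⁻¹ ∈ closure {h * r * h⁻¹, h⁻¹ * r * h} ⊔ nn (ws V b) (kq V b) := by
  have h1 := (s.mid.fr.lemD s.bx s.bx' s.x_ne_b s.x'_ne_b).resolve_left hD
  refine ⟨?_, fun g hg => (h1 g (mem_sup_left hg)).2⟩
  have h2 := (h1 h⁻¹ (inv_mem s.h_mem)).1
  have e : h⁻¹ * (h * r * h⁻¹) * h⁻¹⁻¹ = r := by group
  rw [e] at h2
  obtain ⟨c, hc, h3⟩ := s.mem_cases nb s.x_b s.x'_b h2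
  have hcc : c * c = 1 := by
    rcases hc with rfl | rfl
    · rw [one_mul]
    · exact s.bb
  have mv : ∀ v, r = c * v → v = c * r := fun v hv => by rw [hv, ← mul_assoc, hcc, one_mul]
  rcases h3 with h3 | h3 | h3 | h3
  · exfalso
    rcases hc with rfl | rfl
    · exact s.mid.rq.ne_one h3
    · exact s.mid.ne_rq h3
  · exfalso
    have := mv _ h3
    rcases hc with rfl | rfl
    · exact s.x_ne.1 (by rw [this, one_mul])
    · exact s.x_ne.2 this
  · exfalso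
    have := mv _ h3
    rcases hc with rfl | rfl
    · exact s.x'_ne.1 (by rw [this, one_mul])
    · exact s.x'_ne.2 this
  · exact s.xx_eq hc (mv _ h3)

/-- (D) for `(x, x^f)` implies (D) for `(x, r)` -/
theorem inf_le (nb : NB V) (hD : ws V (h * r * h⁻¹) ⊓ ws V (h⁻¹ * r * h) ≤ ws V b) :
    ws V (h * r * h⁻¹) ⊓ ws V r ≤ ws V b := by
  by_contra hcon
  have h1 := (s.mid.fr.lemD s.bx s.mid.rq.symm s.x_ne_b s.mid.ne_rq).resolve_left hcon
  have hfc : f ∈ centralizer (ws V r : Set G) := s.mid.toTwo.ws_le_cent s.mid.pr s.f_mem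
  have h2 := (h1 f (mem_sup_right hfc)).1
  rw [s.xf] at h2
  obtain ⟨c, hc, h3⟩ := s.mem_cases nb s.x_b s.r_b h2
  have hcc : c * c = 1 := by
    rcases hc with rfl | rfl
    · rw [one_mul]
    · exact s.bb
  have hcW : c ∈ ws V b := by
    rcases hc with rfl | rfl
    · exact one_mem _
    · exact s.b_b
  have e : (h * r * h⁻¹) * (h⁻¹ * r * h) = r := by
    rcases h3 with h3 | h3 | h3 | h3
    · exfalso
      rcases hc with rfl | rfl
      · exact s.bx'.symm.ne_one h3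
      · exact s.x'_ne_b h3
    · exfalso
      rcases hc with rfl | rfl
      · exact s.x'_ne_x.1 (by rw [h3, one_mul])
      · exact s.x'_ne_x.2 h3
    · exfalso
      rcases hc with rfl | rfl
      · exact s.x'_ne.1 (by rw [h3, one_mul])
      · exact s.x'_ne.2 h3
    · refine s.xx_eq hc ?_
      rw [h3]
      calc (h * r * h⁻¹) * (c * ((h * r * h⁻¹) * r)) = (h * r * h⁻¹) * c * ((h * r * h⁻¹) * r) := by group
        _ = c * (h * r * h⁻¹) * ((h * r * h⁻¹) * r) := by rw [s.comm s.x_b hcW]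
        _ = c * ((h * r * h⁻¹) * (h * r * h⁻¹)) * r := by group
        _ = c * r := by rw [s.sq s.x_b, mul_one]
  have h3 := s.cube e
  have h4 := s.inv_x' h3
  apply hcon
  rintro u ⟨hu1, hu2⟩
  have e1 : h * u * h⁻¹ ∈ ws V (h * r * h⁻¹) := conj_mem_ws h hu2
  have e2 : h * u * h⁻¹ ∈ ws V (h⁻¹ * r * h) := by
    have := conj_mem_ws h hu1
    rw [← h4] at this
    have e : h * (h⁻¹ * (h⁻¹ * r * h) * h) * h⁻¹ = h⁻¹ * r * h := by group
    rwa [e] at this
  have h5 := conj_mem_ws h⁻¹ (hD ⟨e1, e2⟩)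
  rw [inv_inv, s.hb'] at h5
  have e : h⁻¹ * (h * u * h⁻¹) * h = u := by group
  rwa [e] at h5

/-- if (D) fails for `(x, x^f)`, then `[W_a, x] ≤ ⟨r⟩` -/
theorem comm_mem_of_bad (nb : NB V) (hD : ¬ ws V (h * r * h⁻¹) ⊓ ws V (h⁻¹ * r * h) ≤ ws V b) {w : G} (hw : w ∈ ws V a) :
    w * (h * r * h⁻¹) * w⁻¹ * (h * r * h⁻¹)⁻¹ ∈ zpowers r := by
  obtain ⟨e, h1⟩ := s.bad nb hD
  have h3 := s.inv_x' (s.cube e)
  set x := h * r * h⁻¹ with hx
  set x' := h⁻¹ * r * h with hx'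
  have hwc : w ∈ centralizer (ws V r : Set G) := s.mid.toTwo.ws_le_cent s.mid.pr hw
  -- `h w h⁻¹ ∈ C(W_x)`
  have hhw : h * w * h⁻¹ ∈ centralizer (ws V x : Set G) := by
    rw [mem_centralizer_iff]
    intro v hv
    have h4 := conj_mem_ws h⁻¹ hv
    have e4 : h⁻¹ * x * h⁻¹⁻¹ = r := by rw [hx]; group
    rw [e4, inv_inv] at h4
    have h5 := mem_centralizer_iff.mp hwc _ h4
    calc v * (h * w * h⁻¹) = h * ((h⁻¹ * v * h) * w) * h⁻¹ := by group
      _ = h * (w * (h⁻¹ * v * h)) * h⁻¹ := by rw [h5]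
      _ = h * w * h⁻¹ * v := by group
  obtain ⟨c, hc, h6⟩ := s.mem_cases nb s.x_b s.x'_b (h1 _ hhw)
  -- conjugate by `h⁻¹`
  have hcc : h⁻¹ * c * h = c := by
    rcases hc with rfl | rfl
    · group
    · exact s.hb'
  have e7 : w * x * w⁻¹ = h⁻¹ * ((h * w * h⁻¹) * x' * (h * w * h⁻¹)⁻¹) * h := by
    rw [← h3]; group
  have e8 : h⁻¹ * x * h = r := by rw [hx]; group
  have h9 : w * x * w⁻¹ = c ∨ w * x * w⁻¹ = c * r ∨ w * x * w⁻¹ = c * x ∨ w * x * w⁻¹ = c * (r * x) := by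
    rw [e7]
    rcases h6 with h6 | h6 | h6 | h6 <;> rw [h6]
    · left; exact hcc
    · right; left
      calc h⁻¹ * (c * x) * h = (h⁻¹ * c * h) * (h⁻¹ * x * h) := by group
        _ = c * r := by rw [hcc, e8]
    · right; right; left
      calc h⁻¹ * (c * x') * h = (h⁻¹ * c * h) * (h⁻¹ * x' * h) := by group
        _ = c * x := by rw [hcc, h3]
    · right; right; right
      calc h⁻¹ * (c * (x * x')) * h = (h⁻¹ * c * h) * ((h⁻¹ * x * h) * (h⁻¹ * x' * h)) := by group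
        _ = c * (r * x) := by rw [hcc, e8, h3]
  -- `[w, x] ∈ W_a`
  have hwx : w * x * w⁻¹ * x⁻¹ ∈ ws V a := by
    have : w * x * w⁻¹ * x⁻¹ = w * (x * w⁻¹ * x⁻¹) := by group
    rw [this]
    exact mul_mem hw (conj_mem_of_normalizer s.mid.norm s.x_b (inv_mem hw))
  have hwr : w * r = r * w := s.mid.toTwo.com s.mid.pr w hw r (s.mid.fr.mem_ws_self s.mid.rq.left)
  have hwb : w * b = b * w := mem_centralizer_singleton_iff.mp (s.mid.symm.cent hw)
  have hwcc : w⁻¹ * c * w = c := by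
    rcases hc with rfl | rfl
    · group
    · rw [mul_assoc, ← hwb, inv_mul_cancel_left]
  have back : ∀ y, w * x * w⁻¹ = y → x = w⁻¹ * y * w := fun y hy => by rw [← hy]; group
  have hwr' : w⁻¹ * r * w = r := by rw [mul_assoc, ← hwr, inv_mul_cancel_left]
  rcases h9 with h9 | h9 | h9 | h9
  · exfalso
    have := back _ h9
    rw [hwcc] at this
    rcases hc with rfl | rfl
    · exact s.bx.symm.ne_one this
    · exact s.x_ne_b this
  · exfalso
    have := back _ h9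
    have e10 : w⁻¹ * (c * r) * w = (w⁻¹ * c * w) * (w⁻¹ * r * w) := by group
    rw [e10, hwcc, hwr'] at this
    rcases hc with rfl | rfl
    · exact s.x_ne.1 (by rw [one_mul] at this; exact this)
    · exact s.x_ne.2 this
  · have e10 : w * x * w⁻¹ * x⁻¹ = c * 1 := by rw [h9]; group
    rw [e10] at hwx ⊢
    rw [s.c_one hc hwx (one_mem _), mul_one]
    exact one_mem _
  · have e10 : w * x * w⁻¹ * x⁻¹ = c * r := by rw [h9]; group
    rw [e10] at hwx ⊢
    rw [s.c_one hc hwx s.r_a, one_mul]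
    exact mem_zpowers r

end Sit

/-! ### the pairing -/

/-- a pairing `X × Y → ⟨r⟩` -/
theorem relIndex_le_of_pair [Finite G] {X Y : Subgroup G} (hr : r * r = 1) (hX : ∀ x ∈ X, x * r = r * x)
    (hp : ∀ x ∈ X, ∀ y ∈ Y, x * y * x⁻¹ * y⁻¹ ∈ zpowers r) :
    (X ⊓ centralizer (Y : Set G)).relIndex X ≤ (Y ⊓ centralizer (X : Set G)).relIndex Y := by
  classical
  set Y₀ := Y ⊓ centralizer (X : Set G) with hY₀
  let P : Subgroup G → Prop := fun Z => Y₀ ≤ Z ∧ Z ≤ Y ∧ (X ⊓ centralizer (Z : Set G)).relIndex X ≤ Y₀.relIndex Z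
  have h0 : P Y₀ := by
    refine ⟨le_rfl, inf_le_left, ?_⟩
    have : X ⊓ centralizer (Y₀ : Set G) = X := by
      refine le_antisymm inf_le_left fun x hx => ⟨hx, mem_centralizer_iff.mpr fun y hy => ?_⟩
      exact (mem_centralizer_iff.mp hy.2 x hx).symm
    rw [this, relIndex_self, relIndex_self]
  obtain ⟨Z, hZ, hmax⟩ := (Set.toFinite {Z | P Z}).exists_le_maximal h0
  have hZP : P Z := hmax.prop
  obtain ⟨h1, h2, h3⟩ := hZP
  by_cases hYZ : Y ≤ Z
  · rwa [le_antisymm h2 hYZ] at h3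
  exfalso
  obtain ⟨y, hy, hyZ⟩ := SetLike.not_le_iff_exists.mp hYZ
  set Z' := Z ⊔ zpowers y with hZ'
  have hZZ' : Z ≤ Z' := le_sup_left
  have hyZ' : y ∈ Z' := mem_sup_right (mem_zpowers y)
  have hlt : ¬ Z' ≤ Z := fun h => hyZ (h hyZ')
  have hZ'Y : Z' ≤ Y := sup_le h2 (by rwa [zpowers_le])
  have e1 : X ⊓ centralizer (Z' : Set G) = (X ⊓ centralizer (Z : Set G)) ⊓ centralizer ({y} : Set G) := by
    ext g
    constructor
    · rintro ⟨hg, hg'⟩
      exact ⟨⟨hg, centralizer_le hZZ' hg'⟩, mem_centralizer_singleton_iff.mpr (mem_centralizer_iff.mp hg' y hyZ').symm⟩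
    · rintro ⟨⟨hg, hg1⟩, hg2⟩
      refine ⟨hg, ?_⟩
      have : Z' ≤ centralizer ({g} : Set G) := by
        refine sup_le (fun z hz => ?_) ?_
        · rw [mem_centralizer_singleton_iff]
          exact mem_centralizer_iff.mp hg1 z hz
        · rw [zpowers_le, mem_centralizer_singleton_iff]
          exact (mem_centralizer_singleton_iff.mp hg2).symm
      exact mem_centralizer_iff.mpr fun z hz => mem_centralizer_singleton_iff.mp (this hz)
  have e2 : xmod r (X ⊓ centralizer (Z : Set G)) y = X ⊓ centralizer (Z : Set G) := by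
    refine le_antisymm (fun g hg => hg.1) fun g hg => ⟨hg, hX g hg.1, hp g hg.1 y hy⟩
  have h4 := xmod_relIndex_le (X := X ⊓ centralizer (Z : Set G)) (f := y) (a := r) hr
  rw [e2, ← e1] at h4
  have h5 := relIndex_mul_relIndex (X ⊓ centralizer (Z' : Set G)) (X ⊓ centralizer (Z : Set G)) X
    (by rw [e1]; exact inf_le_left) inf_le_left
  have h6 := relIndex_mul_relIndex Y₀ Z Z' h1 hZZ'
  have h7 : 2 ≤ Z.relIndex Z' := by
    have h8 : Z.relIndex Z' ≠ 0 := index_ne_zero_of_finite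
    have h9 : Z.relIndex Z' ≠ 1 := fun e => hlt (relIndex_eq_one.mp e)
    omega
  have hP : P Z' := by
    refine ⟨h1.trans hZZ', hZ'Y, ?_⟩
    rw [← h5, ← h6]
    calc _ ≤ 2 * (Y₀.relIndex Z) := Nat.mul_le_mul h4 h3
      _ ≤ Y₀.relIndex Z * Z.relIndex Z' := by rw [mul_comm]; exact Nat.mul_le_mul_left _ h7
  exact hlt (hmax.le_of_ge hP hZZ')

/-! ### the theorem -/

/-- **some `(f, h)` satisfies (D)** -/
theorem exists_sit [Finite G] (hm : Mid T V z a r b) (nb : NB V) (no : NOm V) (hne : ¬ rr V a b ≤ zpowers r) :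
    ∃ f h, Sit T V z a r b f h ∧ ws V (h * r * h⁻¹) ⊓ ws V (h⁻¹ * r * h) ≤ ws V b := by
  by_contra hcon
  push Not at hcon
  apply hne
  have hrr : r * r = 1 := hm.fr.pt_sq hm.rq.left
  have har : ∀ w ∈ ws V a, w * r = r * w := fun w hw =>
    hm.toTwo.com hm.pr w hw r (hm.fr.mem_ws_self hm.rq.left)
  have hzr : ∀ g, g * r = r * g → ∀ c ∈ zpowers r, g * c * g⁻¹ = c := fun g hg c hc => by
    rcases (mem_zpowers_iff_of_mul_self hrr).mp hc with e | e
    · rw [e]; group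
    · rw [e, hg, mul_inv_cancel_right]
  have hbr : ∀ v ∈ ws V b, v * r = r * v := fun v hv =>
    hm.fr.ws_comm hm.rq.right v hv r (hm.fr.mem_ws_of_col hm.rq.symm)
  -- `W_1`
  let Y : Subgroup G :=
    { carrier := {v | v ∈ ws V b ∧ ∀ w ∈ ws V a, w * v * w⁻¹ * v⁻¹ ∈ zpowers r}
      one_mem' := ⟨one_mem _, fun w _ => by simp⟩
      mul_mem' := by
        rintro u v ⟨hu, hu'⟩ ⟨hv, hv'⟩
        refine ⟨mul_mem hu hv, fun w hw => ?_⟩
        have e : w * (u * v) * w⁻¹ * (u * v)⁻¹ = (w * u * w⁻¹ * u⁻¹) * (u * (w * v * w⁻¹ * v⁻¹) * u⁻¹) := by group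
        rw [e, hzr u (hbr u hu) _ (hv' w hw)]
        exact mul_mem (hu' w hw) (hv' w hw)
      inv_mem' := by
        rintro u ⟨hu, hu'⟩
        refine ⟨inv_mem hu, fun w hw => ?_⟩
        have e : w * u⁻¹ * w⁻¹ * u⁻¹⁻¹ = u⁻¹ * (w * u * w⁻¹ * u⁻¹)⁻¹ * u⁻¹⁻¹ := by group
        rw [e, hzr u⁻¹ (inv_comm_of (hbr u hu)) _ (inv_mem (hu' w hw))]
        exact inv_mem (hu' w hw) }
  have hYb : Y ≤ ws V b := fun v hv => hv.1
  -- `C_{W_a}(Y) = C_{W_a}(W_b)`
  have e1 : ws V a ⊓ centralizer (Y : Set G) = ws V a ⊓ centralizer (ws V b : Set G) := by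
    refine le_antisymm (fun w hw => ⟨hw.1, ?_⟩) fun w hw => ⟨hw.1, centralizer_le hYb hw.2⟩
    by_contra hwc
    have hwk : w ∉ kq V b := fun hk => hwc (hm.symm.cent_of_kq hw.1 hk)
    have hwb : w * b = b * w := mem_centralizer_singleton_iff.mp (hm.symm.cent hw.1)
    obtain ⟨h, hi, h1⟩ := exists_iv hm.fr hm.rq.right hwb (hm.fr.ws_sq hm.pr.left w hw.1) hwk
    have s : Sit T V z a r b w h := ⟨hm, hw.1, hi, h1⟩
    have hD := hcon w h s
    have hxY : h * r * h⁻¹ ∈ Y := ⟨s.x_b, fun v hv => s.comm_mem_of_bad nb hD hv⟩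
    have h2 := mem_centralizer_iff.mp hw.2 _ hxY
    exact s.fx_ne (by rw [← h2, mul_inv_cancel_right])
  have e2 : Y ⊓ centralizer (ws V a : Set G) = ws V b ⊓ centralizer (ws V a : Set G) := by
    refine le_antisymm (fun v hv => ⟨hYb hv.1, hv.2⟩) fun v hv => ⟨⟨hv.1, fun w hw => ?_⟩, hv.2⟩
    rw [mem_centralizer_iff.mp hv.2 w hw, mul_inv_cancel_right, mul_inv_cancel]
    exact one_mem _
  have h1 := relIndex_le_of_pair (X := ws V a) (Y := Y) hrr har fun w hw v hv => hv.2 w hw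
  rw [e1, e2, hm.exact no] at h1
  have h2 := relIndex_mul_relIndex (ws V b ⊓ centralizer (ws V a : Set G)) Y (ws V b)
    (by rw [← e2]; exact inf_le_left) hYb
  have h3 : Y.relIndex (ws V b) = 1 := by
    rw [← h2] at h1
    have p1 : 0 < (ws V b ⊓ centralizer (ws V a : Set G)).relIndex Y := Nat.pos_of_ne_zero index_ne_zero_of_finite
    have p2 : 0 < Y.relIndex (ws V b) := Nat.pos_of_ne_zero index_ne_zero_of_finite
    have h4 : (ws V b ⊓ centralizer (ws V a : Set G)).relIndex Y * Y.relIndex (ws V b) ≤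
      (ws V b ⊓ centralizer (ws V a : Set G)).relIndex Y * 1 := by rwa [mul_one]
    have := Nat.le_of_mul_le_mul_left h4 p1
    omega
  have h4 : ws V b ≤ Y := relIndex_eq_one.mp h3
  refine (closure_le _).mpr ?_
  rintro _ ⟨w, hw, v, hv, rfl⟩
  exact (h4 hv).2 w hw

/-- **some `(f, h)` is alpha or beta, not bad** -/
theorem exists_alpha [Finite G] (hm : Mid T V z a r b) (nb : NB V) (no : NOm V) (hne : ¬ rr V a b ≤ zpowers r) :
    ∃ f ∈ ws V a, ∃ h' ∈ centralizer ({b} : Set G), Odd (orderOf h') ∧ h' ≠ 1 ∧ f * h' * f⁻¹ = h'⁻¹ ∧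
      f * (h' * r * h'⁻¹) * f⁻¹ ≠ h' * r * h'⁻¹ ∧
      ws V (h' * r * h'⁻¹) ⊓ ws V (f * (h' * r * h'⁻¹) * f⁻¹) ≤ ws V b ∧
      ws V (h' * r * h'⁻¹) ⊓ ws V r ≤ ws V b := by
  obtain ⟨f, h, s, hD⟩ := exists_sit hm nb no hne
  refine ⟨f, s.f_mem, h, mem_centralizer_singleton_iff.mpr s.iv.cb, s.iv.odd, s.ne, s.iv.inv, s.fx_ne, ?_,
    s.inf_le nb hD⟩
  rw [s.xf]
  exact hD

end Cfsg.Agent.Omega.NO3S.TwoMid.Alpha

end

section


/-!
# W0 is dead (helper56 #21024), step (7): END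

`nv L x a` : `a` is a lift of the canonical vector `n_{x,L}` of the flag `(x, L)`.  `EndD` collects the situation:
`(q, p)` critical, `r` the neighbour of `p` on a geodesic, `L = cj g₀ V = {1, p, r, p r}`, `f ∈ W_q`, `f ∉ K_p`;
(1) `f` centralises the canonical lifts on `L`; (5) `n_x n_x^f ∈ W_p` for `x ~ p`, `x^f ≠ x`;
(6) `n_x n_{x'} ∉ W_p` for `x' ∈ x N_p`, `x' ∉ x⟨p⟩`.  The end is helper240's (#21368): neither (D) nor LEMMA D.

* `EndD.false` : this is impossible.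
-/

set_option autoImplicit false
set_option linter.unusedSectionVars false

namespace Cfsg.Agent.Omega.NO3S.WZero

open Subgroup Cfsg Cfsg.Agent.ZN Cfsg.Agent.MinSimple.Geo Cfsg.Agent.Omega.CaseL Cfsg.Agent.Omega.NO3S.TwoOne
  Cfsg.Agent.Omega.NO3S.Pt Cfsg.Agent.Omega.NO3S.TwoMid.Alpha
open Cfsg.Agent.Omega.NO3S.Dual (nn mem_nn DW mem_sup_of_comm)
open Cfsg.Agent.ZN.Block (conj_mem_of_normalizer conj_mem_of_normalizer' le_normalizer_of_forall
  mem_normalizer_of)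

universe u

variable {G : Type u} [Group G] {T V : Subgroup G} {z p q r f g₀ : G} {nv : Subgroup G → G → G → Prop}

/-- the situation of (7) -/
structure EndD (T V : Subgroup G) (z : G) (nv : Subgroup G → G → G → Prop) (g₀ p q r f : G) : Prop where
  fr : Fr T V z
  pL : p ∈ cj g₀ V
  rL : r ∈ cj g₀ V
  p1 : p ≠ 1
  r1 : r ≠ 1
  rp : r ≠ p
  qq : Col V q q
  fW : f ∈ ws V q
  fo : f ∈ o2 (centralizer ({r} : Set G))
  fr0 : f ∈ centralizer (ws V r : Set G)
  fk : f ∉ kq V p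
  /-- the canonical lifts -/
  mem : ∀ g x a, nv (cj g V) x a → a ∈ nn (ws V x) (kq V x)
  ne : ∀ g x a, nv (cj g V) x a → a ∉ zpowers x
  ex : ∀ g x, x ∈ cj g V → x ≠ 1 → ∃ a, nv (cj g V) x a
  uniq : ∀ g x a b, nv (cj g V) x a → nv (cj g V) x b → b = a ∨ b = x * a
  conj : ∀ k g x a, nv (cj g V) x a → nv (cj k (cj g V)) (k * x * k⁻¹) (k * a * k⁻¹)
  /-- (1) on the line `L` -/
  one : ∀ x a, x ∈ cj g₀ V → x ≠ 1 → nv (cj g₀ V) x a → f * a = a * f
  /-- (5) -/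
  five : ∀ g x a, p ∈ cj g V → x ∈ cj g V → x ≠ 1 → x ≠ p → x ∉ ws V q → nv (cj g V) x a →
    a * (f * a * f⁻¹) ∈ ws V p
  /-- (6) -/
  six : ∀ g g' x x' a a', p ∈ cj g V → x ∈ cj g V → x ≠ 1 → x ≠ p → p ∈ cj g' V → x' ∈ cj g' V → x' ≠ 1 →
    x' ≠ p → x * x' ∈ nn (ws V p) (kq V p) → x' ≠ x → x' ≠ p * x → nv (cj g V) x a → nv (cj g' V) x' a' →
    a * a' ∉ ws V p

namespace EndD

variable [Finite G] (s : EndD T V z nv g₀ p q r f)
include s

theorem colpr : Col V p r := ⟨g₀, s.pL, s.rL, s.p1, s.r1⟩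

theorem pp : p * p = 1 := s.fr.pt_sq s.colpr.left

theorem rr : r * r = 1 := s.fr.pt_sq s.colpr.right

theorem ff : f * f = 1 := s.fr.ws_sq s.qq f s.fW

/-- `f` centralises `L` -/
theorem fL {x : G} (hx : x ∈ cj g₀ V) : f * x = x * f :=
  (mem_centralizer_iff.mp s.fr0 x (s.fr.line_le_ws s.rL hx)).symm

theorem eq_one {u : G} (i : Iv p f u) (hr : u * r * u⁻¹ = r ∨ u * r * u⁻¹ = p * r) : u = 1 := by
  have h2 : u * u * r = r * (u * u) := by
    rcases hr with e | e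
    · have h3 := comm_of_conj_eq e
      rw [mul_assoc, h3, ← mul_assoc, h3, mul_assoc]
    · apply comm_of_conj_eq
      calc u * u * r * (u * u)⁻¹ = u * (u * r * u⁻¹) * u⁻¹ := by group
        _ = u * p * (r * u⁻¹) := by rw [e]; group
        _ = p * (u * r * u⁻¹) := by rw [i.cb]; group
        _ = r := by rw [e, ← mul_assoc, s.pp, one_mul]
  have hfo := s.fo
  have h4 : u * u * f * (u * u)⁻¹ * f⁻¹ ∈ o2 (centralizer ({r} : Set G)) :=
    mul_mem (conj_mem_of_normalizer (le_normalizer_o2 _) (mem_centralizer_singleton_iff.mpr h2) hfo) (inv_mem hfo)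
  have hi := i.symm.inv
  rw [inv_inv] at hi
  have h5 : u * u * f * (u * u)⁻¹ * f⁻¹ = u ^ 4 := by
    calc u * u * f * (u * u)⁻¹ * f⁻¹ = u * u * (f * u⁻¹ * f⁻¹) * (f * u⁻¹ * f⁻¹) := by group
      _ = u ^ 4 := by rw [hi, pow_four']
  rw [h5] at h4
  obtain ⟨n, hn⟩ := isPGroup_o2 (centralizer ({r} : Set G)) ⟨u ^ 4, h4⟩
  have h6 : u ^ (4 * 2 ^ n) = 1 := by
    rw [pow_mul]
    exact congrArg Subtype.val hn
  have h7 : orderOf u ∣ 4 * 2 ^ n := orderOf_dvd_of_pow_eq_one h6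
  have h8 : Nat.Coprime (orderOf u) (4 * 2 ^ n) := by
    have : 4 * 2 ^ n = 2 ^ (n + 2) := by rw [pow_add]; ring
    rw [this]
    exact Nat.Coprime.pow_right _ (Nat.coprime_two_right.2 i.odd)
  exact orderOf_eq_one_iff.mp (Nat.eq_one_of_dvd_coprimes h8 dvd_rfl h7)

theorem pW : p ∈ ws V p := s.fr.mem_ws_self s.colpr.left

section iv

variable {u : G}

theorem up (i : Iv p f u) : u * p * u⁻¹ = p := by rw [i.cb, mul_inv_cancel_right]

theorem up' (i : Iv p f u) : u⁻¹ * p * u = p := by rw [mul_assoc, ← i.cb, inv_mul_cancel_left]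

/-- `x = u r u⁻¹ ~ p` -/
theorem px (i : Iv p f u) : Col V p (u * r * u⁻¹) := by
  have := s.colpr.conj u
  rwa [s.up i] at this

theorem px' (i : Iv p f u) : Col V p (u⁻¹ * r * u) := by
  have := s.colpr.conj u⁻¹
  rwa [inv_inv, s.up' i] at this

/-- `x^f = u⁻¹ r u` -/
theorem xf (i : Iv p f u) : f * (u * r * u⁻¹) * f⁻¹ = u⁻¹ * r * u := by
  have h1 := i.inv
  have h2 := i.symm.inv
  rw [inv_inv] at h2
  have h3 : f * r * f⁻¹ = r := by rw [s.fL s.rL, mul_inv_cancel_right]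
  calc f * (u * r * u⁻¹) * f⁻¹ = (f * u * f⁻¹) * (f * r * f⁻¹) * (f * u⁻¹ * f⁻¹) := by group
    _ = u⁻¹ * r * u := by rw [h1, h2, h3]

theorem x_ne_p (i : Iv p f u) : u * r * u⁻¹ ≠ p := by
  intro e
  apply s.rp
  calc r = u⁻¹ * (u * r * u⁻¹) * u := by group
    _ = p := by rw [e, s.up' i]

theorem x'_ne_p (i : Iv p f u) : u⁻¹ * r * u ≠ p := by
  intro e
  apply s.rp
  calc r = u * (u⁻¹ * r * u) * u⁻¹ := by group
    _ = p := by rw [e, s.up i]

theorem sq_ne (i : Iv p f u) (hu : u ≠ 1) : u * u ≠ 1 := by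
  intro e
  have h1 : orderOf u ∣ 2 := orderOf_dvd_of_pow_eq_one (by rw [pow_two]; exact e)
  rcases (Nat.dvd_prime Nat.prime_two).mp h1 with h2 | h2
  · exact hu (orderOf_eq_one_iff.mp h2)
  · have := i.odd
    rw [h2] at this
    exact absurd this (by decide)

/-- `x' ∉ {x, p x}` -/
theorem x'_ne_x (i : Iv p f u) (hu : u ≠ 1) : u⁻¹ * r * u ≠ u * r * u⁻¹ ∧ u⁻¹ * r * u ≠ p * (u * r * u⁻¹) := by
  have key : ∀ c, u * c = c * u → u⁻¹ * r * u = c * (u * r * u⁻¹) → (u * u) * r * (u * u)⁻¹ = c⁻¹ * r := by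
    intro c hc e
    calc (u * u) * r * (u * u)⁻¹ = u * (c⁻¹ * (c * (u * r * u⁻¹))) * u⁻¹ := by group
      _ = u * (c⁻¹ * (u⁻¹ * r * u)) * u⁻¹ := by rw [e]
      _ = (u * c⁻¹) * u⁻¹ * r := by group
      _ = c⁻¹ * r := by rw [(show Commute u c from hc).inv_right.eq, mul_inv_cancel_right]
  have hp : Iv p f (u * u) := by
    have := i.pow 2
    rwa [pow_two] at this
  have hpi : p⁻¹ = p := inv_eq_of_mul_eq_one_left s.pp
  refine ⟨fun e => s.sq_ne i hu (s.eq_one hp (Or.inl ?_)), fun e => s.sq_ne i hu (s.eq_one hp (Or.inr ?_))⟩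
  · have := key 1 (by rw [mul_one, one_mul]) (by rw [one_mul]; exact e)
    rwa [inv_one, one_mul] at this
  · have := key p i.cb e
    rwa [hpi] at this

/-- `x ∉ W_q` -/
theorem x_notMem (i : Iv p f u) (hu : u ≠ 1) : u * r * u⁻¹ ∉ ws V q := by
  intro h
  have h1 := s.fr.ws_comm s.qq f s.fW _ h
  apply (s.x'_ne_x i hu).1
  rw [← s.xf i, h1, mul_inv_cancel_right]

/-- a lift `a` on `L` at `r` gives `n_x n_{x'} ∈ W_p` -/
theorem five' (i : Iv p f u) (hu : u ≠ 1) {a : G} (ha : nv (cj g₀ V) r a) :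
    (u * a * u⁻¹) * (u⁻¹ * a * u) ∈ ws V p := by
  have h1 := s.conj u g₀ r a ha
  rw [cj_cj] at h1
  have h2 : p ∈ cj (u * g₀) V := by
    rw [← cj_cj]
    have := conj_mem_cj (g := u) s.pL
    rwa [s.up i] at this
  have h3 : u * r * u⁻¹ ∈ cj (u * g₀) V := by
    rw [← cj_cj]
    exact conj_mem_cj s.rL
  have h4 := s.five (u * g₀) _ _ h2 h3 (s.px i).symm.ne_one (s.x_ne_p i) (s.x_notMem i hu) h1
  have h5 : f * (u * a * u⁻¹) * f⁻¹ = u⁻¹ * a * u := by
    have e1 := i.inv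
    have e2 := i.symm.inv
    rw [inv_inv] at e2
    have e3 : f * a * f⁻¹ = a := by rw [s.one r a s.rL s.r1 ha, mul_inv_cancel_right]
    calc f * (u * a * u⁻¹) * f⁻¹ = (f * u * f⁻¹) * (f * a * f⁻¹) * (f * u⁻¹ * f⁻¹) := by group
      _ = u⁻¹ * a * u := by rw [e1, e2, e3]
  rwa [h5] at h4

theorem rW : r ∈ ws V p := s.fr.mem_ws_of_col s.colpr

theorem xW (i : Iv p f u) : u * r * u⁻¹ ∈ ws V p := s.fr.mem_ws_of_col (s.px i)

theorem x'W (i : Iv p f u) : u⁻¹ * r * u ∈ ws V p := s.fr.mem_ws_of_col (s.px' i)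

/-- `N_p` is normal in `C_G(p)` -/
theorem conj_nn {k w : G} (hk : k * p = p * k) (hw : w ∈ nn (ws V p) (kq V p)) :
    k * w * k⁻¹ ∈ nn (ws V p) (kq V p) := by
  have hkp : k * p * k⁻¹ = p := by rw [hk, mul_inv_cancel_right]
  rw [mem_nn] at hw ⊢
  refine ⟨?_, fun c hc => ?_⟩
  · have := conj_mem_ws k hw.1
    rwa [hkp] at this
  · have h1 : k⁻¹ * c * k ∈ kq V p := by
      have := conj_mem_kq k⁻¹ hc
      rw [inv_inv] at this
      have e : k⁻¹ * p * k = p := by rw [mul_assoc, ← hk, inv_mul_cancel_left]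
      rwa [e] at this
    have h2 := hw.2 _ h1
    calc c * (k * w * k⁻¹) = k * ((k⁻¹ * c * k) * w) * k⁻¹ := by group
      _ = k * (w * (k⁻¹ * c * k)) * k⁻¹ := by rw [h2]
      _ = k * w * k⁻¹ * c := by group

theorem comm {a b : G} (ha : a ∈ ws V p) (hb : b ∈ ws V p) : a * b = b * a :=
  s.fr.ws_comm s.colpr.left a ha b hb

theorem sq {a : G} (ha : a ∈ ws V p) : a * a = 1 := s.fr.ws_sq s.colpr.left a ha

/-- `K_p` moves the points collinear with `p` -/
theorem pt_notMem {y : G} (hy : Col V p y) (hyp : y ≠ p) : y ∉ nn (ws V p) (kq V p) := by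
  intro h
  obtain ⟨g, hp, hy', hp1, hy1⟩ := hy
  obtain ⟨k, hk, -, hm⟩ := s.fr.mover_cj hp hp1
  have h1 := hm y hy' hy1 hyp
  have h2 := (mem_nn.mp h).2 k hk
  rw [h2, mul_inv_cancel_right] at h1
  exact hp1 (by simpa using h1.symm)

/-- `n_r n_x ∈ W_p` (helper240) -/
theorem nrx (i : Iv p f u) (hu : u ≠ 1) {a : G} (ha : nv (cj g₀ V) r a) : a * (u * a * u⁻¹) ∈ ws V p := by
  have h1 := s.five' i hu ha
  have haa : a * a = 1 := s.fr.ws_sq s.colpr.right a (mem_nn.mp (s.mem g₀ r a ha)).1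
  have hup : ∀ k : ℕ, u ^ k * p * (u ^ k)⁻¹ = p := fun k => s.up (i.pow k)
  -- `W_p n_{2k} = W_p n_0`
  have key : ∀ k : ℕ, (u ^ (2 * k) * a * (u ^ (2 * k))⁻¹) * a ∈ ws V p := by
    intro k
    induction k with
    | zero => simp [haa]
    | succ k ih =>
      have h2 := conj_mem_ws (u ^ (2 * k + 1)) h1
      rw [hup] at h2
      have e1 : u ^ (2 * k + 1) * ((u * a * u⁻¹) * (u⁻¹ * a * u)) * (u ^ (2 * k + 1))⁻¹ =
          (u ^ (2 * (k + 1)) * a * (u ^ (2 * (k + 1)))⁻¹) * (u ^ (2 * k) * a * (u ^ (2 * k))⁻¹) := by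
        have e2 : u ^ (2 * (k + 1)) = u ^ (2 * k) * u * u := by
          rw [show 2 * (k + 1) = 2 * k + 1 + 1 by ring, pow_succ, pow_succ]
        rw [e2, pow_succ]
        group
      rw [e1] at h2
      have h3 := mul_mem h2 ih
      have e3 : (u ^ (2 * (k + 1)) * a * (u ^ (2 * (k + 1)))⁻¹) * (u ^ (2 * k) * a * (u ^ (2 * k))⁻¹) *
          ((u ^ (2 * k) * a * (u ^ (2 * k))⁻¹) * a) = (u ^ (2 * (k + 1)) * a * (u ^ (2 * (k + 1)))⁻¹) * a := by
        calc (u ^ (2 * (k + 1)) * a * (u ^ (2 * (k + 1)))⁻¹) * (u ^ (2 * k) * a * (u ^ (2 * k))⁻¹) *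
            ((u ^ (2 * k) * a * (u ^ (2 * k))⁻¹) * a)
            = (u ^ (2 * (k + 1)) * a * (u ^ (2 * (k + 1)))⁻¹) * (u ^ (2 * k) * (a * a) * (u ^ (2 * k))⁻¹) * a := by
              group
          _ = (u ^ (2 * (k + 1)) * a * (u ^ (2 * (k + 1)))⁻¹) * a := by rw [haa]; group
      rwa [e3] at h3
  obtain ⟨k, hk⟩ := i.odd
  have h2 := key (k + 1)
  rw [show 2 * (k + 1) = orderOf u + 1 by omega, pow_succ, pow_orderOf_eq_one, one_mul] at h2
  -- `n_x n_r ∈ W_p`, invert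
  have h3 := inv_mem h2
  have hai : a⁻¹ = a := inv_eq_of_mul_eq_one_left haa
  have e : (u * a * u⁻¹ * a)⁻¹ = a * (u * a * u⁻¹) := by
    calc (u * a * u⁻¹ * a)⁻¹ = a⁻¹ * (u * a⁻¹ * u⁻¹) := by group
      _ = a * (u * a * u⁻¹) := by rw [hai]
  rwa [e] at h3

/-- `x ∉ r N_p` -/
theorem xr_notMem (i : Iv p f u) (hu : u ≠ 1) : (u * r * u⁻¹) * r ∉ nn (ws V p) (kq V p) := by
  intro h
  obtain ⟨a, ha⟩ := s.ex g₀ r s.rL s.r1
  have h1 := s.conj u g₀ r a ha
  rw [cj_cj] at h1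
  have h2 : p ∈ cj (u * g₀) V := by
    rw [← cj_cj]
    have := conj_mem_cj (g := u) s.pL
    rwa [s.up i] at this
  have h3 : u * r * u⁻¹ ∈ cj (u * g₀) V := by
    rw [← cj_cj]
    exact conj_mem_cj s.rL
  have hne : u * r * u⁻¹ ≠ r := fun e => hu (s.eq_one i (Or.inl e))
  have hne' : u * r * u⁻¹ ≠ p * r := fun e => hu (s.eq_one i (Or.inr e))
  have hc : (u * r * u⁻¹) * r = r * (u * r * u⁻¹) := s.comm (s.xW i) s.rW
  rw [hc] at h
  exact s.six _ _ _ _ _ _ s.pL s.rL s.r1 s.rp h2 h3 (s.px i).symm.ne_one (s.x_ne_p i) h hne hne' ha h1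
    (s.nrx i hu ha)

end iv

/-- (7) -/
theorem false : False := by
  -- a mover
  have hfp : f * p = p * f := s.fL s.pL
  obtain ⟨u, i, hu⟩ := exists_iv s.fr s.colpr.left hfp s.ff s.fk
  obtain ⟨a, ha⟩ := s.ex g₀ r s.rL s.r1
  have hrW := s.rW
  have hxW := s.xW i
  have hup := s.up i
  set x := u * r * u⁻¹ with hxd
  have hnv := s.conj u g₀ r a ha
  rw [← hxd] at hnv
  set b := u * a * u⁻¹ with hbd
  have hab : a * b ∈ ws V p := s.nrx i hu ha
  -- `k ∈ K_p` fixes `x` and moves `r`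
  have hrn : r ∉ zpowers x ⊔ nn (ws V p) (kq V p) := by
    intro hr
    have hxz : zpowers x ≤ ws V p := by rw [zpowers_le]; exact hxW
    obtain ⟨w, hw, c, hc, hrc⟩ := mem_sup_of_comm (W := ws V p) (s.fr.ws_comm s.colpr.left) hxz
      (fun w hw => (mem_nn.mp hw).1) hr
    rcases (mem_zpowers_iff_of_mul_self (s.sq hxW)).mp hw with e | e
    · rw [e, one_mul] at hrc
      exact s.pt_notMem s.colpr s.rp (hrc ▸ hc)
    · have h6 := s.xr_notMem i hu
      have h5 : x * r = c := by rw [hrc, e, ← mul_assoc, s.sq hxW, one_mul]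
      rw [← hxd, h5] at h6
      exact h6 hc
  have hxz : zpowers x ≤ ws V p := by rw [zpowers_le]; exact hxW
  obtain ⟨k, hk, hkx, hkr⟩ := (s.fr.dw s.colpr.left).exists_mover hxz hrW hrn
  have hkx' : k * x = x * k := hkx x (mem_zpowers x)
  have hkp : k * p * k⁻¹ = p := by
    have := (s.fr.dw s.colpr.left).cent k hk
    rw [this, mul_inv_cancel_right]
  -- `k` normalises the lines through `p`
  have hkL : ∀ g, p ∈ cj g V → cj k (cj g V) = cj g V := by
    intro g hp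
    obtain ⟨g', -, -, hf⟩ := s.fr.flag hp s.p1
    apply cj_eq_of_mem_normalizer
    exact hf.kq_le_normalizer hp s.p1 (by rw [kq_cj]; exact hk)
  -- `k b k⁻¹ ∈ b⟨x⟩`
  have hpL1 : p ∈ cj u (cj g₀ V) := by
    have := conj_mem_cj (g := u) s.pL
    rwa [hup] at this
  have hkb : k * b * k⁻¹ = b ∨ k * b * k⁻¹ = x * b := by
    rw [cj_cj] at hnv hpL1
    have h1 := s.conj k _ _ _ hnv
    rw [hkL _ hpL1] at h1
    have e : k * x * k⁻¹ = x := by rw [hkx', mul_inv_cancel_right]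
    rw [e] at h1
    exact s.uniq _ _ _ _ hnv h1
  -- `k a k⁻¹` is a lift at `p r`
  have hka := s.conj k g₀ r a ha
  rw [hkL g₀ s.pL, hkr] at hka
  have hprL : p * r ∈ cj g₀ V := mul_mem s.pL s.rL
  have hpr1 : p * r ≠ 1 := by
    intro e
    apply s.rp
    calc r = p * p * r := by rw [s.pp, one_mul]
      _ = p * (p * r) := by group
      _ = p := by rw [e, mul_one]
  have hfa : f * a = a * f := s.one r a s.rL s.r1 ha
  have hfka : f * (k * a * k⁻¹) = (k * a * k⁻¹) * f := s.one _ _ hprL hpr1 hka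
  -- `a`
  have han := s.mem g₀ r a ha
  have haW : a ∈ ws V r := (mem_nn.mp han).1
  have haW' : k * a * k⁻¹ ∈ ws V (p * r) := (mem_nn.mp (s.mem g₀ _ _ hka)).1
  have hpr : p ∈ ws V r := s.fr.line_le_ws s.rL s.pL
  have hppr : p ∈ ws V (p * r) := s.fr.line_le_ws hprL s.pL
  have hpa : p * a = a * p := s.fr.ws_comm s.colpr.right p hpr a haW
  -- `k a k⁻¹ ∉ a⟨p⟩`
  have hnp : ¬ a ∈ ws V (p * r) := by
    intro h
    have hne : p * r ≠ r := fun e => s.p1 (by simpa using e)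
    have hii := s.fr.mem_ii_cj s.rL s.r1 hprL hpr1 hne haW h
    by_cases haL : a ∈ cj g₀ V
    · -- `a ∈ {1, r}`
      obtain ⟨m, hm, -, hmv⟩ := s.fr.mover_cj s.rL s.r1
      by_cases har : a = r
      · exact s.ne g₀ r a ha (by rw [har]; exact mem_zpowers r)
      by_cases ha1 : a = 1
      · exact s.ne g₀ r a ha (by rw [ha1]; exact one_mem _)
      have h2 := hmv a haL ha1 har
      have h3 := (mem_nn.mp han).2 m hm
      rw [h3, mul_inv_cancel_right] at h2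
      exact s.r1 (by simpa using h2.symm)
    · obtain ⟨m, hm, -, hma⟩ := s.fr.fu_cj hii haL s.rL s.r1
      have h3 := (mem_nn.mp han).2 m hm
      rw [h3, mul_inv_cancel_right] at hma
      exact s.r1 (by simpa using hma.symm)
  -- the equation
  have hkab := (s.fr.dw s.colpr.left).act k hk _ hab
  have e0 : k * (a * b) * k⁻¹ = (k * a * k⁻¹) * (k * b * k⁻¹) := by group
  rw [e0] at hkab
  have hpi : p⁻¹ = p := inv_eq_of_mul_eq_one_left s.pp
  rcases hkb with e1 | e1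
  · -- `k b k⁻¹ = b` : `k a k⁻¹ ∈ a⟨p⟩`
    rw [e1] at hkab
    apply hnp
    rcases hkab with e2 | e2
    · have : k * a * k⁻¹ = a := mul_right_cancel e2
      rwa [this] at haW'
    · have h4 : k * a * k⁻¹ = p * a := by
        have e3 : k * a * k⁻¹ * b = p * a * b := by rw [e2, mul_assoc]
        exact mul_right_cancel e3
      rw [h4] at haW'
      have := mul_mem (inv_mem hppr) haW'
      rwa [inv_mul_cancel_left] at this
  · -- `k b k⁻¹ = x b` : `f` centralises `x`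
    rw [e1] at hkab
    have hfx : f * x = x * f := by
      rcases hkab with e2 | e2
      · have h4 : (k * a * k⁻¹) * x = a := by
          have e3 : k * a * k⁻¹ * x * b = a * b := by rw [← e2, mul_assoc]
          exact mul_right_cancel e3
        have h5 : x = (k * a * k⁻¹)⁻¹ * a := eq_inv_mul_of_mul_eq h4
        rw [h5]
        have c1 : Commute f (k * a * k⁻¹) := hfka
        have c2 : Commute f a := hfa
        exact (c1.inv_right.mul_right c2).eq
      · have h4 : (k * a * k⁻¹) * x = p * a := by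
          have e3 : k * a * k⁻¹ * x * b = p * a * b := by rw [mul_assoc, e2, mul_assoc]
          exact mul_right_cancel e3
        have h5 : x = (k * a * k⁻¹)⁻¹ * (p * a) := eq_inv_mul_of_mul_eq h4
        rw [h5]
        have c1 : Commute f (k * a * k⁻¹) := hfka
        have c2 : Commute f a := hfa
        have c3 : Commute f p := hfp
        exact (c1.inv_right.mul_right (c3.mul_right c2)).eq
    apply (s.x'_ne_x i hu).1
    rw [← s.xf i, ← hxd, hfx, mul_inv_cancel_right]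

end EndD

end Cfsg.Agent.Omega.NO3S.WZero

end
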