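import Cfsg.Agent.Mrg.Omega.NO3S.TwoMid.NOm
import Cfsg.Agent.Mrg.Omega.NO3S.TypeN.Joined
import Cfsg.Agent.Mrg.Omega.NO3S.TwoMid.Opp
import Cfsg.Agent.Mrg.Omega.NO3S.TypeN.ATwo
import Mathlib
import Cfsg.Agent.Mrg.Omega.NO3S.TwoMid.Beta.NO
import Cfsg.Agent.Mrg.Omega.NO3S.TwoMid.NomML
import Cfsg.Agent.Mrg.Omega.NO3S.TwoMid.Inn.Grp
import Cfsg.Agent.Mrg.Omega.NO3S.TwoOne.Main
import Cfsg.Agent.Mrg.Omega.NOThree.TF.ULam
import Cfsg.Agent.Mrg.Omega.NO3S.Dual.Basic

-- merged: Cfsg.Agent.Mrg.Omega.NO3S.TwoMid.TQPlug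
section

section


/-!
# NO-3S, `|V| = 4`, critical distance 2 (TwoMid): THEOREMS TQ, TQ' at the group level

`M_b = W_b / ⟨b⟩`, `H_b = C_G(b) / K_b`, `Q_y = U_y K_b`.

* `Md b y u w` : `[u, w] ∈ ⟨b⟩ ∪ y ⟨b⟩`; `Tvg V b y t` : `t` acts on `M_b` as a transvection with centre `y` (not trivially);
* `md_of` : if `t ∈ U_y` is a transvection with centre `y` and either all `U_y` are quadratic on `M_b`, or there is a
  second transvection, then `[W_b, U_y] ≤ ⟨b, y⟩` for all `y ~ b`;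
* `tyN_of_md`, **`tyN_of_tv`** (quadratic case), **`tyN_of_two`** (two transvections) : TYPE N.
-/

set_option autoImplicit false
set_option linter.unusedSectionVars false

namespace Cfsg.Agent.Omega.NO3S.TwoMid

open Subgroup Cfsg Cfsg.Agent.ZN Cfsg.Agent.MinSimple.Geo Cfsg.Agent.Omega.CaseL Cfsg.Agent.Omega.NO3S.TwoOne
  Cfsg.Agent.Omega.NO3S.Pt
open Cfsg.Agent.Omega.NO3S.Dual (nn mem_nn DW mem_sup_of_comm)
open Cfsg.Agent.Omega.NO3S.TypeN (exists_conj_flag le_kq_pt)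
open Cfsg.Agent.ZN.Block (conj_mem_of_normalizer conj_mem_of_normalizer' le_normalizer_of_forall
  mem_normalizer_of)

universe u

variable {G : Type u} [Group G] {T V : Subgroup G} {z : G} {a b r x y : G}

/-- `C` acts on `W / Y` by conjugation -/
abbrev conjAct {C W Y : Subgroup G} (hW : C ≤ normalizer (W : Set G)) (hY : C ≤ normalizer (Y : Set G))
    [(Y.subgroupOf W).Normal] : MulDistribMulAction C (W ⧸ Y.subgroupOf W) :=
  let f : C → (W →* W) := fun g =>
    { toFun := fun x => ⟨(g : G) * x * (g : G)⁻¹, (mem_normalizer_iff.1 (hW g.2) x).1 x.2⟩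
      map_one' := Subtype.ext (by simp)
      map_mul' := fun x y => Subtype.ext (by
        change (g : G) * ((x : G) * y) * (g : G)⁻¹ = (g : G) * x * (g : G)⁻¹ * ((g : G) * y * (g : G)⁻¹)
        group) }
  { smul := fun g => QuotientGroup.map (Y.subgroupOf W) (Y.subgroupOf W) (f g) fun x hx =>
      (mem_normalizer_iff.1 (hY g.2) x).1 hx
    one_smul := by
      rintro ⟨x⟩
      refine congrArg (QuotientGroup.mk (s := Y.subgroupOf W)) (Subtype.ext ?_)
      change (1 : G) * (x : G) * (1 : G)⁻¹ = x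
      group
    mul_smul := by
      rintro g k ⟨x⟩
      refine congrArg (QuotientGroup.mk (s := Y.subgroupOf W)) (Subtype.ext ?_)
      change ((g : G) * k) * (x : G) * ((g : G) * k)⁻¹ = (g : G) * ((k : G) * x * (k : G)⁻¹) * (g : G)⁻¹
      group
    smul_mul := fun g x y => map_mul (QuotientGroup.map _ _ (f g) _) x y
    smul_one := fun g => map_one (QuotientGroup.map _ _ (f g) _) }

/-- `[u, w] ∈ ⟨b⟩ ∪ y ⟨b⟩` -/
def Md (b y u w : G) : Prop := u * w * u⁻¹ * w⁻¹ ∈ zpowers b ∨ u * w * u⁻¹ * w⁻¹ * y⁻¹ ∈ zpowers b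

/-- `t` acts on `M_b` as a transvection with centre `y` -/
structure Tvg (V : Subgroup G) (b y t : G) : Prop where
  md : ∀ w ∈ ws V b, Md b y t w
  ne : ∃ w ∈ ws V b, t * w * t⁻¹ * w⁻¹ ∉ zpowers b

/-- all `U_y` are quadratic on `M_b` -/
def QuadB (V : Subgroup G) (b : G) : Prop :=
  ∀ y, Col V b y → y ≠ b → ∀ u ∈ uu V y, ∀ u' ∈ uu V y, ∀ w ∈ ws V b,
    u' * (u * w * u⁻¹ * w⁻¹) * u'⁻¹ * (u * w * u⁻¹ * w⁻¹)⁻¹ ∈ zpowers b

section

variable [Finite G]

theorem md_of (h : Two T V z) {y₀ t : G} (hy₀ : Col V b y₀) (hne₀ : y₀ ≠ b) (ht : t ∈ uu V y₀)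
    (htv : Tvg V b y₀ t) (hcase : QuadB V b ∨ ∃ t' ∈ uu V y₀, Tvg V b y₀ t' ∧
      ∃ w ∈ ws V b, (t * w * t⁻¹) * (t' * w * t'⁻¹)⁻¹ ∉ zpowers b) :
    ∀ y, Col V b y → y ≠ b → ∀ u ∈ uu V y, ∀ w ∈ ws V b, Md b y u w := by
  have hb : Col V b b := hy₀.left
  set W := ws V b with hW
  set Y := zpowers b with hY
  set C := centralizer ({b} : Set G) with hC
  have hWC : W ≤ C := h.fr.ws_le_cent hb
  have hbW : b ∈ W := h.fr.mem_ws_self hb
  have hbb : b * b = 1 := h.fr.pt_sq hb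
  have nW : C ≤ normalizer (W : Set G) := centralizer_le_normalizer_ws V b
  have nY : C ≤ normalizer (Y : Set G) := zpowers_norm le_rfl
  have hN : (Y.subgroupOf W).Normal := normal_subgroupOf_of_le_normalizer (hWC.trans nY)
  let _ := conjAct nW nY
  let mk : W →* (W ⧸ Y.subgroupOf W) := QuotientGroup.mk' (Y.subgroupOf W)
  have hmk : Function.Surjective mk := QuotientGroup.mk'_surjective _
  have hmem : ∀ (g : C) (x : W), (g : G) * x * (g : G)⁻¹ ∈ W := fun g x =>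
    (mem_normalizer_iff.1 (nW g.2) x).1 x.2
  have hsm : ∀ (g : C) (x : W), g • mk x = mk ⟨(g : G) * x * (g : G)⁻¹, hmem g x⟩ := fun _ _ => rfl
  have hone : ∀ x y : W, mk x = mk y ↔ (x : G) * (y : G)⁻¹ ∈ Y := by
    intro x y
    rw [← mul_inv_eq_one, ← map_inv, ← map_mul, ← MonoidHom.mem_ker, QuotientGroup.ker_mk']
    exact Iff.rfl
  have hone' : ∀ x : W, mk x = 1 ↔ (x : G) ∈ Y := by
    intro x
    rw [← MonoidHom.mem_ker, QuotientGroup.ker_mk']
    exact Iff.rfl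
  have hfix : ∀ (g : C) (x : W), g • mk x = mk x ↔ (g : G) * x * (g : G)⁻¹ * (x : G)⁻¹ ∈ Y := by
    intro g x
    rw [hsm g x, hone]
  have hcommW := h.fr.ws_comm hb
  have hsqW := h.fr.ws_sq hb
  -- points
  let Om : Set (W ⧸ Y.subgroupOf W) := {m | ∃ y, ∃ hy : Col V b y, y ≠ b ∧ m = mk ⟨y, h.fr.mem_ws_of_col hy⟩}
  let X : G → Subgroup C := fun y => (uu V y ⊔ kq V b).subgroupOf C
  let Q : (W ⧸ Y.subgroupOf W) → Subgroup C := fun m =>
    ⨆ y : {y : G // ∃ hy : Col V b y, y ≠ b ∧ m = mk ⟨y, h.fr.mem_ws_of_col hy⟩}, X y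
  have hkC : kq V b ≤ C := kq_le_centralizer V b
  have hUC : ∀ y, Col V b y → uu V y ≤ C := fun y hy => uu_le_centralizer h hy.symm
  have hX : ∀ y, Col V b y → y ≠ b → ∀ y', Col V b y' → y' ≠ b → y * y'⁻¹ ∈ Y → X y' ≤ X y := by
    intro y hy hyb y' hy' hyb' hyy
    have hyi : y'⁻¹ = y' := inv_eq_self (h.fr.pt_sq hy'.right)
    rcases (mem_zpowers_iff_of_mul_self hbb).mp hyy with e | e
    · rw [mul_inv_eq_one.mp e]
    · -- `y' = b y`
      have e1 : y' = b * y := by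
        have e2 : y = b * y' := by rw [← e, inv_mul_cancel_right]
        rw [e2, ← mul_assoc, hbb, one_mul]
      obtain ⟨g, h1, h2, h3, h4⟩ := id hy
      obtain ⟨m, hm, -, hmm⟩ := h.fr.mover_cj h1 h3
      have hmy : m * y * m⁻¹ = y' := by rw [e1]; exact hmm y h2 h4 hyb
      have h5 : uu V y' ≤ uu V y ⊔ kq V b := by
        rw [← hmy, ← cj_uu]
        rw [cj_le_iff]
        intro u hu
        rw [mem_cj]
        have e3 : m⁻¹⁻¹ * u * m⁻¹ = u * (u⁻¹ * m * u) * m⁻¹ := by group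
        rw [e3]
        refine mul_mem (mul_mem (mem_sup_left hu) (mem_sup_right ?_)) (mem_sup_right (inv_mem hm))
        exact conj_mem_of_normalizer' (centralizer_le_normalizer_kq V b) (hUC y hy hu) hm
      intro u hu
      exact (sup_le h5 le_sup_right) hu
  have hQ : ∀ y (hy : Col V b y), y ≠ b → Q (mk ⟨y, h.fr.mem_ws_of_col hy⟩) = X y := by
    intro y hy hyb
    refine le_antisymm (iSup_le ?_) ?_
    · rintro ⟨y', hy', hyb', e⟩
      exact hX y hy hyb y' hy' hyb' ((hone _ _).mp e)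
    · exact le_iSup (fun y : {y' : G // ∃ hy' : Col V b y', y' ≠ b ∧ mk ⟨y, h.fr.mem_ws_of_col hy⟩ =
        mk ⟨y', h.fr.mem_ws_of_col hy'⟩} => X y) ⟨y, hy, hyb, rfl⟩
  have hOm : ∀ y (hy : Col V b y), y ≠ b → mk ⟨y, h.fr.mem_ws_of_col hy⟩ ∈ Om := fun y hy hyb => ⟨y, hy, hyb, rfl⟩
  -- conjugates of points
  have hcol : ∀ (g : C) (y : G), Col V b y → Col V b ((g : G) * y * (g : G)⁻¹) := by
    intro g y hy
    have h1 := hy.conj (g : G)
    have h2 : (g : G) * b * (g : G)⁻¹ = b := by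
      rw [mem_centralizer_singleton_iff.mp g.2, mul_inv_cancel_right]
    rwa [h2] at h1
  have hneb : ∀ (g : C) (y : G), y ≠ b → (g : G) * y * (g : G)⁻¹ ≠ b := by
    intro g y hy e
    apply hy
    calc y = (g : G)⁻¹ * ((g : G) * y * (g : G)⁻¹) * g := by group
      _ = (g : G)⁻¹ * (b * g) := by rw [e]; group
      _ = b := by rw [← mem_centralizer_singleton_iff.mp g.2, inv_mul_cancel_left]
  -- elements of `K_b` act trivially
  have hkact : ∀ g : C, (g : G) ∈ kq V b → ∀ m : W ⧸ Y.subgroupOf W, g • m = m := by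
    intro g hg m
    obtain ⟨x, rfl⟩ := hmk m
    exact (hfix g x).mpr (kq_comm hg x.2)
  have hkact' : ∀ g : C, (∀ m : W ⧸ Y.subgroupOf W, g • m = m) → (g : G) ∈ kq V b := by
    intro g hg
    refine ⟨g.2, fun w hw => (hfix g ⟨w, hw⟩).mp (hg _), fun w hw => ?_⟩
    have h1 : g⁻¹ • mk ⟨w, hw⟩ = mk ⟨w, hw⟩ := by rw [inv_smul_eq_iff, hg]
    have h2 := (hfix g⁻¹ ⟨w, hw⟩).mp h1
    have e : ((g⁻¹ : C) : G) * w * ((g⁻¹ : C) : G)⁻¹ * w⁻¹ = (g : G)⁻¹ * w * g * w⁻¹ := by
      rw [InvMemClass.coe_inv, inv_inv]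
    rw [← e]
    exact h2
  -- `C / K_b`
  have hKn : ((kq V b).subgroupOf C).Normal :=
    normal_subgroupOf_of_le_normalizer (centralizer_le_normalizer_kq V b)
  let π : C →* C ⧸ (kq V b).subgroupOf C := QuotientGroup.mk' ((kq V b).subgroupOf C)
  have hπ : ∀ y, Col V b y → ∀ g ∈ X y, ∃ v : C, (v : G) ∈ uu V y ∧ π v = π g := by
    intro y hy g hg
    have h1 : (uu V y ⊔ kq V b) ≤ ((((uu V y).subgroupOf C).map π).comap π).map C.subtype := by
      refine sup_le (fun v hv => ⟨⟨v, hUC y hy hv⟩, mem_comap.mpr ⟨_, hv, rfl⟩, rfl⟩) fun k hk => ?_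
      refine ⟨⟨k, hkC hk⟩, mem_comap.mpr ⟨1, one_mem _, ?_⟩, rfl⟩
      rw [map_one]
      exact ((QuotientGroup.eq_one_iff (N := (kq V b).subgroupOf C) (⟨k, hkC hk⟩ : C)).mpr hk).symm
    obtain ⟨u', hu', e⟩ := h1 (show (g : G) ∈ uu V y ⊔ kq V b from hg)
    have e' : u' = g := Subtype.ext e
    subst e'
    obtain ⟨v, hv, hve⟩ := mem_comap.mp hu'
    exact ⟨v, hv, hve⟩
  have hπact : ∀ g g' : C, π g = π g' → ∀ m : W ⧸ Y.subgroupOf W, g • m = g' • m := by
    intro g g' e m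
    have h1 : π (g'⁻¹ * g) = 1 := by rw [map_mul, map_inv, e, inv_mul_cancel]
    have h2 := hkact _ ((QuotientGroup.eq_one_iff (N := (kq V b).subgroupOf C) _).mp h1) m
    rw [mul_smul, inv_smul_eq_iff] at h2
    exact h2
  have htvM : ∀ t (ht : t ∈ uu V y₀), (∀ w ∈ ws V b, Md b y₀ t w) →
      TQ.Tv (mk ⟨y₀, h.fr.mem_ws_of_col hy₀⟩) (⟨t, hUC y₀ hy₀ ht⟩ : C) := by
    intro t ht hmd m
    obtain ⟨x, rfl⟩ := hmk m
    rcases hmd x x.2 with e | e
    · exact Or.inl ((hfix ⟨t, hUC y₀ hy₀ ht⟩ x).mpr e)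
    · right
      rw [hsm, ← map_mul, hone]
      change t * x * t⁻¹ * (y₀ * (x : G))⁻¹ ∈ Y
      have e2 : t * x * t⁻¹ * (x : G)⁻¹ * y₀⁻¹ = t * x * t⁻¹ * (y₀ * (x : G))⁻¹ := by group
      rw [← e2]
      exact e
  have D : TQ.Dat Om Q :=
    { comm := by
        intro m m'
        obtain ⟨x, rfl⟩ := hmk m
        obtain ⟨x', rfl⟩ := hmk m'
        rw [← map_mul, ← map_mul]
        congr 1
        exact Subtype.ext (hcommW x x.2 x' x'.2)
      sq := by
        intro m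
        obtain ⟨x, rfl⟩ := hmk m
        rw [← map_mul, hone']
        change (x : G) * x ∈ Y
        rw [hsqW x x.2]
        exact one_mem _
      ne := by
        rintro w ⟨y, hy, hyb, rfl⟩ e
        rw [hone'] at e
        rcases (mem_zpowers_iff_of_mul_self hbb).mp e with e1 | e1
        · exact hy.right.ne_one e1
        · exact hyb e1
      smul := by
        rintro g w ⟨y, hy, hyb, rfl⟩
        exact ⟨(g : G) * y * (g : G)⁻¹, hcol g y hy, hneb g y hyb, rfl⟩
      trans := by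
        rintro w ⟨y, hy, hyb, rfl⟩ w' ⟨y', hy', hyb', rfl⟩
        obtain ⟨g, h1, h2⟩ := exists_conj_flag h.fr hy hyb hy' hyb'
        have hg : g ∈ C := by
          rw [hC, mem_centralizer_singleton_iff]
          calc g * b = (g * b * g⁻¹) * g := by group
            _ = b * g := by rw [h1]
        refine ⟨⟨g, hg⟩, ?_⟩
        rw [hsm]
        congr 1
        exact Subtype.ext h2
      span := by
        rw [eq_top_iff]
        intro m _
        have key : W ≤ ((closure Om).comap mk).map W.subtype := by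
          refine ws_le fun L hL v hv => ?_
          have hvW : v ∈ W := le_ws hL hv
          refine ⟨⟨v, hvW⟩, ?_, rfl⟩
          rw [SetLike.mem_coe, mem_comap]
          by_cases hv1 : v = 1
          · have : mk ⟨v, hvW⟩ = 1 := by
              rw [hone']
              change v ∈ Y
              rw [hv1]; exact one_mem _
            rw [this]; exact one_mem _
          by_cases hvb : v = b
          · have : mk ⟨v, hvW⟩ = 1 := by
              rw [hone']
              change v ∈ Y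
              rw [hvb]; exact mem_zpowers b
            rw [this]; exact one_mem _
          · obtain ⟨⟨g, rfl⟩, hbL⟩ := hL
            exact subset_closure ⟨v, ⟨g, hbL, hv, hb.ne_one, hv1⟩, hvb, rfl⟩
        obtain ⟨x, rfl⟩ := hmk m
        obtain ⟨x', hx', e⟩ := key x.2
        have : x' = x := Subtype.ext e
        rw [← this]
        exact hx'
      conj := by
        rintro g w ⟨y, hy, hyb, rfl⟩ u hu
        rw [hQ y hy hyb] at hu
        have e : g • mk ⟨y, h.fr.mem_ws_of_col hy⟩ =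
          mk ⟨(g : G) * y * (g : G)⁻¹, h.fr.mem_ws_of_col (hcol g y hy)⟩ := rfl
        rw [e, hQ _ (hcol g y hy) (hneb g y hyb)]
        have h1 := conj_mem_cj (g := (g : G)) (show (u : G) ∈ uu V y ⊔ kq V b from hu)
        have h2 : cj (g : G) (uu V y ⊔ kq V b) = uu V ((g : G) * y * (g : G)⁻¹) ⊔ kq V b := by
          rw [show cj (g : G) (uu V y ⊔ kq V b) = cj (g : G) (uu V y) ⊔ cj (g : G) (kq V b) from
            Subgroup.map_sup _ _ _, cj_uu, cj_kq, mem_centralizer_singleton_iff.mp g.2, mul_inv_cancel_right]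
        rw [h2] at h1
        exact h1
      fix := by
        rintro w ⟨y, hy, hyb, rfl⟩ u hu
        rw [hQ y hy hyb] at hu
        have h1 : uu V y ⊔ kq V b ≤
            (MulAction.stabilizer C (mk ⟨y, h.fr.mem_ws_of_col hy⟩)).map C.subtype := by
          refine sup_le (fun u hu => ⟨⟨u, hUC y hy hu⟩, ?_, rfl⟩) fun k hk => ⟨⟨k, hkC hk⟩, hkact _ hk _, rfl⟩
          refine (hfix ⟨u, hUC y hy hu⟩ ⟨y, h.fr.mem_ws_of_col hy⟩).mpr ?_
          change u * y * u⁻¹ * y⁻¹ ∈ Y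
          have h2 := mem_centralizer_iff.mp (h.uu_le_cent y hu) y (h.fr.mem_ws_self hy.right)
          rw [← h2, mul_inv_cancel_right, mul_inv_cancel]
          exact one_mem _
        obtain ⟨u', hu', e⟩ := h1 (show (u : G) ∈ uu V y ⊔ kq V b from hu)
        have : u' = u := Subtype.ext e
        rw [← this]
        exact hu'
      two := by
        rintro w ⟨y, hy, hyb, rfl⟩ u hu
        rw [hQ y hy hyb] at hu
        obtain ⟨v, hv, hve⟩ := hπ y hy u hu
        obtain ⟨k, hk⟩ := h.isPGroup_uu y ⟨(v : G), hv⟩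
        refine ⟨k, hkact _ ?_⟩
        have h2 : v ^ 2 ^ k = 1 := by
          have := congrArg Subtype.val hk
          rw [SubmonoidClass.coe_pow, OneMemClass.coe_one] at this
          apply Subtype.ext
          rw [SubmonoidClass.coe_pow]
          exact this
        have h3 : π (u ^ 2 ^ k) = 1 := by rw [map_pow, ← hve, ← map_pow, h2, map_one]
        exact (QuotientGroup.eq_one_iff (N := (kq V b).subgroupOf C) _).mp h3
      o2 := by
        intro N hN hN2 n hn m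
        refine hkact n ?_ m
        have h1 : N.map C.subtype ≤ kq V b := by
          refine le_kq_pt h.fr hb ?_ ?_ ?_
          · rintro _ ⟨n, -, rfl⟩
            exact n.2
          · refine le_normalizer_of_forall ?_
            rintro g hg _ ⟨n, hn, rfl⟩
            exact ⟨⟨g, hg⟩ * n * ⟨g, hg⟩⁻¹, hN _ n hn, rfl⟩
          · rintro _ ⟨n, hn, rfl⟩
            refine ⟨1, ?_⟩
            have h2 := hkact' (n * n) fun m => by rw [mul_smul]; exact hN2 n hn m
            rw [pow_one, pow_two]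
            exact h2
        exact h1 ⟨n, hn, rfl⟩
      tv := by
        refine ⟨_, hOm y₀ hy₀ hne₀, ⟨t, hUC y₀ hy₀ ht⟩, ?_, htvM t ht htv.md, ?_⟩
        · rw [hQ y₀ hy₀ hne₀]
          exact mem_sup_left (T := kq V b) ht
        · obtain ⟨w, hw, hn⟩ := htv.ne
          exact ⟨mk ⟨w, hw⟩, fun e => hn ((hfix ⟨t, hUC y₀ hy₀ ht⟩ ⟨w, hw⟩).mp e)⟩ }
  have hfin : ∀ y (hy : Col V b y), y ≠ b → (∀ g ∈ Q (mk ⟨y, h.fr.mem_ws_of_col hy⟩),
      TQ.Tv (mk ⟨y, h.fr.mem_ws_of_col hy⟩) g) → ∀ u ∈ uu V y, ∀ w ∈ ws V b, Md b y u w := by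
    intro y hy hyb hT u hu w hw
    have h1 := hT ⟨u, hUC y hy hu⟩ (by rw [hQ y hy hyb]; exact mem_sup_left (T := kq V b) hu) (mk ⟨w, hw⟩)
    rcases h1 with e | e
    · exact Or.inl ((hfix ⟨u, hUC y hy hu⟩ ⟨w, hw⟩).mp e)
    · right
      rw [hsm, ← map_mul, hone] at e
      have e2 : u * w * u⁻¹ * w⁻¹ * y⁻¹ = u * w * u⁻¹ * (y * w)⁻¹ := by group
      rw [e2]
      exact e
  intro y hy hyb
  refine hfin y hy hyb fun g hg => ?_
  rcases hcase with hquad | ⟨t', ht', htv', hne'⟩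
  · refine D.tq ?_ (hOm y hy hyb) hg
    rintro w ⟨y', hy', hyb', rfl⟩ g hg g' hg' m
    rw [hQ y' hy' hyb'] at hg hg'
    obtain ⟨v, hv, hve⟩ := hπ y' hy' g hg
    obtain ⟨v', hv', hve'⟩ := hπ y' hy' g' hg'
    rw [← hπact v g hve m, ← hπact v' g' hve']
    obtain ⟨x, rfl⟩ := hmk m
    rw [hsm, ← map_inv, ← map_mul, hfix]
    exact hquad y' hy' hyb' v hv v' hv' x x.2
  · refine D.tqBig (hOm y₀ hy₀ hne₀) (t := ⟨t, hUC y₀ hy₀ ht⟩) (t' := ⟨t', hUC y₀ hy₀ ht'⟩) ?_ ?_
      (htvM t ht htv.md) (htvM t' ht' htv'.md) ?_ ?_ ?_ (hOm y hy hyb) hg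
    · rw [hQ y₀ hy₀ hne₀]
      exact mem_sup_left (T := kq V b) ht
    · rw [hQ y₀ hy₀ hne₀]
      exact mem_sup_left (T := kq V b) ht'
    · obtain ⟨w, hw, hn⟩ := htv.ne
      exact ⟨mk ⟨w, hw⟩, fun e => hn ((hfix ⟨t, hUC y₀ hy₀ ht⟩ ⟨w, hw⟩).mp e)⟩
    · obtain ⟨w, hw, hn⟩ := htv'.ne
      exact ⟨mk ⟨w, hw⟩, fun e => hn ((hfix ⟨t', hUC y₀ hy₀ ht'⟩ ⟨w, hw⟩).mp e)⟩
    · obtain ⟨w, hw, hn⟩ := hne'
      refine ⟨mk ⟨w, hw⟩, fun e => hn ?_⟩
      rw [hsm, hsm, hone] at e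
      exact e

/-- `[W_b, U_y] ≤ ⟨b, y⟩` for one point `b` and all `y ~ b` : TYPE N -/
theorem tyN_of_md (h : Two T V z) (hb : Col V b b)
    (hmd : ∀ y, Col V b y → y ≠ b → ∀ u ∈ uu V y, ∀ w ∈ ws V b, Md b y u w) : TyN T V z := by
  refine { h with n := ?_ }
  intro a r b' har hrb x hx y hy
  by_cases hcom : Com V a b'
  · rw [hcom x hx y hy, mul_inv_cancel_right, mul_inv_cancel]
    exact one_mem _
  have hm : Mid T V z a r b' := { h with pr := har, rq := hrb, ne := hcom }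
  -- conjugate `b'` to `b`
  obtain ⟨g, hg⟩ := h.fr.exists_conj hrb.right hb
  have hm' := hm.conj g
  rw [hg] at hm'
  have h1 := hmd _ hm'.rq.symm hm'.ne_rq _ (ws_le_uu hm'.pr.symm (conj_mem_ws g hx)) (g * y * g⁻¹) (by
    have := conj_mem_ws g hy
    rwa [hg] at this)
  set x' := g * x * g⁻¹
  set y' := g * y * g⁻¹
  set r' := g * r * g⁻¹
  have hc : x' * y' * x'⁻¹ * y'⁻¹ ∈ ws V (g * a * g⁻¹) ⊓ ws V b := by
    refine hm'.comm_mem (conj_mem_ws g hx) ?_
    have := conj_mem_ws g hy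
    rwa [hg] at this
  have hbb := h.fr.pt_sq hb
  have h2 : x' * y' * x'⁻¹ * y'⁻¹ ∈ zpowers r' := by
    refine hm'.mem_zpowers_of (mem_inf.mp hc).1 ?_
    rcases h1 with e | e
    · rcases (mem_zpowers_iff_of_mul_self hbb).mp e with e | e
      · exact Or.inl e
      · exact Or.inr (Or.inr (Or.inl e))
    · have hcomm : b * r' = r' * b := (h.fr.col_comm hm'.rq).symm
      rcases (mem_zpowers_iff_of_mul_self hbb).mp e with e | e
      · exact Or.inr (Or.inl (mul_inv_eq_one.mp e))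
      · right; right; right
        rw [← hcomm, ← e, inv_mul_cancel_right]
  have h3 := conj_mem_cj (g := g⁻¹) h2
  have e1 : cj g⁻¹ (zpowers r') = zpowers r := by
    have : cj g⁻¹ (zpowers r') = zpowers (g⁻¹ * r' * g⁻¹⁻¹) := MonoidHom.map_zpowers _ _
    rw [this]
    congr 1
    change g⁻¹ * (g * r * g⁻¹) * g⁻¹⁻¹ = r
    group
  rw [e1] at h3
  have e2 : g⁻¹ * (x' * y' * x'⁻¹ * y'⁻¹) * g⁻¹⁻¹ = x * y * x⁻¹ * y⁻¹ := by
    change g⁻¹ * (g * x * g⁻¹ * (g * y * g⁻¹) * (g * x * g⁻¹)⁻¹ * (g * y * g⁻¹)⁻¹) * g⁻¹⁻¹ = _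
    group
  rwa [e2] at h3

/-- **THEOREM TQ** : one transvection, quadratic -/
theorem tyN_of_tv (h : Two T V z) (hq : QuadB V b) (hy : Col V b y) (hne : y ≠ b) {t : G} (ht : t ∈ uu V y)
    (htv : Tvg V b y t) : TyN T V z :=
  tyN_of_md h hy.left (md_of h hy hne ht htv (Or.inl hq))

/-- **THEOREM TQ'** : two transvections -/
theorem tyN_of_two (h : Two T V z) (hy : Col V b y) (hne : y ≠ b) {t t' : G} (ht : t ∈ uu V y) (ht' : t' ∈ uu V y)
    (htv : Tvg V b y t) (htv' : Tvg V b y t') (hw : ∃ w ∈ ws V b, (t * w * t⁻¹) * (t' * w * t'⁻¹)⁻¹ ∉ zpowers b) :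
    TyN T V z :=
  tyN_of_md h hy.left (md_of h hy hne ht htv (Or.inr ⟨t', ht', htv', hw⟩))

/-- TYPE N, or `U_r` contains no transvection of `M_b` with centre `r` (this is `Tq V` of `Opp.lean`) -/
theorem tyN_or_tq (h : Two T V z) (hq : ∀ b, Col V b b → QuadB V b) :
    TyN T V z ∨ ∀ b r, Col V b r → b ≠ r → ∀ u ∈ uu V r,
      (∀ w ∈ ws V b, u * w * u⁻¹ * w⁻¹ ∈ closure {b, r}) → ∀ w ∈ ws V b, u * w * u⁻¹ * w⁻¹ ∈ zpowers b := by
  by_cases hN : TyN T V z
  · exact Or.inl hN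
  right
  intro b r hbr hne u hu hcl
  by_contra hcon
  push Not at hcon
  refine hN (tyN_of_tv h (hq b hbr.left) hbr (Ne.symm hne) hu ⟨fun w hw => ?_, hcon⟩)
  have hbb := h.fr.pt_sq hbr.left
  have hrr := h.fr.pt_sq hbr.right
  have hcomm := h.fr.ws_comm hbr.left
  have hbW := h.fr.mem_ws_self hbr.left
  have hrW := h.fr.mem_ws_of_col hbr
  have hle : closure {b, r} ≤ zpowers b ⊔ zpowers r := by
    rw [closure_le]
    rintro y (rfl | rfl)
    · exact mem_sup_left (mem_zpowers _)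
    · exact mem_sup_right (mem_zpowers _)
  obtain ⟨i, hi, j, hj, e⟩ := mem_sup_of_comm hcomm (zpowers_le.mpr hbW) (zpowers_le.mpr hrW) (hle (hcl w hw))
  rcases (mem_zpowers_iff_of_mul_self hrr).mp hj with e' | e'
  · left
    rw [e, e', mul_one]
    exact hi
  · right
    rw [e, e', mul_inv_cancel_right]
    exact hi

end

end Cfsg.Agent.Omega.NO3S.TwoMid

end

section


/-!
# NO-3S, `|V| = 4`, critical distance 2 (TwoMid): THEOREM 2 of helper502 (#17909)

`Sit T V z a r b f h`, `x = h r h⁻¹`: if `[W_x, W_r] = ⟨b⟩`, then TYPE N (`Sit.tyN`), and `[W_x, W_r] ≠ 1`, not TYPE N imply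
`[W_x, W_r] ≰ ⟨b⟩` (`Sit.not_le`).  No (NO), no `N_b = ⟨b⟩`.

* `Sit.exists_sqrt` : `k² = h`; `h f = k f k⁻¹` interchanges `r` and `x`;
* `Sit.form_symm`, `Sit.form_self` : `(w, w') ↦ [w, h w' h⁻¹]` is symmetric and alternating on `W_r`.
-/

set_option autoImplicit false
set_option linter.unusedSectionVars false

namespace Cfsg.Agent.Omega.NO3S.TwoMid.Alpha

open Subgroup Cfsg Cfsg.Agent.ZN Cfsg.Agent.MinSimple.Geo Cfsg.Agent.Omega.CaseL Cfsg.Agent.Omega.NO3S.TwoOne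
  Cfsg.Agent.Omega.NO3S.Pt Cfsg.Agent.Omega.NO3S.TwoMid
open Cfsg.Agent.ZN.Block (conj_mem_of_normalizer conj_mem_of_normalizer' le_normalizer_of_forall
  mem_normalizer_of)

universe u

variable {G : Type u} [Group G] {T V : Subgroup G} {z : G} {a b r f h : G}

namespace Sit

variable [Finite G] (s : Sit T V z a r b f h)
include s

/-- a square root of `h` in `⟨h⟩` -/
theorem exists_sqrt : ∃ k : G, k * k = h ∧ Iv b f k := by
  obtain ⟨k, hk⟩ := s.iv.odd
  refine ⟨h ^ (k + 1), ?_, s.iv.pow _⟩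
  rw [← pow_add, show k + 1 + (k + 1) = orderOf h + 1 by omega, pow_succ, pow_orderOf_eq_one, one_mul]

theorem hf_sq : (h * f) * (h * f) = 1 := by
  have hi := s.iv.inv
  calc (h * f) * (h * f) = h * (f * h * f⁻¹) * (f * f) := by group
    _ = 1 := by rw [hi, mul_inv_cancel, s.ff, one_mul]

theorem hf_inv : (h * f)⁻¹ = h * f := inv_eq_of_mul_eq_one_left s.hf_sq

/-- `h f` acts on `W_r` as `h` -/
theorem hf_conj {w : G} (hw : w ∈ ws V r) : (h * f) * w * (h * f)⁻¹ = h * w * h⁻¹ := by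
  have h1 : f * w = w * f := (mem_centralizer_iff.mp (s.mid.toTwo.ws_le_cent s.mid.pr s.f_mem) w hw).symm
  calc (h * f) * w * (h * f)⁻¹ = h * (f * w) * f⁻¹ * h⁻¹ := by group
    _ = h * w * h⁻¹ := by rw [h1]; group

theorem hf_conj' {w : G} (hw : w ∈ ws V r) : (h * f) * (h * w * h⁻¹) * (h * f)⁻¹ = w := by
  rw [← s.hf_conj hw]
  calc (h * f) * ((h * f) * w * (h * f)⁻¹) * (h * f)⁻¹ = ((h * f) * (h * f)) * w * ((h * f) * (h * f))⁻¹ := by group
    _ = w := by rw [s.hf_sq]; group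

theorem hf_b : (h * f) * b = b * (h * f) := mul_comm_of s.iv.cb s.fb

variable (hR : rr V (h * r * h⁻¹) r ≤ zpowers b)
include hR

/-- the values of the form -/
theorem form_mem {w w' : G} (hw : w ∈ ws V r) (hw' : w' ∈ ws V r) :
    w * (h * w' * h⁻¹) * w⁻¹ * (h * w' * h⁻¹)⁻¹ ∈ zpowers b := by
  apply hR
  rw [rr_comm]
  exact comm_mem_rr hw (conj_mem_ws h hw')

theorem form_symm {w w' : G} (hw : w ∈ ws V r) (hw' : w' ∈ ws V r) :
    w * (h * w' * h⁻¹) * w⁻¹ * (h * w' * h⁻¹)⁻¹ = w' * (h * w * h⁻¹) * w'⁻¹ * (h * w * h⁻¹)⁻¹ := by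
  have h1 := s.form_mem hR hw hw'
  have h2 := s.form_mem hR hw' hw
  -- conjugation by `h f`
  have h3 : (h * f) * (w * (h * w' * h⁻¹) * w⁻¹ * (h * w' * h⁻¹)⁻¹) * (h * f)⁻¹ =
      (w' * (h * w * h⁻¹) * w'⁻¹ * (h * w * h⁻¹)⁻¹)⁻¹ := by
    calc (h * f) * (w * (h * w' * h⁻¹) * w⁻¹ * (h * w' * h⁻¹)⁻¹) * (h * f)⁻¹
        = ((h * f) * w * (h * f)⁻¹) * ((h * f) * (h * w' * h⁻¹) * (h * f)⁻¹) * ((h * f) * w * (h * f)⁻¹)⁻¹ *
          ((h * f) * (h * w' * h⁻¹) * (h * f)⁻¹)⁻¹ := by group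
      _ = (h * w * h⁻¹) * w' * (h * w * h⁻¹)⁻¹ * w'⁻¹ := by rw [s.hf_conj hw, s.hf_conj' hw']
      _ = _ := by group
  have h4 : (h * f) * (w * (h * w' * h⁻¹) * w⁻¹ * (h * w' * h⁻¹)⁻¹) * (h * f)⁻¹ =
      w * (h * w' * h⁻¹) * w⁻¹ * (h * w' * h⁻¹)⁻¹ := conj_zpowers_of_comm s.hf_b h1
  rw [← h4, h3]
  rcases (mem_zpowers_iff_of_mul_self s.bb).mp h2 with e | e
  · rw [e, inv_one]
  · rw [e, inv_eq_of_mul_eq_one_left s.bb]

theorem form_self {w : G} (hw : w ∈ ws V r) : w * (h * w * h⁻¹) * w⁻¹ * (h * w * h⁻¹)⁻¹ = 1 := by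
  obtain ⟨k, hkk, ik⟩ := s.exists_sqrt
  have hT := s.mid.toTwo
  have hfk : k * f * k⁻¹ = h * f := by
    have := ik.symm.inv
    rw [inv_inv] at this
    calc k * f * k⁻¹ = k * (f * k⁻¹ * f⁻¹) * f := by group
      _ = h * f := by rw [this, hkk]
  -- `a' ~ r' ~ b`
  have hkb : k * b * k⁻¹ = b := by rw [ik.cb, mul_inv_cancel_right]
  have hm := s.mid.conj k
  rw [hkb] at hm
  have hf' : h * f ∈ ws V (k * a * k⁻¹) := by rw [← hfk]; exact conj_mem_ws k s.f_mem
  -- `w` fixes `r'`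
  have hwr : w * (k * r * k⁻¹) * w⁻¹ = k * r * k⁻¹ := by
    have h1 := hT.com s.mid.rq w hw (k * r * k⁻¹) (s.mid.fr.mem_ws_of_col hm.rq.symm)
    rw [h1, mul_inv_cancel_right]
  have hcol : Col V (k * r * k⁻¹) (w * (k * a * k⁻¹) * w⁻¹) := by
    have := hm.pr.symm.conj w
    rwa [hwr] at this
  have hc := hT.comm_mem hm.pr hcol hf' (conj_mem_ws w hf')
  have hww : w * w = 1 := s.mid.fr.ws_sq s.mid.rq.left w hw
  have hwi : w⁻¹ = w := inv_eq_of_mul_eq_one_left hww
  have hv : h * w * h⁻¹ = (h * f) * w * (h * f) := by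
    rw [← s.hf_conj hw, s.hf_inv]
  have hmem := s.form_mem hR hw hw
  -- the commutator
  have e1 : h * f * (w * (h * f) * w⁻¹) * (h * f)⁻¹ * (w * (h * f) * w⁻¹)⁻¹ =
      w⁻¹ * (w * (h * w * h⁻¹) * w⁻¹ * (h * w * h⁻¹)⁻¹) * w := by
    rw [hv]
    generalize hg : h * f = g
    have hgi : g⁻¹ = g := by rw [← hg]; exact s.hf_inv
    simp only [mul_inv_rev, hgi, hwi]
    calc g * (w * g * w) * g * (w * (g * w)) = g * w * g * w * g * w * g * w := by simp only [mul_assoc]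
      _ = (w * w) * (g * w * g * w * g * w * g * w) := by rw [hww, one_mul]
      _ = _ := by simp only [mul_assoc]
  have hwb : w * b = b * w := (hT.com s.mid.rq w hw b s.b_b)
  rw [e1] at hc
  have e2 : w⁻¹ * (w * (h * w * h⁻¹) * w⁻¹ * (h * w * h⁻¹)⁻¹) * w =
      w * (h * w * h⁻¹) * w⁻¹ * (h * w * h⁻¹)⁻¹ := by
    have := conj_zpowers_of_comm (g := w⁻¹) (inv_comm_of hwb) hmem
    rwa [inv_inv] at this
  rw [e2] at hc
  rcases (mem_zpowers_iff_of_mul_self s.bb).mp hmem with e | e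
  · exact e
  · rw [e] at hc
    exact absurd (mem_inf.mp hc).1 hm.not_mem'

/-- **THEOREM 2** (helper502) -/
theorem tyN (hne : ¬ Com V (h * r * h⁻¹) r) : TyN T V z := by
  have hT := s.mid.toTwo
  obtain ⟨u, hu, w₁, hw₁, hcom⟩ : ∃ u ∈ ws V (h * r * h⁻¹), ∃ w ∈ ws V r, u * w ≠ w * u := by
    by_contra hcon
    push Not at hcon
    exact hne fun u hu w hw => hcon u hu w hw
  set w₂ := h⁻¹ * u * h with hw₂d
  have hw₂ : w₂ ∈ ws V r := by
    rw [← cj_ws] at hu
    exact mem_cj.mp hu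
  have hu2 : h * w₂ * h⁻¹ = u := by rw [hw₂d]; group
  set F : G → G → G := fun w w' => w * (h * w' * h⁻¹) * w⁻¹ * (h * w' * h⁻¹)⁻¹ with hF
  have hF12 : F w₁ w₂ = b := by
    rcases (mem_zpowers_iff_of_mul_self s.bb).mp (s.form_mem hR hw₁ hw₂) with e | e
    · exfalso
      apply hcom
      have e' : w₁ * u * w₁⁻¹ * u⁻¹ = 1 := by rw [← hu2]; exact e
      calc u * w₁ = (w₁ * u * w₁⁻¹ * u⁻¹)⁻¹ * (w₁ * u) := by group
        _ = w₁ * u := by rw [e', inv_one, one_mul]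
    · exact e
  have hF21 : F w₂ w₁ = b := by
    rw [← hF12]
    exact (s.form_symm hR hw₁ hw₂).symm
  have hF11 : F w₁ w₁ = 1 := s.form_self hR hw₁
  have hF22 : F w₂ w₂ = 1 := s.form_self hR hw₂
  have hxb : Col V b (h * r * h⁻¹) := s.bx
  have hbr : b ≠ r := s.mid.ne_rq.symm
  have hcv : ∀ w w', (h * w' * h⁻¹) * w * (h * w' * h⁻¹)⁻¹ * w⁻¹ = (F w w')⁻¹ := by
    intro w w'
    rw [hF]
    group
  have hbi : b⁻¹ = b := inv_eq_of_mul_eq_one_left s.bb
  have hb1 : b ≠ 1 := s.mid.rq.right.ne_one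
  have hbz : b ∉ zpowers r := by
    intro e
    rcases (mem_zpowers_iff_of_mul_self s.rr1).mp e with e | e
    · exact hb1 e
    · exact hbr e
  have hmd : ∀ w' ∈ ws V r, ∀ w ∈ ws V r, Md r b (h * w' * h⁻¹) w := by
    intro w' hw' w hw
    unfold Md
    rw [hcv]
    rcases (mem_zpowers_iff_of_mul_self s.bb).mp (s.form_mem hR hw hw') with e | e
    · left
      change (w * (h * w' * h⁻¹) * w⁻¹ * (h * w' * h⁻¹)⁻¹)⁻¹ ∈ _
      rw [e, inv_one]
      exact one_mem _
    · right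
      change (w * (h * w' * h⁻¹) * w⁻¹ * (h * w' * h⁻¹)⁻¹)⁻¹ * b⁻¹ ∈ _
      rw [e, hbi, s.bb]
      exact one_mem _
  refine tyN_of_two hT (b := r) (y := b) s.mid.rq hbr
    (ws_le_uu hxb (conj_mem_ws h hw₁)) (ws_le_uu hxb (conj_mem_ws h hw₂))
    ⟨hmd w₁ hw₁, w₂, hw₂, ?_⟩ ⟨hmd w₂ hw₂, w₁, hw₁, ?_⟩ ⟨w₁, hw₁, ?_⟩
  · rw [hcv, hF21, hbi]
    exact hbz
  · rw [hcv, hF12, hbi]
    exact hbz
  · have e1 : (h * w₁ * h⁻¹) * w₁ * (h * w₁ * h⁻¹)⁻¹ = w₁ := by
      have := hcv w₁ w₁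
      rw [hF11, inv_one] at this
      exact mul_inv_eq_one.mp this
    have e2 : (h * w₂ * h⁻¹) * w₁ * (h * w₂ * h⁻¹)⁻¹ = b * w₁ := by
      have := hcv w₁ w₂
      rw [hF12, hbi] at this
      exact mul_inv_eq_iff_eq_mul.mp this
    rw [e1, e2]
    have e3 : w₁ * (b * w₁)⁻¹ = b := by rw [mul_inv_rev, mul_inv_cancel_left, hbi]
    rw [e3]
    exact hbz

end Sit

/-- not TYPE N, `(x, r)` critical: `[W_x, W_r] ≰ ⟨b⟩` -/
theorem Sit.not_le [Finite G] (s : Sit T V z a r b f h) (hN : ¬ TyN T V z) (hne : ¬ Com V (h * r * h⁻¹) r) :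
    ¬ rr V (h * r * h⁻¹) r ≤ zpowers b := fun hR => hN (s.tyN hR hne)

end Cfsg.Agent.Omega.NO3S.TwoMid.Alpha

end

end

-- merged: Cfsg.Agent.Mrg.Omega.NO3S.TwoMid.EndB
section

/-!
# NO-3S, `|V| = 4`, critical distance 2 (TwoMid): assembly for `N_b = ⟨b⟩` (bb #19433 (A))

* `exists_of_not_tyN` : not TYPE N: a critical `(a, b)` with `[W_a, W_b] ≰ ⟨r⟩`;
* `Mid.false_nb_of` : contradiction from (NO), `N_b = ⟨b⟩`, beta dead and `inn`.
-/

set_option autoImplicit false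
set_option linter.unusedSectionVars false

namespace Cfsg.Agent.Omega.NO3S.TwoMid

open Subgroup Cfsg Cfsg.Agent.ZN Cfsg.Agent.MinSimple.Geo Cfsg.Agent.Omega.CaseL Cfsg.Agent.Omega.NO3S.TwoOne
  Cfsg.Agent.Omega.NO3S.Pt

universe u

variable {G : Type u} [Group G] {T V : Subgroup G} {z : G} {a b r : G}

theorem exists_of_not_tyN (h : Two T V z) (hN : ¬ TyN T V z) : ∃ a r b, Mid T V z a r b ∧ ¬ rr V a b ≤ zpowers r := by
  by_contra hno
  push Not at hno
  apply hN
  refine { h with n := ?_ }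
  intro a r b har hrb x hx y hy
  by_cases hcom : Com V a b
  · rw [hcom x hx y hy, mul_inv_cancel_right, mul_inv_cancel]
    exact one_mem _
  · exact hno a r b { h with pr := har, rq := hrb, ne := hcom } (comm_mem_rr hx hy)

/-- **(A)** for `N_b = ⟨b⟩` -/
theorem Mid.false_nb_of [Finite G] (h : Mid T V z a r b) (no : NOm V) (nb : NB V)
    (beta : ∀ a r b x f, DT T V z a r b x f → ¬ Com V x r)
    (inn : ∀ a r b, Mid T V z a r b → rr V a b ≤ ws V r → ws V a ≤ closure {u | u ∈ ws V a ∧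
      ∃ c, ∀ w ∈ ws V b, u * w * u⁻¹ = w ∨ u * w * u⁻¹ = c * w}) : False := by
  by_cases hN : TyN T V z
  · exact TypeN.false_of_tyN hN h
  obtain ⟨a, r, b, hm, hne⟩ := exists_of_not_tyN h.toTwo hN
  obtain ⟨f, g, s, hD⟩ := Alpha.exists_sit hm nb no hne
  have hdt : DT T V z a r b (g * r * g⁻¹) f :=
    { mid := hm
      col := s.bx
      mem := s.f_mem
      ne := s.fx_ne
      le := by rw [s.xf]; exact hD }
  have hcom := beta _ _ _ _ _ hdt
  have hm' : Mid T V z (g * r * g⁻¹) b r := { hm.toTwo with pr := hdt.col.symm, rq := hm.rq.symm, ne := hcom }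
  have hin : rr V (g * r * g⁻¹) r ≤ ws V b :=
    rr_le_of_D hm.toTwo hm.pr hm.rq.symm hdt.col hdt.mem hdt.le
  exact hm'.false_of_inner hin (s.not_le hN hcom) nb beta (inn _ _ _ hm' hin)

end Cfsg.Agent.Omega.NO3S.TwoMid

end

-- merged: Cfsg.Agent.Omega.NO3S.TwoMid.Beta.Trv
section

/-!
# NO-3S, `|V| = 4`, TwoMid-B: the transvection lemma (helper711 #18281 (9), (10)), abstract

`H` acts on the elementary abelian 2-group `M = ⟨r^H⟩`, `T` is a 2-group with `C_M(T) = {1, r}`, `I ≤ Θ` are subgroups of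
`M`, `r ∈ I`, `I` is invariant under `C_H(r)`, `Θ` has index 2, `S = {g : [M, g] ≤ I, [I, g] = 1}`, the vectors outside
`Θ` are `S`-regular (modulo the kernel), `x ∈ S` is a transvection with axis `Θ`.

* `Trv.main` : every `g ∈ S` acts trivially or as `x`.
-/

set_option autoImplicit false

namespace Cfsg.Agent.Omega.NO3S.TwoMid.Beta

open Subgroup

universe u v

theorem iff_aux {a b c a' b' c' : Prop} (h1 : a ↔ (b ↔ c)) (h2 : a' ↔ (b' ↔ c')) :
    (a ↔ a') ↔ ((b ↔ b') ↔ (c ↔ c')) := by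
  rw [h1, h2]
  by_cases hb : b <;> by_cases hc : c <;> by_cases hb' : b' <;> by_cases hc' : c' <;>
    simp only [hb, hc, hb', hc', iff_true, iff_false, not_true]

theorem iff_aux' (a b : Prop) : a ↔ (b ↔ (a ↔ b)) := by
  by_cases ha : a <;> by_cases hb : b <;> simp only [ha, hb, iff_true, iff_false, not_true]

/-- the situation -/
structure Trv (H : Type u) (M : Type v) [Group H] [Group M] [MulDistribMulAction H M] (r : M) (T : Subgroup H)
    (I Θ : Subgroup M) (x : H) : Prop where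
  comm : ∀ v w : M, v * w = w * v
  sq : ∀ v : M, v * v = 1
  two : IsPGroup 2 T
  fixT : ∀ t ∈ T, t • r = r
  fix : ∀ m : M, (∀ t ∈ T, t • m = m) → m = 1 ∨ m = r
  gen : closure (Set.range fun h : H => h • r) = ⊤
  inv : ∀ h : H, h • r = r → ∀ m ∈ I, h • m ∈ I
  r_mem : r ∈ I
  le : I ≤ Θ
  idx : Θ.index = 2
  reg : ∀ g : H, (∀ m, (g • m) * m⁻¹ ∈ I) → (∀ m ∈ I, g • m = m) → ∀ v : M, v ∉ Θ → g • v = v → ∀ m : M, g • m = m
  x_ne : ∃ m : M, x • m ≠ m
  x_mem : ∀ m, (x • m) * m⁻¹ ∈ I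
  x_fix : ∀ m ∈ Θ, x • m = m

namespace Trv

variable {H : Type u} {M : Type v} [Group H] [Group M] [MulDistribMulAction H M] {r : M} {T : Subgroup H}
  {I Θ : Subgroup M} {x : H}

/-- `S` -/
def SS (I : Subgroup M) (g : H) : Prop := (∀ m : M, (g • m) * m⁻¹ ∈ I) ∧ ∀ m ∈ I, g • m = m

theorem SS.mul {g k : H} (hg : SS I g) (hk : SS I k) : SS I (g * k) := by
  refine ⟨fun m => ?_, fun m hm => by rw [mul_smul, hk.2 m hm, hg.2 m hm]⟩
  have e : (g * k) • m * m⁻¹ = (g • (k • m)) * (k • m)⁻¹ * ((k • m) * m⁻¹) := by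
    rw [mul_smul]; group
  rw [e]
  exact mul_mem (hg.1 _) (hk.1 m)

theorem SS.inv {g : H} (hg : SS I g) : SS I g⁻¹ := by
  refine ⟨fun m => ?_, fun m hm => by rw [inv_smul_eq_iff, hg.2 m hm]⟩
  have h1 := inv_mem (hg.1 (g⁻¹ • m))
  rwa [smul_inv_smul, mul_inv_rev, inv_inv] at h1

variable (h : Trv H M r T I Θ x)
include h

theorem inv_eq (v : M) : v⁻¹ = v := inv_eq_of_mul_eq_one_left (h.sq v)

theorem r_ne : r ≠ 1 := by
  rintro rfl
  obtain ⟨m, hm⟩ := h.x_ne
  apply hm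
  have h1 : (⊤ : Subgroup M) ≤ ⊥ := by
    rw [← h.gen, closure_le]
    rintro _ ⟨g, rfl⟩
    simp
  have h2 : ∀ m : M, m = 1 := fun m => by simpa using h1 (mem_top m)
  rw [h2 (x • m), h2 m]

theorem mul_mem_iff {a b : M} : a * b ∈ Θ ↔ (a ∈ Θ ↔ b ∈ Θ) := mul_mem_iff_of_index_two h.idx

theorem SSx : SS I x := ⟨h.x_mem, fun m hm => h.x_fix m (h.le hm)⟩

/-- conjugates of elements of `S` by elements of `C_H(r)` -/
theorem SS_conj {g k : H} (hg : SS I g) (hk : k • r = r) : SS I (k * g * k⁻¹) := by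
  have hk' : k⁻¹ • r = r := by rw [inv_smul_eq_iff, hk]
  refine ⟨fun m => ?_, fun m hm => ?_⟩
  · have h1 := h.inv k hk _ (hg.1 (k⁻¹ • m))
    rwa [smul_mul', smul_inv', smul_inv_smul, ← mul_smul, ← mul_smul] at h1
  · rw [mul_smul, mul_smul, hg.2 _ (h.inv _ hk' m hm), smul_inv_smul]

/-- an element of `S` which centralises a vector outside `Θ` acts trivially -/
theorem le_of_fix {g : H} (hg : SS I g) {Θ' : Subgroup M} (hΘ' : ∀ m ∈ Θ', g • m = m) (hne : ∃ m : M, g • m ≠ m) :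
    Θ' ≤ Θ := by
  intro m hm
  by_contra hn
  obtain ⟨m', hm'⟩ := hne
  exact hm' (h.reg g hg.1 hg.2 m hn (hΘ' m hm) m')

/-- `Θ` is invariant under `C_H(r)` -/
theorem smul_mem {k : H} (hk : k • r = r) {m : M} (hm : m ∈ Θ) : k • m ∈ Θ := by
  by_contra hn
  obtain ⟨m', hm'⟩ := h.x_ne
  have h1 := h.SS_conj h.SSx hk
  have h2 := h.reg _ h1.1 h1.2 (k • m) hn (by rw [mul_smul, mul_smul, inv_smul_smul, h.x_fix m hm])
  have h3 := h2 (k • m')
  rw [mul_smul, mul_smul, inv_smul_smul] at h3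
  exact hm' (smul_left_cancel k h3)

theorem smul_mem_iff {k : H} (hk : k • r = r) {m : M} : k • m ∈ Θ ↔ m ∈ Θ := by
  refine ⟨fun h1 => ?_, h.smul_mem hk⟩
  have := h.smul_mem (k := k⁻¹) (by rw [inv_smul_eq_iff, hk]) h1
  rwa [inv_smul_smul] at this

theorem top_not_le : ∃ h : H, h • r ∉ Θ := by
  by_contra hcon
  push Not at hcon
  have h1 : (⊤ : Subgroup M) ≤ Θ := by
    rw [← h.gen, closure_le]
    rintro _ ⟨g, rfl⟩
    exact hcon g
  have h2 := h.idx
  rw [top_le_iff.mp h1, index_top] at h2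
  omega

/-- a nontrivial `T`-invariant subgroup contains `r` -/
theorem mem_of_inv [Finite M] {E : Subgroup M} (hET : ∀ t ∈ T, ∀ e ∈ E, t • e ∈ E) (hE1 : E ≠ ⊥) : r ∈ E := by
  have hT := h.two
  have : Fact (Nat.Prime 2) := ⟨Nat.prime_two⟩
  let _ : MulAction T E :=
    { smul := fun t e => ⟨(t : H) • (e : M), hET t t.2 e e.2⟩
      one_smul := fun e => Subtype.ext (one_smul H (e : M))
      mul_smul := fun t t' e => Subtype.ext (mul_smul (t : H) (t' : H) (e : M)) }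
  obtain ⟨e0, he0⟩ := Subgroup.ne_bot_iff_exists_ne_one.1 hE1
  have hcard : 2 ∣ Nat.card E := by
    have h1 : orderOf e0 = 2 := orderOf_eq_prime (by rw [pow_two]; exact Subtype.ext (h.sq e0)) he0
    rw [← h1]
    exact orderOf_dvd_natCard e0
  have hfix1 : (1 : E) ∈ MulAction.fixedPoints T E := fun t => Subtype.ext (smul_one (t : H))
  obtain ⟨e, he, hne⟩ := hT.exists_fixed_point_of_prime_dvd_card_of_fixed_point E hcard hfix1
  rcases h.fix e (fun t ht => congrArg Subtype.val (he ⟨t, ht⟩)) with h1 | h1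
  · exact absurd (Subtype.ext h1.symm) hne
  · have := e.2
    rw [h1] at this
    exact this

/-- the transvection with centre `r` -/
theorem exists_tau [Finite M] : ∃ t : H, SS I t ∧ (∀ m ∈ Θ, t • m = m) ∧ ∀ m, m ∉ Θ → t • m = m * r := by
  -- the group of centres
  let E : Subgroup M :=
    { carrier := {e | ∃ g : H, SS I g ∧ (∀ m ∈ Θ, g • m = m) ∧ ∀ m, m ∉ Θ → g • m = m * e}
      mul_mem' := by
        rintro e e' ⟨g, h1, h2, h3⟩ ⟨g', h1', h2', h3'⟩
        refine ⟨g * g', h1.mul h1', fun m hm => by rw [mul_smul, h2' m hm, h2 m hm], fun m hm => ?_⟩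
        have he' : e' ∈ Θ := by
          obtain ⟨s, hs⟩ := h.top_not_le
          have h4 := h1'.1 (s • r)
          rw [h3' _ hs, h.comm _ e', mul_inv_cancel_right] at h4
          exact h.le h4
        rw [mul_smul, h3' m hm, smul_mul', h3 m hm, h2 e' he', mul_assoc]
      one_mem' := ⟨1, ⟨fun m => by rw [one_smul, mul_inv_cancel]; exact one_mem _, fun m _ => one_smul _ _⟩,
        fun m _ => one_smul _ _, fun m _ => by rw [one_smul, mul_one]⟩
      inv_mem' := by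
        rintro e ⟨g, h1, h2, h3⟩
        rw [h.inv_eq e]
        exact ⟨g, h1, h2, h3⟩ }
  have hET : ∀ t ∈ T, ∀ e ∈ E, t • e ∈ E := by
    rintro t ht e ⟨g, h1, h2, h3⟩
    have htr := h.fixT t ht
    have htr' : t⁻¹ • r = r := by rw [inv_smul_eq_iff, htr]
    refine ⟨t * g * t⁻¹, h.SS_conj h1 htr, fun m hm => ?_, fun m hm => ?_⟩
    · rw [mul_smul, mul_smul, h2 _ (h.smul_mem htr' hm), smul_inv_smul]
    · rw [mul_smul, mul_smul, h3 _ (fun e => hm ((h.smul_mem_iff htr').mp e)), smul_mul', smul_inv_smul]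
  have hE1 : E ≠ ⊥ := by
    obtain ⟨m, hm⟩ := h.x_ne
    have hmΘ : m ∉ Θ := fun e => hm (h.x_fix m e)
    intro hE
    have h1 : (x • m) * m⁻¹ ∈ E := by
      refine ⟨x, h.SSx, h.x_fix, fun m' hm' => ?_⟩
      have h2 : m' * m⁻¹ ∈ Θ := by
        rw [h.inv_eq, h.mul_mem_iff]
        exact iff_of_false hm' hmΘ
      have h3 := h.x_fix _ h2
      rw [smul_mul', smul_inv'] at h3
      calc x • m' = (x • m' * (x • m)⁻¹) * (x • m) := by group
        _ = m' * m⁻¹ * (x • m) := by rw [h3]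
        _ = m' * (x • m * m⁻¹) := by rw [mul_assoc, h.comm m⁻¹]
    rw [hE, mem_bot, mul_inv_eq_one] at h1
    exact hm h1
  exact h.mem_of_inv hET hE1

/-- `⋂ Θ_s = 1` -/
theorem nondeg [Finite M] {m : M} (hm : ∀ g : H, g⁻¹ • m ∈ Θ) : m = 1 := by
  let N : Subgroup M :=
    { carrier := {m | ∀ g : H, g⁻¹ • m ∈ Θ}
      mul_mem' := fun ha hb g => by rw [smul_mul']; exact mul_mem (ha g) (hb g)
      one_mem' := fun g => by rw [smul_one]; exact one_mem _
      inv_mem' := fun ha g => by rw [smul_inv']; exact inv_mem (ha g) }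
  have hN : N = ⊥ := by
    by_contra hne
    have h1 : r ∈ N := h.mem_of_inv (fun t _ e he g => by
      have := he (t⁻¹ * g)
      rwa [mul_inv_rev, inv_inv, mul_smul] at this) hne
    obtain ⟨g, hg⟩ := h.top_not_le
    have := h1 g⁻¹
    rw [inv_inv] at this
    exact hg this
  have h2 : m ∈ N := hm
  rw [hN, mem_bot] at h2
  exact h2

/-! ### the transvections `τ_s`, `s ∈ r^H` -/

theorem symm_aux {t : H} (ht1 : ∀ m ∈ Θ, t • m = m) (ht2 : ∀ m, m ∉ Θ → t • m = m * r) {g k : H}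
    (h1 : k⁻¹ • g • r ∈ Θ) : g⁻¹ • k • r ∈ Θ := by
  by_contra hn
  -- `τ = k t k⁻¹` fixes `s = g r`
  have h2 : (g⁻¹ * (k * t * k⁻¹) * g) • r = r := by
    rw [mul_smul, mul_smul, mul_smul, mul_smul, ht1 _ h1, smul_inv_smul, inv_smul_smul]
  -- `Θ_s ≤ Θ_{s'}`
  have h3 : ∀ m, g⁻¹ • m ∈ Θ → k⁻¹ • m ∈ Θ := by
    intro m hm
    by_contra hk
    have h4 := h.smul_mem h2 hm
    rw [mul_smul, mul_smul, mul_smul, mul_smul, smul_inv_smul, ht2 _ hk, smul_mul', smul_inv_smul, smul_mul',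
      h.mul_mem_iff] at h4
    exact hn (h4.mp hm)
  -- `Θ_{s'} = M`
  have hr : r ∈ Θ := h.le h.r_mem
  have h4 : ∀ m, k⁻¹ • m ∈ Θ := by
    intro m
    by_cases hm : g⁻¹ • m ∈ Θ
    · exact h3 m hm
    · have h5 : g⁻¹ • (m * k • r) ∈ Θ := by
        rw [smul_mul', h.mul_mem_iff]
        exact iff_of_false hm hn
      have h6 := h3 _ h5
      rw [smul_mul', inv_smul_smul, h.mul_mem_iff] at h6
      exact h6.mpr hr
  obtain ⟨v, hv⟩ := h.top_not_le
  apply hv
  have := h4 (k • v • r)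
  rwa [inv_smul_smul] at this

theorem main [Finite M] (g : H) (hg : SS I g) : (∀ m : M, g • m = m) ∨ ∀ m : M, g • m = x • m := by
  obtain ⟨t, ht, ht1, ht2⟩ := h.exists_tau
  have symm : ∀ g k : H, k⁻¹ • g • r ∈ Θ ↔ g⁻¹ • k • r ∈ Θ := fun g k =>
    ⟨h.symm_aux ht1 ht2, h.symm_aux ht1 ht2⟩
  have hr : r ∈ Θ := h.le h.r_mem
  obtain ⟨k, hk⟩ := h.top_not_le
  -- the main step
  have key : ∀ g : H, SS I g → k⁻¹ • (g • k • r * (k • r)) ∉ Θ → g • k • r * (k • r) = r := by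
    intro g hg hgn
    obtain ⟨e, he⟩ : ∃ e, e = g • k • r * (k • r) := ⟨_, rfl⟩
    rw [← he] at hgn ⊢
    have heI : e ∈ I := by
      have := hg.1 (k • r)
      rwa [h.inv_eq, ← he] at this
    have hs1 : (g * k) • r = e * (k • r) := by
      rw [he, mul_assoc, h.sq, mul_one, mul_smul]
    have hsn : (g * k)⁻¹ • k • r ∉ Θ := by
      rw [symm, hs1, smul_mul', inv_smul_smul, h.mul_mem_iff]
      exact fun e => hgn (e.mpr hr)
    -- `e = l r`
    set l : H := (g * k) * t * (g * k)⁻¹ * k with hl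
    have hle : l • r = e := by
      rw [hl, mul_smul, mul_smul, mul_smul, ht2 _ hsn, smul_mul', smul_inv_smul, hs1, h.comm, mul_assoc, h.sq,
        mul_one]
    -- additivity
    have hadd : ∀ m : M, l⁻¹ • m ∈ Θ ↔ (k⁻¹ • m ∈ Θ ↔ (g * k)⁻¹ • m ∈ Θ) := by
      let Q : Subgroup M :=
        { carrier := {m | l⁻¹ • m ∈ Θ ↔ (k⁻¹ • m ∈ Θ ↔ (g * k)⁻¹ • m ∈ Θ)}
          mul_mem' := by
            intro a b ha hb
            change l⁻¹ • (a * b) ∈ Θ ↔ (k⁻¹ • (a * b) ∈ Θ ↔ (g * k)⁻¹ • (a * b) ∈ Θ)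
            change l⁻¹ • a ∈ Θ ↔ (k⁻¹ • a ∈ Θ ↔ (g * k)⁻¹ • a ∈ Θ) at ha
            change l⁻¹ • b ∈ Θ ↔ (k⁻¹ • b ∈ Θ ↔ (g * k)⁻¹ • b ∈ Θ) at hb
            rw [smul_mul', smul_mul', smul_mul', h.mul_mem_iff, h.mul_mem_iff, h.mul_mem_iff]
            exact iff_aux ha hb
          one_mem' := by
            change l⁻¹ • (1 : M) ∈ Θ ↔ (k⁻¹ • (1 : M) ∈ Θ ↔ (g * k)⁻¹ • (1 : M) ∈ Θ)
            simp only [smul_one, one_mem]
          inv_mem' := by
            intro a ha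
            change l⁻¹ • a⁻¹ ∈ Θ ↔ (k⁻¹ • a⁻¹ ∈ Θ ↔ (g * k)⁻¹ • a⁻¹ ∈ Θ)
            rw [h.inv_eq]
            exact ha }
      have hQ : (⊤ : Subgroup M) ≤ Q := by
        rw [← h.gen, closure_le]
        rintro _ ⟨j, rfl⟩
        change l⁻¹ • j • r ∈ Θ ↔ (k⁻¹ • j • r ∈ Θ ↔ (g * k)⁻¹ • j • r ∈ Θ)
        rw [symm j l, symm j k, symm j (g * k), hle, hs1, smul_mul', h.mul_mem_iff]
        exact iff_aux' _ _
      exact fun m => hQ (mem_top m)
    -- `τ_e ∈ S`
    have hI : ∀ m ∈ I, l⁻¹ • m ∈ Θ := by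
      intro m hm
      rw [hadd m, mul_inv_rev, mul_smul, hg.inv.2 m hm]
    have htau1 : ∀ m, l⁻¹ • m ∈ Θ → (l * t * l⁻¹) • m = m := by
      intro m hm
      rw [mul_smul, mul_smul, ht1 _ hm, smul_inv_smul]
    have htau2 : ∀ m, l⁻¹ • m ∉ Θ → (l * t * l⁻¹) • m = m * e := by
      intro m hm
      rw [mul_smul, mul_smul, ht2 _ hm, smul_mul', smul_inv_smul, hle]
    have htauS : SS I (l * t * l⁻¹) := by
      refine ⟨fun m => ?_, fun m hm => htau1 m (hI m hm)⟩
      by_cases hm : l⁻¹ • m ∈ Θ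
      · rw [htau1 m hm, mul_inv_cancel]; exact one_mem _
      · rw [htau2 m hm, h.comm m e, mul_inv_cancel_right]; exact heI
    -- `Θ_e = Θ`
    have h1 : ∀ m, l⁻¹ • m ∈ Θ → m ∈ Θ := by
      intro m hm
      refine h.le_of_fix htauS (Θ' := Θ.comap (MulDistribMulAction.toMonoidHom M l⁻¹)) ?_ ?_ hm
      · exact fun m hm => htau1 m hm
      · refine ⟨l • k • r, ?_⟩
        rw [htau2 _ (by rwa [inv_smul_smul])]
        intro e1
        rw [mul_eq_left] at e1
        rw [e1] at hle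
        rw [smul_eq_iff_eq_inv_smul, smul_one] at hle
        exact h.r_ne hle
    have h2 : ∀ m, m ∈ Θ ↔ l⁻¹ • m ∈ Θ := by
      refine fun m => ⟨fun hm => ?_, h1 m⟩
      by_contra hn
      have h3 : l⁻¹ • (m * k • r) ∈ Θ := by
        rw [smul_mul', h.mul_mem_iff]
        exact iff_of_false hn fun e => hk (h1 _ e)
      have h4 := h1 _ h3
      rw [h.mul_mem_iff] at h4
      exact hk (h4.mp hm)
    -- `e = r`
    have h3 : e * r = 1 := by
      refine h.nondeg fun j => ?_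
      rw [smul_mul', h.mul_mem_iff, ← hle, symm l j, ← h2]
      have := symm j 1
      rwa [inv_one, one_smul, one_smul] at this
    rw [mul_eq_one_iff_eq_inv.mp h3, h.inv_eq r]
  have key2 : ∀ g : H, SS I g → k⁻¹ • (g • k • r * (k • r)) ∉ Θ → ∀ m : M, g • m = t • m := by
    intro g hg hgn
    have h1 := key g hg hgn
    have h2 : (t⁻¹ * g) • k • r = k • r := by
      have e1 : g • k • r = r * (k • r) := by
        calc g • k • r = g • k • r * (k • r) * (k • r) := by rw [mul_assoc, h.sq, mul_one]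
          _ = r * (k • r) := by rw [h1]
      rw [mul_smul, inv_smul_eq_iff, ht2 _ hk, e1, h.comm]
    have h3 := ht.inv.mul hg
    intro m
    have h4 := h.reg _ h3.1 h3.2 _ hk h2 m
    rwa [mul_smul, inv_smul_eq_iff] at h4
  have key3 : ∀ g : H, SS I g → (∀ m : M, g • m = m) ∨ ∀ m : M, g • m = t • m := by
    intro g hg
    by_cases hgn : k⁻¹ • (g • k • r * (k • r)) ∈ Θ
    · left
      have h1 : k⁻¹ • ((g * t) • k • r * (k • r)) ∉ Θ := by
        have e : (g * t) • k • r * (k • r) = (g • k • r * (k • r)) * r := by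
          rw [mul_smul, ht2 _ hk, smul_mul', hg.2 r h.r_mem, mul_assoc, mul_assoc, h.comm r]
        rw [e, smul_mul', h.mul_mem_iff]
        intro e1
        have e2 := e1.mp hgn
        have e3 := symm k 1
        rw [inv_one, one_smul, one_smul] at e3
        exact hk (e3.mpr e2)
      intro m
      have h2 := key2 _ (hg.mul ht) h1 (t⁻¹ • m)
      rwa [mul_smul, smul_inv_smul] at h2
    · exact Or.inr (key2 g hg hgn)
  rcases key3 g hg with h1 | h1
  · exact Or.inl h1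
  · right
    intro m
    rcases key3 x h.SSx with h2 | h2
    · obtain ⟨m', hm'⟩ := h.x_ne
      exact absurd (h2 m') hm'
    · rw [h1, h2]

end Trv

end Cfsg.Agent.Omega.NO3S.TwoMid.Beta

end

-- merged: Cfsg.Agent.Mrg.Omega.NO3S.TwoMid.Beta.Main
section

/-!
# NO-3S, `|V| = 4`, TwoMid-B: (NO) implies that (D)(β) is dead (helper711 #18281, helper786 #18608), the end

* `Bt.swap` (8): `x` induces a transvection on `M_a`, (D) holds for every `v ∈ W_a` which moves `x`;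
* `Bt.ss_eq` (9): `S_ra = W_x K_a`;
* `Bt.idx` (10): `|W_a : W_a ∩ W_r| = 2`;
* **`beta_dead`** (11): (NO), `(a, b)` critical with middle `r`, `x ~ b`, `f ∈ W_a` moves `x`, `W_x ∩ W_{x^f} ≤ W_b`:
  `[W_x, W_r] ≠ 1`.
-/

set_option autoImplicit false
set_option linter.unusedSectionVars false

namespace Cfsg.Agent.Omega.NO3S.TwoMid.Beta

open Subgroup Cfsg Cfsg.Agent.ZN Cfsg.Agent.MinSimple.Geo Cfsg.Agent.Omega.CaseL Cfsg.Agent.Omega.NO3S.TwoOne
  Cfsg.Agent.Omega.NO3S.Pt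
open Cfsg.Agent.Omega.NO3S.Dual (nn mem_nn DW mem_sup_of_comm)
open Cfsg.Agent.Omega.NO3S.TypeN (exists_conj_flag com_of_tyN)
open Cfsg.Agent.ZN.Block (conj_mem_of_normalizer conj_mem_of_normalizer' le_normalizer_of_forall
  mem_normalizer_of)

universe u

variable {G : Type u} [Group G] {T V : Subgroup G} {z : G} {a b f p q r u x : G}

/-- `C` acts on `W / Y` by conjugation -/
abbrev conjM {C W Y : Subgroup G} (hW : C ≤ normalizer (W : Set G)) (hY : C ≤ normalizer (Y : Set G))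
    [(Y.subgroupOf W).Normal] : MulDistribMulAction C (W ⧸ Y.subgroupOf W) :=
  let f : C → (W →* W) := fun g =>
    { toFun := fun x => ⟨(g : G) * x * (g : G)⁻¹, (mem_normalizer_iff.1 (hW g.2) x).1 x.2⟩
      map_one' := Subtype.ext (by simp)
      map_mul' := fun x y => Subtype.ext (by
        change (g : G) * ((x : G) * y) * (g : G)⁻¹ = (g : G) * x * (g : G)⁻¹ * ((g : G) * y * (g : G)⁻¹)
        group) }
  { smul := fun g => QuotientGroup.map (Y.subgroupOf W) (Y.subgroupOf W) (f g) fun x hx =>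
      (mem_normalizer_iff.1 (hY g.2) x).1 hx
    one_smul := by
      rintro ⟨x⟩
      refine congrArg (QuotientGroup.mk (s := Y.subgroupOf W)) (Subtype.ext ?_)
      change (1 : G) * (x : G) * (1 : G)⁻¹ = x
      group
    mul_smul := by
      rintro g k ⟨x⟩
      refine congrArg (QuotientGroup.mk (s := Y.subgroupOf W)) (Subtype.ext ?_)
      change ((g : G) * k) * (x : G) * ((g : G) * k)⁻¹ = (g : G) * ((k : G) * x * (k : G)⁻¹) * (g : G)⁻¹
      group
    smul_mul := fun g x y => map_mul (QuotientGroup.map _ _ (f g) _) x y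
    smul_one := fun g => map_one (QuotientGroup.map _ _ (f g) _) }

theorem mem_map_mk {W Y U : Subgroup G} (hYU : Y ≤ U) [(Y.subgroupOf W).Normal] (w : W) :
    QuotientGroup.mk' (Y.subgroupOf W) w ∈ (U.subgroupOf W).map (QuotientGroup.mk' (Y.subgroupOf W)) ↔
      (w : G) ∈ U := by
  constructor
  · rintro ⟨v, hv, hvw⟩
    have h1 : (v : G)⁻¹ * w ∈ Y := (QuotientGroup.eq (s := Y.subgroupOf W)).mp hvw
    have h2 := mul_mem (mem_subgroupOf.mp hv) (hYU h1)
    rwa [mul_inv_cancel_left] at h2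
  · exact fun hw => ⟨w, hw, rfl⟩

namespace Bt

variable [Finite G] (h : Bt T V z a r b x f)
include h

theorem inv_eq {w : G} (hw : w ∈ ws V a) : w⁻¹ = w := inv_eq_self (h.fr.ws_sq h.pr.left w hw)

/-- (8): `v, v' ∈ W_a` which move `x`: `v v'` commutes with `x` -/
theorem mul_comm_x {v v' : G} (hv : v ∈ ws V a) (hv' : v' ∈ ws V a) (hvx : v * x ≠ x * v) (hvx' : v' * x ≠ x * v') :
    v * v' * x = x * (v * v') := by
  obtain ⟨w₀, hw, hwk, hwf⟩ := h.exists_w
  have key : ∀ v ∈ ws V a, v * x ≠ x * v → w₀ * v * w₀⁻¹ = a * v := by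
    intro v hv hvx
    refine (h.fr.kq_cases' h.pr.left hwk hv).resolve_left fun e => hvx ?_
    exact h.eight hw hwk hwf hv (comm_of_conj_eq e)
  refine h.eight hw hwk hwf (mul_mem hv hv') (comm_of_conj_eq ?_)
  have haW : a ∈ ws V a := h.fr.mem_ws_self h.pr.left
  calc w₀ * (v * v') * w₀⁻¹ = (w₀ * v * w₀⁻¹) * (w₀ * v' * w₀⁻¹) := by group
    _ = (a * v) * (a * v') := by rw [key v hv hvx, key v' hv' hvx']
    _ = (v * a) * (a * v') := by rw [h.fr.ws_comm h.pr.left a haW v hv]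
    _ = v * (a * a) * v' := by group
    _ = v * v' := by rw [h.aa, mul_one]

theorem fx_ne : f * x ≠ x * f := fun e => h.xf (by rw [e, mul_inv_cancel_right])

/-- (8): `(D)` holds for all `v ∈ W_a` which move `x` -/
theorem swap {v : G} (hv : v ∈ ws V a) (hvx : v * x ≠ x * v) : Bt T V z a r b x v := by
  have h1 := h.mul_comm_x h.fm hv h.fx_ne hvx
  have e : v * x * v⁻¹ = f * x * f⁻¹ := by
    have hff : f * f = 1 := h.fr.ws_sq h.pr.left f h.fm
    have e1 : v = f * (f * v) := by rw [← mul_assoc, hff, one_mul]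
    calc v * x * v⁻¹ = f * (f * v) * x * (f * (f * v))⁻¹ := by rw [← e1]
      _ = f * ((f * v) * x * (f * v)⁻¹) * f⁻¹ := by group
      _ = f * x * f⁻¹ := by rw [h1, mul_inv_cancel_right]
  exact
    { h.toMid with
      bx := h.bx
      fm := hv
      xf := fun e' => hvx (comm_of_conj_eq e')
      D := by rw [e]; exact h.D
      com := h.com
      no := h.no }

/-- `W_x ≤ S` -/
theorem ws_le_ss : ws V x ≤ ss h.fr h.pr := by
  intro y hy
  refine ⟨h.xa y hy, fun w hw => h.six' hw hy, fun w hw => ?_⟩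
  rw [h.com y hy w hw.2, mul_inv_cancel_right, mul_inv_cancel]
  exact one_mem _

/-- (9) `S = W_x K_a` -/
theorem ss_le {g : G} (hg : Sg V a r g) : ∃ y ∈ ws V x, ∃ k ∈ kq V a, g = y * k := by
  set S := ss h.fr h.pr with hS
  have hno : NoOv V a S := h.no a r h.pr h.ne_pr S S (rad_ss h.fr h.pr) le_rfl fun g hg => sq_mem_kq h.fr h.pr hg
  have hno' : (S ⊓ kq V a).relIndex S ≤ (cmod V a S).relIndex (ws V a) := hno
  have hI : ws V a ⊓ ws V r ≤ cmod V a S := by
    intro w hw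
    rw [mem_cmod h.fr h.pr.left]
    exact ⟨hw.1, fun y hy => hy.2.2 w hw⟩
  have h1 : (cmod V a S).relIndex (ws V a) ≤ (ws V a ⊓ ws V r).relIndex (ws V a) :=
    Nat.le_of_dvd (Nat.pos_of_ne_zero index_ne_zero_of_finite) (relIndex_dvd_of_le_left _ hI)
  rw [← h.one.2.2.1, inf_relIndex_left] at h1
  rw [inf_relIndex_left] at hno'
  have hWS : ws V x ⊔ kq V a ≤ S := sup_le h.ws_le_ss (kq_le_ss h.fr h.pr)
  have h2 : (kq V a).relIndex (ws V x) ≤ (kq V a).relIndex (ws V x ⊔ kq V a) :=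
    relIndex_le_of_le_right le_sup_left index_ne_zero_of_finite
  have h3 := relIndex_mul_relIndex _ _ _ (le_sup_right : kq V a ≤ ws V x ⊔ kq V a) hWS
  have p1 : 0 < (kq V a).relIndex (ws V x ⊔ kq V a) := Nat.pos_of_ne_zero index_ne_zero_of_finite
  have h4 : (ws V x ⊔ kq V a).relIndex S = 1 := by
    have p2 : 0 < (ws V x ⊔ kq V a).relIndex S := Nat.pos_of_ne_zero index_ne_zero_of_finite
    have h5 : (kq V a).relIndex (ws V x ⊔ kq V a) * (ws V x ⊔ kq V a).relIndex S ≤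
        (kq V a).relIndex (ws V x ⊔ kq V a) * 1 := by
      rw [mul_one, h3]
      exact (hno'.trans h1).trans h2
    have := Nat.le_of_mul_le_mul_left h5 p1
    omega
  have h5 : g ∈ ws V x ⊔ kq V a := relIndex_eq_one.mp h4 hg
  have hn : ws V x ≤ normalizer ((kq V a : Subgroup G) : Set G) := fun y hy =>
    centralizer_le_normalizer_kq V a (mem_centralizer_singleton_iff.mpr (h.xa y hy))
  have h6 : g ∈ ((ws V x ⊔ kq V a : Subgroup G) : Set G) := h5
  rw [coe_mul_of_left_le_normalizer_right _ _ hn] at h6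
  obtain ⟨y, hy, k, hk, e⟩ := Set.mem_mul.mp h6
  exact ⟨y, hy, k, hk, e.symm⟩

/-- (9): vectors moved by `x` are regular for `S` -/
theorem regular {g v : G} (hg : Sg V a r g) (hv : v ∈ ws V a) (hvx : v * x ≠ x * v)
    (hgv : g * v * g⁻¹ * v⁻¹ ∈ zpowers a) : g ∈ kq V a := by
  obtain ⟨y, hy, k, hk, rfl⟩ := h.ss_le hg
  have h1 : y * v * y⁻¹ * v⁻¹ ∈ zpowers a := by
    have e : y * k * v * (y * k)⁻¹ * v⁻¹ = (y * (k * v * k⁻¹ * v⁻¹) * y⁻¹) * (y * v * y⁻¹ * v⁻¹) := by group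
    rw [e, TyN.zc (mem_centralizer_singleton_iff.mpr (h.xa y hy)) (kq_comm hk hv)] at hgv
    exact (Subgroup.mul_mem_cancel_left _ (kq_comm hk hv)).mp hgv
  exact mul_mem ((h.swap hv hvx).one.2.1 y hy h1) hk

theorem theta_idx : (ws V a ⊓ centralizer ({x} : Set G)).relIndex (ws V a) = 2 := by
  refine relIndex_eq_two_iff.mpr ⟨f, h.fm, fun v hv => ?_⟩
  by_cases hvx : v * x = x * v
  · refine Or.inr ⟨⟨hv, mem_centralizer_singleton_iff.mpr hvx⟩, fun h1 => h.fx_ne ?_⟩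
    have h2 := mem_centralizer_singleton_iff.mp h1.2
    have h3 := mul_comm_of (inv_comm_of hvx) h2
    rwa [inv_mul_cancel_left] at h3
  · exact Or.inl ⟨⟨mul_mem hv h.fm, mem_centralizer_singleton_iff.mpr (h.mul_comm_x hv h.fm hvx h.fx_ne)⟩,
      fun h1 => hvx (mem_centralizer_singleton_iff.mp h1.2)⟩

/-- **(10)** `|W_a : W_a ∩ W_r| = 2` -/
theorem idx : (ws V a ⊓ ws V r).relIndex (ws V a) = 2 := by
  obtain ⟨g, k, ha, hr, -, -, hf⟩ := h.flag
  set C := centralizer ({a} : Set G) with hC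
  set W := ws V a with hW
  set Y := zpowers a with hY
  have haW : a ∈ W := h.fr.mem_ws_self h.pr.left
  have hrW : r ∈ W := h.fr.mem_ws_of_col h.pr
  have har : a ∈ ws V r := h.fr.mem_ws_of_col h.pr.symm
  have hYW : Y ≤ W := zpowers_le.mpr haW
  have nW : C ≤ normalizer (W : Set G) := centralizer_le_normalizer_ws V a
  have nY : C ≤ normalizer (Y : Set G) := zpowers_norm le_rfl
  have hWC : W ≤ C := h.fr.ws_le_cent h.pr.left
  have hN : (Y.subgroupOf W).Normal := normal_subgroupOf_of_le_normalizer (hWC.trans nY)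
  let _ := conjM nW nY
  set M := W ⧸ Y.subgroupOf W with hM
  let mk : W →* M := QuotientGroup.mk' (Y.subgroupOf W)
  have hmk : Function.Surjective mk := QuotientGroup.mk'_surjective _
  have hsm : ∀ (g : C) (w : W) (hx : (g : G) * w * (g : G)⁻¹ ∈ W), g • mk w = mk ⟨(g : G) * w * (g : G)⁻¹, hx⟩ :=
    fun _ _ _ => rfl
  have hmem : ∀ (g : C) (w : W), (g : G) * w * (g : G)⁻¹ ∈ W := fun g w =>
    (mem_normalizer_iff.1 (nW g.2) w).1 w.2
  have hone : ∀ v w : W, mk v = mk w ↔ (v : G) * (w : G)⁻¹ ∈ Y := by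
    intro v w
    rw [← mul_inv_eq_one, ← map_inv, ← map_mul, ← MonoidHom.mem_ker, QuotientGroup.ker_mk']
    exact Iff.rfl
  have hfix : ∀ (g : C) (w : W), g • mk w = mk w ↔ (g : G) * w * (g : G)⁻¹ * (w : G)⁻¹ ∈ Y := by
    intro g w
    rw [hsm g w (hmem g w), hone]
  have hcm : ∀ (g : C) (w : W), (g • mk w) * (mk w)⁻¹ =
      mk ⟨(g : G) * w * (g : G)⁻¹ * (w : G)⁻¹, W.mul_mem (hmem g w) (W.inv_mem w.2)⟩ := by
    intro g w
    rw [hsm g w (hmem g w), ← map_inv, ← map_mul]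
    rfl
  -- the subgroups
  set I' : Subgroup M := ((W ⊓ ws V r).subgroupOf W).map mk with hI'
  set Θ' : Subgroup M := ((W ⊓ C ⊓ centralizer ({x} : Set G)).subgroupOf W).map mk with hΘ'
  have hYI : Y ≤ W ⊓ ws V r := zpowers_le.mpr ⟨haW, har⟩
  have hax : a ∈ centralizer ({x} : Set G) := mem_centralizer_singleton_iff.mpr
    (h.xa x (h.fr.mem_ws_self h.bx.right)).symm
  have hYΘ : Y ≤ W ⊓ C ⊓ centralizer ({x} : Set G) := zpowers_le.mpr ⟨⟨haW, hWC haW⟩, hax⟩
  have memI : ∀ w : W, mk w ∈ I' ↔ (w : G) ∈ W ⊓ ws V r := mem_map_mk hYI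
  have memΘ : ∀ w : W, mk w ∈ Θ' ↔ (w : G) * x = x * w := by
    intro w
    rw [show mk w ∈ Θ' ↔ (w : G) ∈ W ⊓ C ⊓ centralizer ({x} : Set G) from mem_map_mk hYΘ w, mem_inf,
      mem_centralizer_singleton_iff]
    exact ⟨fun h => h.2, fun e => ⟨⟨w.2, hWC w.2⟩, e⟩⟩
  have hxC : x ∈ C := mem_centralizer_singleton_iff.mpr (h.xa x (h.fr.mem_ws_self h.bx.right))
  have hxS := h.ws_le_ss (h.fr.mem_ws_self h.bx.right)
  have hkT : cj k T ≤ C := hf.ln.T_le
  have hr1 : r ≠ 1 := h.pr.symm.ne_one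
  -- the lemma
  have key : Trv C M (mk ⟨r, hrW⟩) ((cj k T).subgroupOf C) I' Θ' ⟨x, hxC⟩ := by
    refine ⟨?_, ?_, ?_, ?_, ?_, ?_, ?_, ?_, ?_, ?_, ?_, ?_, ?_, ?_⟩
    · intro v w
      obtain ⟨v, rfl⟩ := hmk v
      obtain ⟨w, rfl⟩ := hmk w
      rw [← map_mul, ← map_mul]
      exact congrArg mk (Subtype.ext (h.fr.ws_comm h.pr.left v v.2 w w.2))
    · intro v
      obtain ⟨v, rfl⟩ := hmk v
      rw [← map_mul, ← map_one mk]
      exact congrArg mk (Subtype.ext (h.fr.ws_sq h.pr.left v v.2))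
    · exact hf.ln.two.comap_of_injective _ C.subtype_injective
    · intro t ht
      rw [hfix]
      have htC : (t : G) * a = a * t := mem_centralizer_singleton_iff.mp t.2
      rcases hf.ln.conj_cases ha hr h.pr.ne_one htC (hf.ln.T_norm ht) with e | e
      · change (t : G) * r * (t : G)⁻¹ * r⁻¹ ∈ Y
        rw [e, mul_inv_cancel]
        exact one_mem _
      · change (t : G) * r * (t : G)⁻¹ * r⁻¹ ∈ Y
        rw [e, mul_inv_cancel_right]
        exact mem_zpowers a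
    · intro m hm
      obtain ⟨w, rfl⟩ := hmk m
      have h1 := h.fix ha hr hf w.2 fun t ht => (hfix ⟨t, hkT ht⟩ w).mp (hm ⟨t, hkT ht⟩ ht)
      rcases hf.ln.four ha hr h.pr.ne_one hr1 h.ne_pr h1 with e | e | e | e
      · left
        rw [← map_one mk, hone, e]
        simp
      · left
        rw [← map_one mk, hone, e]
        change a * (1 : G)⁻¹ ∈ Y
        rw [inv_one, mul_one]
        exact mem_zpowers a
      · right
        rw [hone, e, mul_inv_cancel]
        exact one_mem _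
      · right
        rw [hone, e, mul_inv_cancel_right]
        exact mem_zpowers a
    · rw [eq_top_iff]
      intro m _
      obtain ⟨w, rfl⟩ := hmk m
      -- the subgroup of the elements of `W_a` whose image lies in the span
      set U : Subgroup G := ((closure (Set.range fun h : C => h • mk ⟨r, hrW⟩)).comap mk).map W.subtype with hU
      have hUmem : ∀ w : W, (w : G) ∈ U ↔ mk w ∈ closure (Set.range fun h : C => h • mk ⟨r, hrW⟩) := by
        intro w
        constructor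
        · rintro ⟨y, hy, hyx⟩
          rw [← (Subtype.ext hyx : y = w)]
          exact hy
        · exact fun hx => ⟨w, hx, rfl⟩
      have h1 : W ≤ U := by
        refine ws_le fun L hL v hv => ?_
        by_cases hv1 : v = 1
        · rw [hv1]; exact one_mem _
        obtain ⟨⟨c, rfl⟩, hca⟩ := hL
        have hcol : Col V a v := ⟨c, hca, hv, h.pr.ne_one, hv1⟩
        have hvW : v ∈ W := h.fr.mem_ws_of_col hcol
        by_cases hva : v = a
        · refine (hUmem ⟨v, hvW⟩).mpr ?_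
          have e : mk ⟨v, hvW⟩ = 1 := by
            rw [← map_one mk, hone]
            change v * (1 : G)⁻¹ ∈ Y
            rw [inv_one, mul_one, hva]
            exact mem_zpowers a
          rw [e]
          exact one_mem _
        · obtain ⟨c, hc1, hc2⟩ := exists_conj_flag h.fr h.pr (Ne.symm h.ne_pr) hcol hva
          have hcC : c ∈ C := mem_centralizer_singleton_iff.mpr (comm_of_conj_eq hc1)
          refine (hUmem ⟨v, hvW⟩).mpr (subset_closure ⟨⟨c, hcC⟩, ?_⟩)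
          change (⟨c, hcC⟩ : C) • mk ⟨r, hrW⟩ = _
          rw [hsm ⟨c, hcC⟩ ⟨r, hrW⟩ (hmem ⟨c, hcC⟩ ⟨r, hrW⟩)]
          exact congrArg mk (Subtype.ext hc2)
      exact (hUmem w).mp (h1 w.2)
    · intro g hg m hm
      obtain ⟨w, rfl⟩ := hmk m
      rw [hfix] at hg
      change (g : G) * r * (g : G)⁻¹ * r⁻¹ ∈ Y at hg
      rw [memI] at hm
      rw [hsm g w (hmem g w), memI]
      have hga : (g : G) * a = a * g := mem_centralizer_singleton_iff.mp g.2
      have h1 : (g : G) * w * (g : G)⁻¹ ∈ ws V a ⊓ ws V ((g : G) * r * (g : G)⁻¹) :=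
        ⟨hmem g w, conj_mem_ws (g : G) hm.2⟩
      rcases (mem_zpowers_iff_of_mul_self h.aa).mp hg with e | e
      · rw [mul_inv_eq_one] at e
        rwa [e] at h1
      · have e' : (g : G) * r * (g : G)⁻¹ = a * r := by
          calc (g : G) * r * (g : G)⁻¹ = ((g : G) * r * (g : G)⁻¹ * r⁻¹) * r := by group
            _ = a * r := by rw [e]
        rw [e'] at h1
        refine ⟨h1.1, ?_⟩
        have h2 : a * r ≠ a := fun e => hr1 (by simpa using e)
        have h3 : a * r ≠ 1 := hf.mul_ne_one hr h.ne_pr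
        have h4 := (mem_ii_iff h.fr ha (mul_mem ha hr) h.pr.ne_one h3 (Ne.symm h2)).mp h1
        exact ((mem_ii_iff h.fr ha hr h.pr.ne_one hr1 h.ne_pr).mpr h4).2
    · rw [memI]
      exact ⟨hrW, h.fr.mem_ws_self h.pr.right⟩
    · intro m hm
      obtain ⟨w, rfl⟩ := hmk m
      rw [memI] at hm
      rw [memΘ]
      exact (h.com x (h.fr.mem_ws_self h.bx.right) w hm.2).symm
    · rw [hΘ', index_map_eq _ hmk]
      · change (W ⊓ C ⊓ centralizer ({x} : Set G)).relIndex W = 2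
        rw [inf_eq_left.mpr hWC]
        exact h.theta_idx
      · intro w hw
        rw [QuotientGroup.ker_mk'] at hw
        exact hYΘ hw
    · intro g hg1 hg2 v hv hgv m
      obtain ⟨v, rfl⟩ := hmk v
      rw [memΘ] at hv
      rw [hfix] at hgv
      have hga : (g : G) * a = a * g := mem_centralizer_singleton_iff.mp g.2
      have hgS : Sg V a r g := by
        refine ⟨hga, fun w hw => ?_, fun w hw => ?_⟩
        · have h1 := hg1 (mk ⟨w, hw⟩)
          rw [hcm, memI] at h1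
          exact h1
        · have h1 := hg2 (mk ⟨w, hw.1⟩) ((memI ⟨w, hw.1⟩).mpr hw)
          rw [hfix] at h1
          exact h1
      have h1 := h.regular hgS v.2 hv hgv
      obtain ⟨w, rfl⟩ := hmk m
      rw [hfix]
      exact kq_comm h1 w.2
    · refine ⟨mk ⟨f, h.fm⟩, fun e => ?_⟩
      rw [hfix] at e
      change x * f * x⁻¹ * f⁻¹ ∈ Y at e
      have h1 := h.one.2.1 x (h.fr.mem_ws_self h.bx.right) e
      have h2 := (mem_centralizer_iff.mp (h.cent_of_kq h.x_mem_b h1)) f h.fm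
      exact h.fx_ne h2
    · intro m
      obtain ⟨w, rfl⟩ := hmk m
      rw [hcm, memI]
      exact hxS.2.1 w w.2
    · intro m hm
      obtain ⟨w, rfl⟩ := hmk m
      rw [memΘ] at hm
      rw [hfix]
      change x * w * x⁻¹ * (w : G)⁻¹ ∈ Y
      rw [← hm, mul_inv_cancel_right, mul_inv_cancel]
      exact one_mem _
  -- every element of `W_x` lies in `K_a ∪ x K_a`
  have h1 : ∀ y ∈ ws V x, y ∈ kq V a ∨ y * x⁻¹ ∈ kq V a := by
    intro y hy
    have hyC : y ∈ C := mem_centralizer_singleton_iff.mpr (h.xa y hy)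
    have hyS := h.ws_le_ss hy
    have hyS' : Trv.SS I' (⟨y, hyC⟩ : C) := by
      refine ⟨fun m => ?_, fun m hm => ?_⟩
      · obtain ⟨w, rfl⟩ := hmk m
        rw [hcm, memI]
        exact hyS.2.1 w w.2
      · obtain ⟨w, rfl⟩ := hmk m
        rw [memI] at hm
        rw [hfix]
        exact hyS.2.2 w hm
    rcases key.main _ hyS' with e | e
    · left
      refine mem_kq_of h.fr h.pr.left (h.xa y hy) fun w hw => ?_
      exact (hfix ⟨y, hyC⟩ ⟨w, hw⟩).mp (e _)
    · right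
      have hxx : x⁻¹ * a = a * x⁻¹ := inv_comm_of (h.xa x (h.fr.mem_ws_self h.bx.right))
      refine mem_kq_of h.fr h.pr.left (mul_comm_of (h.xa y hy) hxx) fun w hw => ?_
      have h2 : (⟨y, hyC⟩ * (⟨x, hxC⟩ : C)⁻¹ : C) • mk ⟨w, hw⟩ = mk ⟨w, hw⟩ := by
        rw [mul_smul, e, smul_inv_smul]
      exact (hfix _ ⟨w, hw⟩).mp h2
  rw [← h.one.2.2.1]
  have hxW : x ∈ ws V x := h.fr.mem_ws_self h.bx.right
  have hxK : x ∉ kq V a := by
    intro e
    exact h.fx_ne ((mem_centralizer_iff.mp (h.cent_of_kq h.x_mem_b e)) f h.fm)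
  have hxi : x⁻¹ = x := inv_eq_self (h.fr.pt_sq h.bx.right)
  refine relIndex_eq_two_iff.mpr ⟨x, hxW, fun y hy => ?_⟩
  rcases h1 y hy with e | e
  · refine Or.inr ⟨⟨hy, e⟩, fun h2 => hxK ?_⟩
    have := mul_mem (inv_mem e) h2.2
    rwa [inv_mul_cancel_left] at this
  · rw [hxi] at e
    refine Or.inl ⟨⟨mul_mem hy hxW, e⟩, fun h2 => hxK ?_⟩
    have := mul_mem (inv_mem (mem_inf.mp h2).2) e
    rwa [inv_mul_cancel_left] at this

end Bt

/-- (11) `|W_p : W_p ∩ W_q| = 2` implies TYPE N -/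
theorem tyN_of_idx [Finite G] (h : Two T V z) (nb : NB V)
    (hi : ∀ p q : G, Col V p q → p ≠ q → (ws V p ⊓ ws V q).relIndex (ws V p) = 2) : TyN T V z := by
  refine { h with n := ?_ }
  intro p m q hpm hmq y hy w hw
  by_cases hcom : Com V p q
  · rw [hcom y hy w hw, mul_inv_cancel_right, mul_inv_cancel]
    exact one_mem _
  have hM : Mid T V z p m q := { h with pr := hpm, rq := hmq, ne := hcom }
  -- products of elements outside `W_m`
  have hP : ∀ {p q : G}, Mid T V z p m q → ∀ y ∈ ws V p, ∀ y' ∈ ws V p, y ∉ ws V m → y' ∉ ws V m →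
      y * y' ∈ ws V m := by
    intro p q hM y hy y' hy' hn hn'
    obtain ⟨s, hs, hs2⟩ := relIndex_eq_two_iff.mp (hi p m hM.pr hM.ne_pr)
    have h1 := hs2 y hy
    have h2 := hs2 y'⁻¹ (inv_mem hy')
    rcases h1 with ⟨h1, -⟩ | ⟨h1, -⟩
    · rcases h2 with ⟨h2, -⟩ | ⟨h2, -⟩
      · have h3 := mul_mem (mem_inf.mp h1).2 (inv_mem (mem_inf.mp h2).2)
        have e : y * s * (y'⁻¹ * s)⁻¹ = y * y' := by group
        rwa [e] at h3
      · exact absurd ((inv_mem_iff (H := ws V m)).mp (mem_inf.mp h2).2) hn'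
    · exact absurd (mem_inf.mp h1).2 hn
  have hc1 : ∀ y ∈ ws V m, ∀ w ∈ ws V q, y * w = w * y := fun y hy w hw => h.com hM.rq y hy w hw
  have hc2 : ∀ y ∈ ws V p, ∀ w ∈ ws V m, y * w = w * y := fun y hy w hw => h.com hM.pr y hy w hw
  have hin : rr V p q ≤ ws V m := by
    refine (closure_le _).mpr ?_
    rintro _ ⟨y, hy, w, hw, rfl⟩
    by_contra hn
    have hd := mem_inf.mp (hM.comm_mem hy hw)
    have hyn : y ∉ ws V m := by
      intro e
      apply hn
      change y * w * y⁻¹ * w⁻¹ ∈ ws V m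
      rw [hc1 y e w hw, mul_inv_cancel_right, mul_inv_cancel]
      exact one_mem _
    have h1 := hP hM _ hd.1 y hy hn hyn
    have h2 := hc1 _ h1 w hw
    have h3 := h.fr.ws_comm hmq.right _ hd.2 w hw
    have h4 : y * w = w * y := by
      have h5 := mul_comm_of (inv_comm_of h3) h2
      rwa [inv_mul_cancel_left] at h5
    apply hn
    change y * w * y⁻¹ * w⁻¹ ∈ ws V m
    rw [h4, mul_inv_cancel_right, mul_inv_cancel]
    exact one_mem _
  have hmem := hM.mem_of_inner nb hin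
  -- all nontrivial commutators are equal
  have heq : ∀ y ∈ ws V p, ∀ w ∈ ws V q, ∀ y' ∈ ws V p, ∀ w' ∈ ws V q, y * w ≠ w * y → y' * w' ≠ w' * y' →
      y * w * y⁻¹ * w⁻¹ = y' * w' * y'⁻¹ * w'⁻¹ := by
    intro y hy w hw y' hy' w' hw' hne hne'
    have h1 := hP hM y⁻¹ (inv_mem hy) y' hy' (fun e => hne (hc1 y ((inv_mem_iff (H := ws V m)).mp e) w hw))
      (fun e => hne' (hc1 y' e w' hw'))
    have h2 := hP hM.symm w⁻¹ (inv_mem hw) w' hw' (fun e => hne (hc2 y hy w ((inv_mem_iff (H := ws V m)).mp e)))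
      (fun e => hne' (hc2 y' hy' w' e))
    have e1 : y' = y * (y⁻¹ * y') := by group
    have e2 : w' = w * (w⁻¹ * w') := by group
    set i := y⁻¹ * y' with hi'
    set j := w⁻¹ * w' with hj'
    have a1 : i * w' = w' * i := hc1 i h1 w' hw'
    have a2 : j * y⁻¹ = y⁻¹ * j := (hc2 _ (inv_mem hy) j h2).symm
    have a3 : i * w' * i⁻¹ = w' := by rw [a1, mul_inv_cancel_right]
    have a4 : j * y⁻¹ * j⁻¹ = y⁻¹ := by rw [a2, mul_inv_cancel_right]
    symm
    calc y' * w' * y'⁻¹ * w'⁻¹ = y * (i * w' * i⁻¹) * y⁻¹ * w'⁻¹ := by rw [e1]; group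
      _ = y * (w * j) * y⁻¹ * (w * j)⁻¹ := by rw [a3, e2]
      _ = y * w * (j * y⁻¹ * j⁻¹) * w⁻¹ := by group
      _ = y * w * y⁻¹ * w⁻¹ := by rw [a4]
  by_cases hyw : y * w = w * y
  · rw [hyw, mul_inv_cancel_right, mul_inv_cancel]
    exact one_mem _
  set d := y * w * y⁻¹ * w⁻¹ with hd
  have hdd : d * d = 1 := h.fr.ws_sq hpm.left d (mem_inf.mp (hM.comm_mem hy hw)).1
  have hle : rr V p q ≤ zpowers d := by
    refine (closure_le _).mpr ?_
    rintro _ ⟨y', hy', w', hw', rfl⟩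
    change y' * w' * y'⁻¹ * w'⁻¹ ∈ zpowers d
    by_cases hyw' : y' * w' = w' * y'
    · rw [hyw', mul_inv_cancel_right, mul_inv_cancel]
      exact one_mem _
    · rw [← heq y hy w hw y' hy' w' hw' hyw hyw']
      exact mem_zpowers d
  rcases (mem_zpowers_iff_of_mul_self hdd).mp (hle hmem) with e | e
  · exact absurd e hmq.ne_one
  · rw [e]
    exact mem_zpowers d

/-- **(NO) implies that (D)(β) is dead** (helper711 #18281) -/
theorem beta_dead [Finite G] (hNO : NO V) (h : Mid T V z a r b) (hbx : Col V b x) (hf : f ∈ ws V a)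
    (hxf : f * x * f⁻¹ ≠ x) (hD : ws V x ⊓ ws V (f * x * f⁻¹) ≤ ws V b) : ¬ Com V x r := by
  intro hcom
  have hB : Bt T V z a r b x f := { h with bx := hbx, fm := hf, xf := hxf, D := hD, com := hcom, no := hNO }
  have h1 : ∀ p q : G, Col V p q → p ≠ q → (ws V p ⊓ ws V q).relIndex (ws V p) = 2 := by
    intro p q hpq hne
    have h2 := relIndex_const h.fr hpq.symm hne h.pr.symm h.ne_pr
    rw [inf_comm (ws V q), inf_comm (ws V r)] at h2
    rw [h2]
    exact hB.idx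
  exact h.ne (com_of_tyN (tyN_of_idx h.toTwo hB.nb h1) h.pr h.rq)

end Cfsg.Agent.Omega.NO3S.TwoMid.Beta

end

-- merged: Cfsg.Agent.Mrg.Omega.NO3S.TwoMid.Beta.Plug
section

/-!
# NO-3S, `|V| = 4`, TwoMid-B: (D)(β) is dead, in the form of `TwoMid/Opp.lean` (`DT`)

* `no_of_nom`, `nom_of_no` : `Beta.NO V` is `NOm V`;
* `beta` : the hypothesis `beta` of `DT.false`.
-/

set_option autoImplicit false

namespace Cfsg.Agent.Omega.NO3S.TwoMid.Beta

open Subgroup Cfsg.Agent.Omega.NO3S.Pt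

universe u

variable {G : Type u} [Group G] {T V : Subgroup G} {z : G}

theorem no_of_nom (h : NOm V) : NO V := fun a r har hne _ A hR hA hsq =>
  h a r har hne A ⟨_, hA, hR.le, hR.nrm, hR.fix, hR.two⟩ hsq

theorem nom_of_no (h : NO V) : NOm V := by
  rintro b r hbr hne X ⟨N, hX, h1, h2, h3, h4⟩ hsq
  exact h b r hbr hne N X ⟨h1, h4, h3, h2⟩ hX hsq

variable [Finite G]

/-- **(D)(β) is dead**, for `DT.false` -/
theorem beta (hNO : NOm V) : ∀ a r b x f, DT T V z a r b x f → ¬ Com V x r := fun _ _ _ _ _ hD =>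
  beta_dead (no_of_nom hNO) hD.mid hD.col hD.mem hD.ne hD.le

/-- `N_p = ⟨p⟩` for all points, if some (D)-triple has `[W_x, W_r] = 1` -/
theorem nb_of_beta (hNO : NOm V) {a r b x f : G} (hD : DT T V z a r b x f) (hcom : Com V x r) : NB V :=
  Bt.nb { hD.mid with bx := hD.col, fm := hD.mem, xf := hD.ne, D := hD.le, com := hcom, no := no_of_nom hNO }

end Cfsg.Agent.Omega.NO3S.TwoMid.Beta

end

-- merged: Cfsg.Agent.Mrg.Omega.NO3S.TwoMid.Final
section

section


/-!
# NO-3S, `TwoMid`: the node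

* `NPp K` : **(NP)** `N_p = ⟨p⟩` for all points, for a critical pair at distance 2;
* `twoMid_of` : the socket `TwoMid K` of `Node/NO3S.lean` from (ML), (F1), (NP).
-/

set_option autoImplicit false

namespace Cfsg.Agent.Omega.NO3S.TwoMid

open Subgroup Cfsg Cfsg.Agent.ZN Cfsg.Agent.MinSimple.Geo Cfsg.Agent.Omega.CaseL Cfsg.Agent.Omega.NO3S.TwoOne
  Cfsg.Agent.Omega.NO3S.Pt Cfsg.Agent.Omega.Frame
open Cfsg.Agent.Omega.NOThree.TF (md_MM)
open Cfsg.Agent.Omega.NOThree.LL (noHP_of)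
open Cfsg.Agent.Omega.ML.Final (MLK)

universe u

/-- **(NP)** for `TwoMid` -/
def NPp (K : Cls.{u}) : Prop :=
  ∀ (G : Type u) [Group G] [Finite G], K G → ∀ (S : Sylow 2 G) (P : Subgroup G), Hyp S P →
    Nat.card (zl (S : Subgroup G) P) = 4 → ∀ (z : G) (a r b : G),
      Mid (S : Subgroup G) (zl (S : Subgroup G) P) z a r b → NB (zl (S : Subgroup G) P) ∨ IsKnownSimple' G

/-- `C(p)` is a K-group -/
theorem kgroup_cent {G : Type u} [Group G] [Finite G] (hG : Ctx G) {p : G} (hp : p ≠ 1) :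
    IsKGroup (centralizer ({p} : Set G)) := by
  refine hG.kproper _ fun e => ?_
  have hs := hG.simple
  have h1 : p ∈ center G := by
    rw [mem_center_iff]
    intro g
    have : g ∈ centralizer ({p} : Set G) := by rw [e]; exact mem_top g
    exact mem_centralizer_singleton_iff.mp this
  rcases hs.eq_bot_or_eq_top_of_normal (center G) inferInstance with h2 | h2
  · rw [h2, mem_bot] at h1
    exact hp h1
  · apply hG.nonComm
    refine ⟨⟨fun a b => ?_⟩⟩
    have : a ∈ center G := by rw [h2]; exact mem_top a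
    exact (mem_center_iff.mp this b).symm

/-- **no critical pair at distance 2**, `N_b = ⟨b⟩` -/
theorem Mid.false_nb {G : Type u} [Group G] [Finite G] {T V : Subgroup G} {z a r b : G} (h : Mid T V z a r b)
    (hML : MLK.{u, u}) (hK : ∀ p : G, Col V p p → IsKGroup (centralizer ({p} : Set G))) (nb : NB V) :
    False := by
  have no := nom_of_mlk hML h.fr hK
  have hM : Inn.Grp.NoM V := fun p hp => noHP_of hML h.fr (hK p hp) (md_MM h.fr hp)
  exact h.false_nb_of no nb (Beta.beta no) fun _ _ _ h' hr => Inn.FiveBeg.inn h' hM hr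

/-- **`TwoMid`** -/
theorem twoMid_of {K : Cls.{u}} (hML : MLK.{u, u}) (hF : FOneP K) (hNP : NPp K) : NO3S.TwoMid K := by
  intro G _ _ hK S P h hc y hy
  obtain ⟨z, hz1⟩ := Subgroup.ne_bot_iff_exists_ne_one.1
    (MinSimple.Basic.zc_ne_bot S.isPGroup' (h.ctx.sylow_ne_bot S))
  have hz1' : (z : G) ≠ 1 := fun e => hz1 (Subtype.ext e)
  rcases hF G hK S P h hc z z.2 hz1' with hf | hk
  · have hfr := fr_four h hc z.2 hz1' hf
    obtain ⟨r, hm⟩ := Mid.of_cr hfr (cr_of_crit h hc z.2 hz1' hfr hy)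
    rcases hNP G hK S P h hc _ _ _ _ hm with nb | hk
    · exact (hm.false_nb hML (fun p hp => kgroup_cent h.ctx hp.ne_one) nb).elim
    · exact hk
  · exact hk

end Cfsg.Agent.Omega.NO3S.TwoMid

end

section


/-!
# NO-3S, `|V| = 4`, critical distance 2 (TwoMid): no inner pair, `N_b` arbitrary

The end of `TwoMid/Opp.lean` (bb #18799 (6)-(8), #18802) without `N_b = ⟨b⟩`: if LEMMA D fails for the opposite point
`x = r^s`, then `s c ∈ ⟨s λ, c⟩ + N̄_b`; `u^s` and `N_b ∩ W_r = ⟨b⟩` give a contradiction.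

* `TrW.oppN`, `Mid.false_of_innerN` : no inner pair `(a, b)` with `D_ab ≰ ⟨r⟩`;
* `Mid.bad_of`, `Mid.bad` : (D) fails for all `(f, h)`, `f ∈ W_a`, `h` inverted by `f`; `noD_two` : the same over `Cr V 2`.
-/

set_option autoImplicit false
set_option linter.unusedSectionVars false

namespace Cfsg.Agent.Omega.NO3S.TwoMid

open Subgroup Cfsg Cfsg.Agent.ZN Cfsg.Agent.MinSimple.Geo Cfsg.Agent.Omega.CaseL Cfsg.Agent.Omega.NO3S.TwoOne
  Cfsg.Agent.Omega.NO3S.Pt
open Cfsg.Agent.Omega.NO3S.TypeN (exists_conj_flag)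
open Cfsg.Agent.Omega.NO3S.Dual (nn mem_nn DW mem_sup_of_comm)
open Cfsg.Agent.ZN.Block (conj_mem_of_normalizer conj_mem_of_normalizer' le_normalizer_of_forall
  mem_normalizer_of)
open Cfsg.Agent.Omega.NOThree
open Cfsg.Agent.Omega.NOThree.TF (Md MM pim md_MM)
open Cfsg.Agent.Omega.NOThree.LL (BD Tr bd_of_tr finite_Md exists_nb span_pt pt_conj noHP_of)
open Cfsg.Agent.Omega.ML.Final (MLK)

universe u

variable {G : Type u} [Group G] {T V : Subgroup G} {z : G} {a b c r x : G}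

section

variable [Finite G]

/-- (D1) `N_p ∩ W_q ≤ ⟨p⟩` for collinear `p ≠ q` -/
theorem nn_inf_le (h : Fr T V z) {p q : G} (hpq : Col V p q) (hne : p ≠ q) :
    nn (ws V p) (kq V p) ⊓ ws V q ≤ zpowers p := by
  obtain ⟨g, hp, hq, hp1, hq1⟩ := hpq
  obtain ⟨k, -, -, hf⟩ := h.flag hp hp1
  have h1 := hf.toFlag.nn_inf hp hp1 hq hq1 (Ne.symm hne)
  rw [ws_cj, kq_cj, ws_cj] at h1
  exact h1.le

/-- **the opposite point**, `N_b` arbitrary -/
theorem TrW.oppN {u : G} (hm : Mid T V z a r b) (hin : rr V a b ≤ ws V r) (t : TrW V a b c u)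
    (hc : NP b r c) :
    ∃ x, DT T V z a r b x u ∧ Com V x r := by
  have h := hm.fr
  have md := md_MM h hm.rq.right
  have hfin := finite_Md md
  obtain ⟨g, hr, hb, hr1, hb1⟩ := id hm.rq
  obtain ⟨U, hU⟩ := md.exists_U h hb hb1
  have bd := t.bd hm hin md hc hb hr hU
  have hrW : r ∈ ws V b := h.mem_ws_of_col hm.rq.symm
  have hcW : c ∈ ws V b := (hm.rr_le t.c_mem).2
  have hcr : c ∈ ws V r := hin t.c_mem
  set π := pim V b with hπ
  have hs : ∀ m : MM V b, m + m = 0 := md.two h hm.rq.right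
  have hl0 : π r ≠ 0 := by
    intro e
    rcases (md.ker r hrW).1 e with e | e
    · exact hr1 e
    · exact hm.ne_rq e
  have hc0 : π c ≠ 0 := π_c_ne hm md t
  have hcl : π r ≠ π c := by
    have := bd.cl 1
    rwa [one_smul] at this
  obtain ⟨s, s1, s3, s4⟩ := bd.opp (t.tr hm md)
  have hsb : (s : G) * b * (s : G)⁻¹ = b := conj_eq_of_comm (mem_centralizer_singleton_iff.mp s.2)
  -- `x = r^s`
  obtain ⟨x, hxdef⟩ : ∃ x : G, x = (s : G) * r * (s : G)⁻¹ := ⟨_, rfl⟩
  have hxW : x ∈ ws V b := by rw [hxdef]; exact TF.conj_mem_ws_of_mem s.2 hrW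
  have hπx : π x = s • π r := by rw [hxdef]; exact md.smul s r hrW
  have hbx : Col V b x := by
    have := hm.rq.symm.conj (s : G)
    rwa [hsb, ← hxdef] at this
  have hμ0 : s • π r ≠ 0 := by rwa [Ne, smul_eq_zero_iff_eq]
  have hxb : x ≠ b := by
    intro e
    apply hμ0
    rw [← hπx, e]
    exact md.map_p h hm.rq.right
  -- `x' = x^u`
  obtain ⟨x', hx'def⟩ : ∃ x' : G, x' = u * x * u⁻¹ := ⟨_, rfl⟩
  have hub : u ∈ centralizer ({b} : Set G) := t.cent hm
  have hx'W : x' ∈ ws V b := by rw [hx'def]; exact TF.conj_mem_ws_of_mem hub hxW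
  have hπx' : π x' = s • π r + π c := by
    have h6 := md.smul ⟨u, hub⟩ x hxW
    change π (u * x * u⁻¹) = _ at h6
    rw [hx'def, h6, hπx, s1]
  have hbx' : Col V b x' := by
    have := hbx.conj u
    rwa [conj_eq_of_comm (mem_centralizer_singleton_iff.mp hub), ← hx'def] at this
  have hxx' : x' ≠ x := by
    intro e
    apply hc0
    have : s • π r + π c = s • π r := by rw [← hπx', ← hπx, e]
    exact add_eq_left.mp this
  have hx'b : x' ≠ b := by
    intro e
    have e1 : s • π r + π c = 0 := by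
      rw [← hπx', e]
      exact md.map_p h hm.rq.right
    have e2 : s • π r = π c := by
      rw [← md.neg_eq h hm.rq.right (π c)]
      exact eq_neg_of_add_eq_zero_left e1
    exact hc0 (s4 _ (Or.inr (Or.inl rfl)) (Or.inr (Or.inr (Or.inr e2.symm))))
  -- LEMMA D
  have hD : ws V x ⊓ ws V x' ≤ ws V b := by
    rcases h.lemD hbx hbx' hxb hx'b with hD | hD
    · exact hD
    exfalso
    have hg : (s : G) * u * (s : G)⁻¹ ∈ centralizer (ws V x : Set G) := by
      have h1 : u ∈ centralizer (ws V r : Set G) := hm.toTwo.ws_le_cent hm.pr t.mem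
      rw [mem_centralizer_iff]
      intro w hw
      have hw' : (s : G)⁻¹ * w * (s : G) ∈ ws V r := by
        have h2 : w ∈ cj (s : G) (ws V r) := by rwa [cj_ws, ← hxdef]
        exact mem_cj.mp h2
      have h3 := mem_centralizer_iff.mp h1 _ hw'
      calc w * ((s : G) * u * (s : G)⁻¹) = (s : G) * (((s : G)⁻¹ * w * (s : G)) * u) * (s : G)⁻¹ := by group
        _ = (s : G) * (u * ((s : G)⁻¹ * w * (s : G))) * (s : G)⁻¹ := by rw [h3]
        _ = _ := by group
    have h1 := (hD _ (mem_sup_left hg)).2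
    have h2 : π ((s : G) * u * (s : G)⁻¹ * x' * ((s : G) * u * (s : G)⁻¹)⁻¹) =
        s • π r + π c + s • π c := by
      have h3 := md.smul (s * ⟨u, hub⟩ * s⁻¹) x' hx'W
      rw [hπx', s3] at h3
      exact h3
    -- the closure

    have hcN : ∀ m : MM V b, m ∈ LL.NB V b π → m = π c → False := by
      rintro m hm1 rfl
      obtain ⟨n, hn, hn1⟩ := (LL.mem_NB h hm.rq.right md).1 hm1
      have h3 : c ∈ nn (ws V b) (kq V b) := by
        rcases (md.eq_iff h hm.rq.right hn.1 hcW).1 hn1 with e | e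
        · rwa [← e]
        · have hbn : b ∈ nn (ws V b) (kq V b) := mem_nn.2 ⟨h.mem_ws_self hm.rq.right, fun k hk =>
            mem_centralizer_singleton_iff.mp (kq_le_centralizer V b hk)⟩
          have e1 : c = b * n := by rw [e, ← mul_assoc, h.pt_sq hm.rq.right, one_mul]
          rw [e1]
          exact mul_mem hbn hn
      have h4 := nn_inf_le h hm.rq.symm hm.ne_rq.symm ⟨h3, hcr⟩
      exact hc0 ((md.ker c hcW).2 ((mem_zpowers_iff_of_mul_self (h.pt_sq hm.rq.right)).1 h4))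
    have hdN : ∀ m : MM V b, m ∈ LL.NB V b π → m = π r + π c → False := by
      intro m hm1 e
      have hrc : r * c ∈ ws V b := mul_mem hrW hcW
      rw [← md.map_mul r hrW c hcW] at e
      rw [e] at hm1
      obtain ⟨n, hn, hn1⟩ := (LL.mem_NB h hm.rq.right md).1 hm1
      have h3 : r * c ∈ nn (ws V b) (kq V b) := by
        rcases (md.eq_iff h hm.rq.right hn.1 hrc).1 hn1 with e | e
        · rwa [← e]
        · have hbn : b ∈ nn (ws V b) (kq V b) := mem_nn.2 ⟨h.mem_ws_self hm.rq.right, fun k hk =>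
            mem_centralizer_singleton_iff.mp (kq_le_centralizer V b hk)⟩
          have e1 : r * c = b * n := by rw [e, ← mul_assoc, h.pt_sq hm.rq.right, one_mul]
          rw [e1]
          exact mul_mem hbn hn
      have h4 := nn_inf_le h hm.rq.symm hm.ne_rq.symm ⟨h3, mul_mem (h.mem_ws_self hm.rq.left) hcr⟩
      have h5 := (md.ker (r * c) hrc).2 ((mem_zpowers_iff_of_mul_self (h.pt_sq hm.rq.right)).1 h4)
      rw [md.map_mul r hrW c hcW] at h5
      apply hcl
      rw [← md.neg_eq h hm.rq.right (π c)]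
      exact eq_neg_of_add_eq_zero_left h5
    have hsN : ∀ m : MM V b, m ∈ LL.NB V b π → m = s • π c → False := by
      intro m hm1 e
      refine hcN _ (LL.smul_mem_NB h hm.rq.right md s⁻¹ hm1) ?_
      rw [e, inv_smul_smul]
    -- the action of `s u s⁻¹`
    set U' : centralizer ({b} : Set G) := s * ⟨u, hub⟩ * s⁻¹ with hU'
    have huc : (⟨u, hub⟩ : centralizer ({b} : Set G)) • π c = π c := by
      have h3 := md.smul ⟨u, hub⟩ c hcW
      rw [← h3]
      congr 1
      change u * c * u⁻¹ = c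
      exact conj_eq_of_comm (mem_centralizer_iff.mp (hm.toTwo.ws_le_cent hm.pr t.mem) c hcr).symm
    have hur : (⟨u, hub⟩ : centralizer ({b} : Set G)) • π r = π r := by
      have h3 := md.smul ⟨u, hub⟩ r hrW
      rw [← h3]
      congr 1
      change u * r * u⁻¹ = r
      exact conj_eq_of_comm (mem_centralizer_iff.mp (hm.toTwo.ws_le_cent hm.pr t.mem) r
        (h.mem_ws_self hm.rq.left)).symm
    have a1 : U' • s • π c = s • π c := by
      rw [hU', mul_smul, mul_smul, inv_smul_smul, huc]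
    have a2 : U' • s • π r = s • π r := by
      rw [hU', mul_smul, mul_smul, inv_smul_smul, hur]
    have a3 : U' • π c = π c + s • π c := by
      have h3 : U' • (s • π r + π c) = s • π r + π c + s • π c := s3
      rw [smul_add, a2, add_assoc] at h3
      exact add_left_cancel h3
    obtain ⟨v, hv, n, hn, hvn⟩ := mem_sup_of_comm (h.ws_comm hm.rq.right) (A := closure {x, x'})
      (by
        rw [closure_le]
        rintro y (rfl | rfl)
        · exact hxW
        · exact hx'W) (inf_le_left : nn (ws V b) (kq V b) ≤ ws V b) h1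
    have hnW : n ∈ ws V b := (mem_nn.1 hn).1
    have hnN : π n ∈ LL.NB V b π := (LL.mem_NB h hm.rq.right md).2 ⟨n, hn, rfl⟩
    have hvW : v ∈ ws V b ∧ (π v = 0 ∨ π v = s • π r ∨ π v = s • π r + π c ∨ π v = π c) := by
      have key : closure {x, x'} ≤
          { carrier := {v | v ∈ ws V b ∧ (π v = 0 ∨ π v = s • π r ∨ π v = s • π r + π c ∨ π v = π c)}
            one_mem' := ⟨one_mem _, Or.inl md.map_one⟩
            mul_mem' := by
              rintro v w ⟨hv, hv'⟩ ⟨hw, hw'⟩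
              refine ⟨mul_mem hv hw, ?_⟩
              have e1 : s • π r + (s • π r + π c) = π c := by rw [← add_assoc, hs, zero_add]
              have e2 : s • π r + π c + s • π r = π c := by rw [add_comm, e1]
              have e3 : s • π r + π c + π c = s • π r := by rw [add_assoc, hs, add_zero]
              have e4 : π c + (s • π r + π c) = s • π r := by rw [add_comm, e3]
              have e5 : π c + s • π r = s • π r + π c := add_comm _ _
              rw [md.map_mul v hv w hw]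
              rcases hv' with e | e | e | e <;> rcases hw' with e' | e' | e' | e' <;> rw [e, e'] <;>
                simp only [zero_add, add_zero, hs, e1, e2, e3, e4, e5, true_or, or_true]
            inv_mem' := by
              rintro v ⟨hv, hv'⟩
              refine ⟨inv_mem hv, ?_⟩
              rwa [inv_eq_of_mul_eq_one_left (h.ws_sq hm.rq.right v hv)] } := by
        refine (closure_le _).mpr ?_
        rintro v (rfl | rfl)
        · exact ⟨hxW, Or.inr (Or.inl hπx)⟩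
        · exact ⟨hx'W, Or.inr (Or.inr (Or.inl hπx'))⟩
      exact key hv
    have e0 : s • π r + π c + s • π c = π v + π n := by
      rw [← h2, ← md.map_mul v hvW.1 n hnW, ← hvn]
    have eN : π n = s • π r + π c + s • π c + π v := by
      rw [e0, add_comm (π v), add_assoc, hs, add_zero]
    have hinv : U' • π n + π n ∈ LL.NB V b π := add_mem (LL.smul_mem_NB h hm.rq.right md U' hnN) hnN
    rcases hvW.2 with e | e | e | e
    · refine hsN _ hinv ?_
      rw [eN, e, add_zero, smul_add, smul_add, a1, a2, a3]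
      have : s • π r + (π c + s • π c) + s • π c + (s • π r + π c + s • π c) =
        (s • π r + s • π r) + (π c + π c) + (s • π c + s • π c) + s • π c := by abel
      rw [this, hs (s • π r), hs (π c), hs (s • π c), zero_add, zero_add, zero_add]
    · refine hsN _ hinv ?_
      rw [eN, e]
      have e6 : s • π r + π c + s • π c + s • π r = π c + s • π c := by
        have : s • π r + π c + s • π c + s • π r = (s • π r + s • π r) + (π c + s • π c) := by abel
        rw [this, hs, zero_add]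
      rw [e6, smul_add, a1, a3]
      have : π c + s • π c + s • π c + (π c + s • π c) =
        (π c + π c) + (s • π c + s • π c) + s • π c := by abel
      rw [this, hs (π c), hs (s • π c), zero_add, zero_add]
    · refine hsN _ hnN ?_
      rw [eN, e]
      have : s • π r + π c + s • π c + (s • π r + π c) =
        (s • π r + s • π r) + (π c + π c) + s • π c := by abel
      rw [this, hs (s • π r), hs (π c), zero_add, zero_add]
    · refine hdN (s⁻¹ • π n) (LL.smul_mem_NB h hm.rq.right md s⁻¹ hnN) ?_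
      rw [eN, e]
      have : s • π r + π c + s • π c + π c = s • (π r + π c) := by
        rw [smul_add]
        have : s • π r + π c + s • π c + π c = s • π r + s • π c + (π c + π c) := by abel
        rw [this, hs, add_zero]
      rw [this, inv_smul_smul]
  refine ⟨x, ⟨hm, hbx, t.mem, by rw [← hx'def]; exact hxx', by rw [← hx'def]; exact hD⟩, ?_⟩
  by_contra hncom
  apply hncom
  refine t.com_of_le hm hin hc hbx ?_
  have hM : Mid T V z x b r := { hm.toTwo with pr := hbx.symm, rq := hm.rq.symm, ne := hncom }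
  have hin' : rr V x r ≤ ws V b :=
    rr_le_of_D hm.toTwo hm.pr hm.rq.symm hbx t.mem (by rw [← hx'def]; exact hD)
  -- `D_xr ≤ ⟨b⟩`
  intro d hd
  have hd1 : d ∈ xx V b r := by
    rw [xx_symm hm.toTwo hm.rq.symm hm.ne_rq.symm]
    revert hd d
    refine (closure_le _).mpr ?_
    rintro _ ⟨w, hw, w', hw', rfl⟩
    exact subset_closure (Or.inr ⟨w', hw', w, hM.bl hin' hw, rfl⟩)
  have hd2 : d ∈ xx V b x := by
    rw [xx_symm hm.toTwo hbx hxb.symm]
    clear hd1
    rw [rr_comm] at hd hin'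
    revert hd d
    refine (closure_le _).mpr ?_
    rintro _ ⟨w, hw, w', hw', rfl⟩
    exact subset_closure (Or.inr ⟨w', hw', w, hM.symm.bl hin' hw, rfl⟩)
  have hdW : d ∈ ws V b := hin' hd
  have c1 := t.xx_cases hm hin md hc hd1
  have hd3 : (s : G)⁻¹ * d * (s : G) ∈ xx V b r := by
    have h1 := conj_mem_xx (s : G)⁻¹ hd2
    have e1 : (s : G)⁻¹ * b * (s : G)⁻¹⁻¹ = b :=
      conj_eq_of_comm (mem_centralizer_singleton_iff.mp (inv_mem s.2))
    have e2 : (s : G)⁻¹ * x * (s : G)⁻¹⁻¹ = r := by rw [hxdef]; group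
    rwa [e1, e2, inv_inv] at h1
  have c2 := t.xx_cases hm hin md hc hd3
  have e3 : π d = s • π ((s : G)⁻¹ * d * (s : G)) := by
    have hd4 : (s : G)⁻¹ * d * (s : G) ∈ ws V b := (xx_le hm.toTwo hm.rq.symm hd3).1
    rw [← md.smul s _ hd4]
    congr 1
    group
  have hd0 : π d = 0 := by
    refine s4 _ c1 ?_
    rw [e3]
    rcases c2 with e | e | e | e
    · left; rw [e, smul_zero]
    · right; left; rw [e]
    · right; right; left; rw [e, smul_add]
    · right; right; right; rw [e]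
  exact (mem_zpowers_iff_of_mul_self (h.pt_sq hm.rq.right)).mpr ((md.ker d hdW).1 hd0)

/-- **no inner pair** `(a, b)`, `D_ab ≰ ⟨r⟩`, such that `W_a` is generated by transvections of `M_b`, `N_b` arbitrary -/
theorem Mid.false_of_innerN (hm : Mid T V z a r b) (hin : rr V a b ≤ ws V r) (hr : ¬ rr V a b ≤ zpowers r)
    (beta : ∀ a r b x f, DT T V z a r b x f → ¬ Com V x r)
    (hgen : ws V a ≤ closure {u | u ∈ ws V a ∧ ∃ c, ∀ w ∈ ws V b, u * w * u⁻¹ = w ∨ u * w * u⁻¹ = c * w}) : False := by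
  obtain ⟨c, u, hc, t⟩ := hm.exists_trW hr hgen
  obtain ⟨y, hy, hcom⟩ := t.oppN hm hin (t.np hm hin hc)
  exact beta _ _ _ _ _ hy hcom

/-- (D) fails for all `(f, h)`, if not TYPE N -/
theorem Mid.bad_of {f h : G} (s : Alpha.Sit T V z a r b f h) (hN : ¬ TyN T V z)
    (beta : ∀ a r b x f, DT T V z a r b x f → ¬ Com V x r)
    (inn : ∀ a r b, Mid T V z a r b → rr V a b ≤ ws V r → ws V a ≤ closure {u | u ∈ ws V a ∧
      ∃ c, ∀ w ∈ ws V b, u * w * u⁻¹ = w ∨ u * w * u⁻¹ = c * w}) :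
    ¬ ws V (h * r * h⁻¹) ⊓ ws V (f * (h * r * h⁻¹) * f⁻¹) ≤ ws V b := by
  intro hD
  have hdt : DT T V z a r b (h * r * h⁻¹) f :=
    { mid := s.mid
      col := s.bx
      mem := s.f_mem
      ne := s.fx_ne
      le := hD }
  have hcom := beta _ _ _ _ _ hdt
  have hm' : Mid T V z (h * r * h⁻¹) b r :=
    { s.mid.toTwo with pr := hdt.col.symm, rq := s.mid.rq.symm, ne := hcom }
  have hin : rr V (h * r * h⁻¹) r ≤ ws V b :=
    rr_le_of_D s.mid.toTwo s.mid.pr s.mid.rq.symm hdt.col hdt.mem hdt.le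
  exact hm'.false_of_innerN hin (s.not_le hN hcom) beta (inn _ _ _ hm' hin)

end

/-- **(BAD)** : (NO) implies that (D) fails for all `(f, h)` of all critical pairs (distance 2) -/
theorem Mid.bad [Finite G] (hML : MLK.{u, u}) {f h : G} (s : Alpha.Sit T V z a r b f h)
    (hK : ∀ p : G, Col V p p → IsKGroup (centralizer ({p} : Set G))) :
    ¬ ws V (h * r * h⁻¹) ⊓ ws V (f * (h * r * h⁻¹) * f⁻¹) ≤ ws V b := by
  have no := nom_of_mlk hML s.mid.fr hK
  have hM : Inn.Grp.NoM V := fun p hp => noHP_of hML s.mid.fr (hK p hp) (md_MM s.mid.fr hp)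
  exact Mid.bad_of s (fun hN => TypeN.false_of_tyN hN s.mid) (Beta.beta no) fun _ _ _ h' hr =>
    Inn.FiveBeg.inn h' hM hr

/-- **no (D)-mover** at critical distance 2, over `Cr V 2` (helper56 #21024) -/
theorem noD_two [Finite G] (hML : MLK.{u, u}) (hF : Fr T V z)
    (hK : ∀ p : G, Col V p p → IsKGroup (centralizer ({p} : Set G))) {p q r : G} (hc : Cr V 2 p q)
    (hpr : Col V p r) (hrq : Col V r q) {f h : G} (hf : f ∈ ws V q) (hhp : h * p = p * h)
    (ho : Odd (orderOf h)) (hi : f * h * f⁻¹ = h⁻¹) (hh : h ≠ 1) :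
    ¬ ws V (h * r * h⁻¹) ⊓ ws V (f * (h * r * h⁻¹) * f⁻¹) ≤ ws V p :=
  Mid.bad hML (a := q) (r := r) (b := p)
    ⟨⟨⟨hF, hc.min⟩, hrq.symm, hpr.symm, fun e => hc.ne e.symm⟩, hf, ⟨hhp, ho, hi⟩, hh⟩ hK

end Cfsg.Agent.Omega.NO3S.TwoMid

end

section


/-!
# The world `W0` (#21024 of helper56) at critical distance 2

* `nosw_two` : no `x ∼ p`, `f ∈ W_q` with `x^f = p x` (`p ∉ W_q`);
* `wz_two` : the world `Wz T V z 2` from (ML).
-/

set_option autoImplicit false
set_option linter.unusedSectionVars false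

namespace Cfsg.Agent.Omega.NO3S.WZero

open Subgroup Cfsg Cfsg.Agent.ZN Cfsg.Agent.MinSimple.Geo Cfsg.Agent.Omega.CaseL Cfsg.Agent.Omega.NO3S.TwoOne
open Cfsg.Agent.Omega.NO3S.Pt
open Cfsg.Agent.Omega.NO3S.Dual (nn mem_nn DW)
open Cfsg.Agent.Omega.NO3S.TwoMid
open Cfsg.Agent.Omega.ML.Final (MLK)

universe u

variable {G : Type u} [Group G] [Finite G] {T V : Subgroup G} {z p q : G}

/-- a critical pair at distance 2 with its middle -/
theorem exists_mid_two (h : Fr T V z) (hc : Cr V 2 p q) : ∃ r, Mid T V z q r p := by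
  obtain ⟨r, h1, h2⟩ := hc.path.exists_mid
  exact ⟨r, ⟨⟨h, hc.min⟩, h2.symm, h1.symm, fun e => hc.ne e.symm⟩⟩

theorem nosw_two (h : Fr T V z) (hc : Cr V 2 p q) {x f : G} (hx : Col V p x) (hf : f ∈ ws V q) :
    f * x * f⁻¹ ≠ p * x := by
  obtain ⟨r, hm⟩ := exists_mid_two h hc
  intro e
  have hxW : x ∈ ws V p := h.mem_ws_of_col hx
  have h1 : f * x * f⁻¹ * x⁻¹ = p := by rw [e, mul_inv_cancel_right]
  have h2 := comm_mem_rr hf hxW
  rw [h1] at h2
  exact hm.not_mem' (mem_inf.mp (hm.rr_le h2)).1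

/-- **the world `W0`, `n = 2`** -/
theorem wz_two (hML : MLK.{u, u}) (h : Fr T V z)
    (hK : ∀ p : G, Col V p p → IsKGroup (centralizer ({p} : Set G))) (hno : NoOv V) : Wz T V z 2 where
  fr := h
  two := le_rfl
  noov := hno
  nosw := fun _ _ hc _ _ hx _ hf => nosw_two h hc hx hf
  noD := fun _ _ _ hc hpr _ hrq _ _ hf hhp ho hi hh _ => noD_two hML h hK hc hpr hrq.col hf hhp ho hi hh

end Cfsg.Agent.Omega.NO3S.WZero

end

end
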